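import Cfsg.Agent.CharactersDeep.ExtensionCriteria
import Cfsg.Agent.CharactersDeep.Gallagher
import Cfsg.Agent.CharactersDeep.Clifford
import Cfsg.Agent.Characters.Classes

/-!
# Characters over a character of a normal subgroup with cyclic quotient

They are as many as the index of the subgroup in the inertia group.
-/

set_option autoImplicit false
set_option linter.style.haveILetI false
set_option linter.unusedSectionVars false

namespace CfsgLib.DefectOne

open Cfsg
open CfsgLib.CharactersDeep CfsgLib.OddOrderChar CfsgLib.Characters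
open scoped ComplexConjugate

universe u v

variable {H : Type u} [Group H] [Fintype H] (K : Subgroup H) [K.Normal] [Fintype K]

open Classical in
/-- The inertia group. -/
noncomputable def inertia (θ : K → ℂ) : Subgroup H where
  carrier := {h | conjBy K θ h = θ}
  one_mem' := conjBy_one K θ
  mul_mem' := fun {a b} (ha : conjBy K θ a = θ) (hb : conjBy K θ b = θ) => by
    show conjBy K θ (a * b) = θ
    rw [← conjBy_mul, ha, hb]
  inv_mem' := fun {a} (ha : conjBy K θ a = θ) => by
    show conjBy K θ a⁻¹ = θ
    conv_lhs => rw [← ha, conjBy_mul, mul_inv_cancel, conjBy_one]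

theorem mem_inertia {θ : K → ℂ} {h : H} : h ∈ inertia K θ ↔ conjBy K θ h = θ := Iff.rfl

theorem le_inertia {θ : K → ℂ} (hθ : Cfsg.IsClassFunction K θ) : K ≤ inertia K θ := fun h hh => by
  rw [mem_inertia]
  funext x
  exact (congrArg θ (Subtype.ext (by simp))).trans (hθ x ⟨h, hh⟩)

/-- An irreducible character of a group with commutative multiplication has degree one. -/
theorem irr_one_of_comm {A : Type v} [Group A] [Finite A] (hc : ∀ a b : A, a * b = b * a)
    (χ : IrrCharacter A) : (χ : A → ℂ) 1 = 1 := by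
  classical
  haveI := Fintype.ofFinite A
  have hall : Nat.card {χ : Cfsg.IrrCharacter A // (χ : A → ℂ) 1 = 1} =
      Nat.card (Cfsg.IrrCharacter A) := by
    rw [card_linear_char, card_irrCharacter]
    have : commutator A = ⊥ := by
      rw [commutator_def, Subgroup.commutator_eq_bot_iff_le_centralizer]
      exact fun a _ => Subgroup.mem_centralizer_iff.2 fun b _ => hc b a
    rw [this, Subgroup.index_bot]
    refine Nat.card_eq_of_bijective ConjClasses.mk ⟨fun a b h => ?_, ConjClasses.mk_surjective⟩
    obtain ⟨c, hcc⟩ := isConj_iff.1 (ConjClasses.mk_eq_mk_iff_isConj.1 h)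
    rw [← hcc, hc c a, mul_inv_cancel_right]
  by_contra hne
  haveI := Fintype.ofFinite (Cfsg.IrrCharacter A)
  rw [Nat.card_eq_fintype_card, Nat.card_eq_fintype_card] at hall
  exact absurd hall (Fintype.card_subtype_lt (p := fun χ : Cfsg.IrrCharacter A => (χ : A → ℂ) 1 = 1)
    (x := χ) hne).ne

variable {K}

open Classical in
/-- Each character over `θ` has multiplicity one. -/
theorem multiplicity_one {A : Type*} [Group A] (f : H →* A) (hf : f.ker = K)
    (hcyc : IsCyclic f.range) {θ : K → ℂ} (hθ : Cfsg.IsIrrCharacter K θ) {χ : H → ℂ}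
    (hχ : Cfsg.IsIrrCharacter H χ) (h : Cfsg.classInner (fun k : K => χ k) θ ≠ 0) :
    Cfsg.classInner (fun k : K => χ k) θ = 1 := by
  set T := inertia K θ
  have hKT : K ≤ T := le_inertia K (isClassFunction_of_isIrr hθ)
  obtain ⟨ψ, e, he, hψ, -, hψK, hval⟩ :=
    Clifford.exists_induced_from_inertia K hθ T (fun g => Iff.rfl) hKT hχ h
  set K' := K.subgroupOf T
  haveI : K'.Normal := Subgroup.normal_subgroupOf
  let E : K' ≃* K := Subgroup.subgroupOfEquivOfLe hKT
  set θ' : K' → ℂ := fun x => θ (E x)
  have hθ' : Cfsg.IsIrrCharacter K' θ' := isIrr_comp E.toMonoidHom E.surjective hθ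
  haveI hcycq : IsCyclic (T ⧸ K') := by
    let g : T →* f.range := f.rangeRestrict.comp T.subtype
    have hg : g.ker = K' := by
      ext t
      rw [MonoidHom.mem_ker, Subgroup.mem_subgroupOf, ← hf, MonoidHom.mem_ker]
      simp [g, Subtype.ext_iff]
    let q : T ⧸ K' →* f.range := QuotientGroup.lift K' g hg.ge
    refine isCyclic_of_injective q ((injective_iff_map_eq_one q).2 fun x hx => ?_)
    obtain ⟨t, rfl⟩ := QuotientGroup.mk_surjective x
    rw [QuotientGroup.eq_one_iff, ← hg, MonoidHom.mem_ker]
    exact hx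
  have hinv : ∀ (t : T) (x : K'), θ' ⟨t * x * t⁻¹, (inferInstance : K'.Normal).conj_mem x x.2 t⟩ =
      θ' x := fun t x => congrFun (show conjBy K θ (t : H) = θ from t.2) (E x)
  obtain ⟨φ, hφ, hφK⟩ := ExtensionCriteria.extends_of_cyclic K' hθ' hinv hcycq
  have hres : (fun x : K' => ψ x) = (e : ℂ) • θ' := funext fun x => congrFun hψK (E x)
  have hφK' : (fun n : K' => φ n) = θ' := funext hφK
  have hne : Cfsg.classInner (fun n : K' => ψ n) (fun n : K' => φ n) ≠ 0 := by
    rw [hres, hφK', classInner_smul_left, classInner_isIrr_self hθ', mul_one]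
    exact_mod_cast he.ne'
  obtain ⟨β, hβ, hψe⟩ := Gallagher.exists_eq_prodInfl K' hφ
    (by rw [hφK']; exact hθ') hψ hne
  have hβ1 : β 1 = 1 := by
    letI := hcycq.commGroup
    exact irr_one_of_comm mul_comm ⟨β, hβ⟩
  have h2 := Gallagher.classInner_restrict_prodInfl K' (β := β) hφ (by rw [hφK']; exact hθ')
  rw [← hψe, hres, hφK', classInner_smul_left, classInner_isIrr_self hθ', mul_one, hβ1] at h2
  rw [hval, h2]

open Classical in
/-- The characters over `θ` are as many as the index of `K` in the inertia group. -/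
theorem card_over {A : Type*} [Group A] (f : H →* A) (hf : f.ker = K)
    (hcyc : IsCyclic f.range) {θ : K → ℂ} (hθ : Cfsg.IsIrrCharacter K θ) :
    Nat.card {χ : IrrCharacter H // Cfsg.classInner (fun k : K => (χ : H → ℂ) k) θ ≠ 0} *
      Nat.card K = Nat.card (inertia K θ) := by
  have hF : Cfsg.IsCharacter H (Cfsg.indFun K θ) :=
    isCharacter_indFun K (isCharacter_of_isIrr hθ)
  set S := {χ : IrrCharacter H // Cfsg.classInner (fun k : K => (χ : H → ℂ) k) θ ≠ 0}
  have hcoef : ∀ χ : IrrCharacter H, Cfsg.classInner (Cfsg.indFun K θ) (χ : H → ℂ) =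
      if Cfsg.classInner (fun k : K => (χ : H → ℂ) k) θ ≠ 0 then 1 else 0 := fun χ => by
    rw [classInner_indFun K θ (isClassFunction_of_isIrr χ.2), classInner_conj_symm]
    split_ifs with h
    · rw [multiplicity_one f hf hcyc hθ χ.2 h, map_one]
    · rw [not_not.1 h, map_zero]
  have h1 : (Nat.card S : ℂ) = Cfsg.classInner (Cfsg.indFun K θ) (Cfsg.indFun K θ) := by
    rw [classInner_eq_sum (isClassFunction_indFun K θ)]
    simp only [hcoef]
    rw [Nat.card_eq_fintype_card, Fintype.card_subtype, ← Finset.sum_boole]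
    exact Finset.sum_congr rfl fun χ _ => by split_ifs <;> simp
  have h2 : Cfsg.classInner (Cfsg.indFun K θ) (Cfsg.indFun K θ) =
      (Nat.card (inertia K θ) : ℂ) / (Nat.card K : ℂ) := by
    rw [classInner_indFun K θ (isClassFunction_indFun K θ),
      show (fun k : K => Cfsg.indFun K θ k) = (Nat.card K : ℂ)⁻¹ • ∑ g : H, conjBy K θ g from
        funext fun k => by rw [indFun_normal_apply, Pi.smul_apply, Finset.sum_apply, smul_eq_mul],
      classInner_smul_right, classInner_sum_right]
    have hterm : ∀ g : H, Cfsg.classInner θ (conjBy K θ g) = if g ∈ inertia K θ then 1 else 0 := by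
      intro g
      split_ifs with h
      · rw [show conjBy K θ g = θ from h, classInner_isIrr_self hθ]
      · exact classInner_isIrr_ne hθ (Clifford.isIrr_conjBy K hθ g) (Ne.symm h)
    rw [Finset.sum_congr rfl fun g _ => hterm g, Finset.sum_boole, map_inv₀, Complex.conj_natCast,
      ← Fintype.card_subtype, ← Nat.card_eq_fintype_card, div_eq_inv_mul]
  have h3 := h1.trans h2
  rw [eq_div_iff (Nat.cast_ne_zero.2 Nat.card_pos.ne')] at h3
  exact_mod_cast h3

end CfsgLib.DefectOne
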