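import Cfsg.Agent.BlocksCyclic.Invariant
import Mathlib.GroupTheory.QuotientGroup.Basic
import Mathlib.LinearAlgebra.Projection
import Mathlib.LinearAlgebra.Trace
import Mathlib.LinearAlgebra.Dual.Lemmas

/-!
# The invariants of a simple module modulo norms, for a subgroup of order `p`

For a simple module `S` the space of fixed points of `P` modulo the image of the sum over `P` is
acted on by scalars by the centre of the group algebra of `N(P)/P`; together these scalars
separate that centre.
-/

set_option autoImplicit false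
set_option linter.style.haveILetI false
set_option linter.unusedSectionVars false

namespace CfsgLib.DefectOne

open CfsgLib.BlocksCyclic

universe u v w

variable {k : Type v} [Field k] {G : Type u} [Group G] {p : ℕ}

/-- The normalizer modulo the subgroup. -/
abbrev NP (P : Subgroup G) :=
  Subgroup.normalizer (P : Set G) ⧸ P.subgroupOf (Subgroup.normalizer (P : Set G))

section Module

variable {S : Type w} [AddCommGroup S] [Module k S] [Module (MonoidAlgebra k G) S]
  [IsScalarTower k (MonoidAlgebra k G) S]

/-- The fixed points. -/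
def fixed (k : Type v) [Field k] (S : Type w) [AddCommGroup S] [Module k S]
    [Module (MonoidAlgebra k G) S] [IsScalarTower k (MonoidAlgebra k G) S] (P : Subgroup G) :
    Submodule k S where
  carrier := {v | ∀ u ∈ P, (act u : Module.End k S) v = v}
  zero_mem' := fun u _ => map_zero _
  add_mem' := fun {a b} ha hb u hu => by rw [map_add, ha u hu, hb u hu]
  smul_mem' := fun c a ha u hu => by rw [map_smul, ha u hu]

theorem mem_fixed {P : Subgroup G} {v : S} :
    v ∈ fixed k S P ↔ ∀ u ∈ P, (act u : Module.End k S) v = v := Iff.rfl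

theorem range_normP_le (P : Subgroup G) [Fintype P] :
    LinearMap.range (normP P : Module.End k S) ≤ fixed k S P := by
  rintro _ ⟨y, rfl⟩ u hu
  exact act_normP P hu y

theorem act_mem_fixed {P : Subgroup G} {n : G} (hn : n ∈ Subgroup.normalizer (P : Set G)) {v : S}
    (hv : v ∈ fixed k S P) : (act n : Module.End k S) v ∈ fixed k S P := fun u hu => by
  have h1 : n⁻¹ * u * n ∈ P := (Subgroup.mem_normalizer_iff.1 hn _).2 (by
    simpa [mul_assoc] using hu)
  rw [← act_mul_apply, show u * n = n * (n⁻¹ * u * n) by group, act_mul_apply, hv _ h1]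

theorem act_mem_range {P : Subgroup G} [Fintype P] {n : G}
    (hn : n ∈ Subgroup.normalizer (P : Set G)) {v : S}
    (hv : v ∈ LinearMap.range (normP P : Module.End k S)) :
    (act n : Module.End k S) v ∈ LinearMap.range (normP P : Module.End k S) := by
  obtain ⟨y, rfl⟩ := hv
  exact ⟨(act n : Module.End k S) y, (normP_comm P hn y).symm⟩

variable [Finite G]

/-- The operator of an element of the group algebra of the quotient. -/
noncomputable def op (P : Subgroup G) : MonoidAlgebra k (NP P) →ₗ[k] Module.End k S where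
  toFun z := z.coeff.sum fun h r => r • (act ((h.out : Subgroup.normalizer (P : Set G)) : G))
  map_add' a b := by
    rw [MonoidAlgebra.coeff_add]
    exact Finsupp.sum_add_index' (fun _ => zero_smul k _) (fun _ _ _ => add_smul _ _ _)
  map_smul' c a := by
    rw [MonoidAlgebra.coeff_smul, RingHom.id_apply, Finsupp.smul_sum,
      Finsupp.sum_smul_index' (fun _ => by rw [zero_smul])]
    exact Finsupp.sum_congr fun h _ => by rw [smul_assoc]

variable (P : Subgroup G)

theorem op_single (h : NP P) (r : k) : (op P (MonoidAlgebra.single h r) : Module.End k S) =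
    r • act ((h.out : Subgroup.normalizer (P : Set G)) : G) := by
  simp [op]

theorem act_out {v : S} (hv : v ∈ fixed k S P) (n : Subgroup.normalizer (P : Set G)) :
    (act (((QuotientGroup.mk n : NP P).out : Subgroup.normalizer (P : Set G)) : G) :
      Module.End k S) v = (act (n : G) : Module.End k S) v := by
  obtain ⟨u, hu⟩ := QuotientGroup.mk_out_eq_mul (P.subgroupOf (Subgroup.normalizer (P : Set G))) n
  rw [hu, Subgroup.coe_mul, act_mul_apply, hv _ (Subgroup.mem_subgroupOf.1 u.2)]

theorem op_mem_fixed {v : S} (hv : v ∈ fixed k S P) (z : MonoidAlgebra k (NP P)) :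
    (op P z : Module.End k S) v ∈ fixed k S P := by
  induction z using MonoidAlgebra.induction_linear with
  | zero => simp
  | add x y hx hy => rw [map_add, LinearMap.add_apply]; exact add_mem hx hy
  | single h r =>
    rw [op_single, LinearMap.smul_apply]
    exact Submodule.smul_mem _ _ (act_mem_fixed h.out.2 hv)

theorem op_mul {v : S} (hv : v ∈ fixed k S P) (a b : MonoidAlgebra k (NP P)) :
    (op P (a * b) : Module.End k S) v = (op P a : Module.End k S) ((op P b : Module.End k S) v) := by
  induction a using MonoidAlgebra.induction_linear with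
  | zero => simp
  | add x y hx hy => rw [add_mul, map_add, map_add, LinearMap.add_apply, LinearMap.add_apply, hx, hy]
  | single g r =>
    induction b using MonoidAlgebra.induction_linear with
    | zero => simp
    | add x y hx hy => rw [mul_add, map_add, map_add, LinearMap.add_apply, LinearMap.add_apply,
        map_add, hx, hy]
    | single h s =>
      rw [MonoidAlgebra.single_mul_single, op_single, op_single, op_single, LinearMap.smul_apply,
        LinearMap.smul_apply, LinearMap.smul_apply, map_smul, ← smul_smul]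
      congr 2
      conv_lhs => rw [← QuotientGroup.out_eq' g, ← QuotientGroup.out_eq' h, ← QuotientGroup.mk_mul]
      rw [act_out P hv, Subgroup.coe_mul, act_mul_apply]

theorem op_one {v : S} (hv : v ∈ fixed k S P) : (op P 1 : Module.End k S) v = v := by
  rw [MonoidAlgebra.one_def, op_single, one_smul, ← QuotientGroup.mk_one, act_out P hv,
    OneMemClass.coe_one, act_one, Module.End.one_apply]

theorem op_normP [Fintype P] (z : MonoidAlgebra k (NP P)) (y : S) :
    (op P z : Module.End k S) ((normP P : Module.End k S) y) =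
      (normP P : Module.End k S) ((op P z : Module.End k S) y) := by
  induction z using MonoidAlgebra.induction_linear with
  | zero => simp
  | add x y hx hy => rw [map_add, LinearMap.add_apply, LinearMap.add_apply, map_add, hx, hy]
  | single h r =>
    rw [op_single, LinearMap.smul_apply, LinearMap.smul_apply, map_smul, normP_comm P h.out.2]

theorem act_op_of_central {z : MonoidAlgebra k (NP P)} (hz : ∀ a, a * z = z * a) {v : S}
    (hv : v ∈ fixed k S P) {n : G} (hn : n ∈ Subgroup.normalizer (P : Set G)) :
    (act n : Module.End k S) ((op P z : Module.End k S) v) =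
      (op P z : Module.End k S) ((act n : Module.End k S) v) := by
  have h1 : ∀ w ∈ fixed k S P, (op P (MonoidAlgebra.single (QuotientGroup.mk
      (⟨n, hn⟩ : Subgroup.normalizer (P : Set G)) : NP P) (1 : k)) : Module.End k S) w =
        (act n : Module.End k S) w := fun w hw => by
    rw [op_single, one_smul, act_out P hw]
  rw [← h1 _ (op_mem_fixed P hv z), ← op_mul P hv, hz, op_mul P hv, h1 _ hv]

variable [Fact p.Prime] [CharP k p] [Fintype P] (hP : Nat.card P = p)

include hP

open Classical in
/-- Endomorphisms commuting with `P` act on fixed points modulo norms through a scalar after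
averaging over `N(P)`. -/
theorem exists_average [IsAlgClosed k] [IsSimpleModule (MonoidAlgebra k G) S] [FiniteDimensional k S]
    [Fintype G] [Fintype (G ⧸ P)] (f : Module.End k S)
    (hfu : ∀ u ∈ P, f * (act u : Module.End k S) = (act u : Module.End k S) * f) :
    ∃ c : k, ∀ v ∈ fixed k S P,
      (∑ q ∈ normCosets P, (act q.out : Module.End k S) (f ((act q.out⁻¹ : Module.End k S) v))) -
        c • v ∈ LinearMap.range (normP P : Module.End k S) := by
  set φ : G → Module.End k S := fun g => act g * f * act g⁻¹ with hφ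
  have hφr : ∀ g, ∀ u ∈ P, φ (g * u) = φ g := fun g u hu => by
    simp only [hφ, mul_inv_rev, act_mul]
    calc act g * act u * f * (act u⁻¹ * act g⁻¹)
        = act g * (act u * f * act u⁻¹) * act g⁻¹ := by simp only [mul_assoc]
      _ = act g * f * act g⁻¹ := by
        rw [← hfu u hu, mul_assoc f, ← act_mul, mul_inv_cancel, act_one, mul_one]
  set T : Module.End k S := ∑ q : G ⧸ P, φ q.out with hT
  have hTg : ∀ g : G, (act g : Module.End k S) * T = T * act g := by
    intro g
    rw [hT, Finset.mul_sum, Finset.sum_mul]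
    refine Fintype.sum_equiv (MulAction.toPerm g) _ _ fun q => ?_
    have hgq : g • q = QuotientGroup.mk (g * q.out) := by
      conv_lhs => rw [← QuotientGroup.out_eq' q]
      rfl
    show _ = φ (g • q).out * act g
    rw [hgq]
    obtain ⟨u, hu⟩ := QuotientGroup.mk_out_eq_mul P (g * q.out)
    rw [hu, hφr _ _ u.2]
    simp only [hφ, mul_inv_rev, act_mul, mul_assoc]
    rw [← act_mul g⁻¹ g, inv_mul_cancel, act_one, mul_one]
  let T' : Module.End (MonoidAlgebra k G) S :=
    { toFun := T
      map_add' := map_add T
      map_smul' := fun z x => by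
        simp only [RingHom.id_apply, smul_eq_sum_act z, map_sum, map_smul]
        refine Finset.sum_congr rfl fun h _ => ?_
        rw [← Module.End.mul_apply, ← hTg, Module.End.mul_apply] }
  obtain ⟨c, hc⟩ := (IsSimpleModule.algebraMap_end_bijective_of_isAlgClosed k
    (A := MonoidAlgebra k G) (V := S)).2 T'
  have hTv : ∀ x, T x = c • x := fun x => by
    have := congrArg (fun F : Module.End (MonoidAlgebra k G) S => F x) hc
    exact this.symm
  refine ⟨c, fun v hv => ?_⟩
  obtain ⟨y, hy⟩ := exists_normP_eq_coset_sum (k := k) (S := S) hP (fun g => φ g v)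
    (fun g u hu => by rw [hφr g u hu]) (fun u hu g => by
      show φ (u * g) v = _
      simp only [hφ, mul_inv_rev, act_mul, Module.End.mul_apply]
      rw [hv _ (P.inv_mem hu)])
  refine ⟨-y, ?_⟩
  rw [map_neg, ← hTv v, hT, LinearMap.sum_apply, hy]
  simp only [hφ, Module.End.mul_apply]
  abel

/-- Powers of `u - 1` are stable under the normalizer. -/
theorem act_mem_range_pow [Fintype G] {x : G} (hx : x ∈ P) (hx1 : x ≠ 1) (d : ℕ) {n : G}
    (hn : n ∈ Subgroup.normalizer (P : Set G)) {v : S}
    (hv : v ∈ LinearMap.range (((act x : Module.End k S) - 1) ^ d)) :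
    (act n : Module.End k S) v ∈ LinearMap.range (((act x : Module.End k S) - 1) ^ d) := by
  obtain ⟨z, rfl⟩ := hv
  have hx' : (⟨x, hx⟩ : P) ≠ 1 := fun e => hx1 (congrArg Subtype.val e)
  obtain ⟨i, hi⟩ := (isOfFinOrder_of_finite (⟨x, hx⟩ : P)).mem_powers_iff_mem_zpowers.2
    (mem_zpowers_of_prime_card hP hx'
      (g' := ⟨n * x * n⁻¹, (Subgroup.mem_normalizer_iff.1 hn x).1 hx⟩))
  have hi' : x ^ i = n * x * n⁻¹ := by simpa using congrArg Subtype.val hi
  have hpow : ∀ j : ℕ, (act (x ^ j) : Module.End k S) = act x ^ j := by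
    intro j
    induction j with
    | zero => rw [pow_zero, pow_zero, act_one]
    | succ j ih => rw [pow_succ, pow_succ, act_mul, ih]
  have hcomm : (act n : Module.End k S) * ((act x : Module.End k S) - 1) =
      ((act x : Module.End k S) - 1) * ((∑ j ∈ Finset.range i, (act x : Module.End k S) ^ j) * act n) := by
    rw [← mul_assoc, mul_geom_sum, mul_sub, mul_one, sub_mul, one_mul, ← hpow, ← act_mul, ← act_mul,
      hi', inv_mul_cancel_right]
  set T : Module.End k S := (act x : Module.End k S) - 1
  set s : Module.End k S := ∑ j ∈ Finset.range i, (act x : Module.End k S) ^ j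
  have hTs : Commute T s := ((Commute.sum_right _ _ _ fun j _ => Commute.pow_self _ j |>.symm).sub_left
    (Commute.one_left _))
  have key : ∀ e : ℕ, (act n : Module.End k S) * T ^ e = T ^ e * (s ^ e * act n) := by
    intro e
    induction e with
    | zero => simp
    | succ e ih =>
      rw [pow_succ' T e, ← mul_assoc, hcomm, mul_assoc, mul_assoc, ih, ← mul_assoc s,
        ((hTs.pow_left e).symm).eq, mul_assoc (T ^ e), ← mul_assoc s, ← pow_succ']
      simp only [mul_assoc]
  exact ⟨(s ^ d * act n : Module.End k S) z, by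
    rw [← Module.End.mul_apply, ← key, Module.End.mul_apply]⟩

open Classical in
/-- Central elements of the group algebra of `N(P)/P` act by scalars. -/
theorem exists_scalar [IsAlgClosed k] [IsSimpleModule (MonoidAlgebra k G) S] [FiniteDimensional k S]
    (hidx : ¬ p ∣ P.index) {z : MonoidAlgebra k (NP P)} (hz : ∀ a, a * z = z * a) :
    ∃ c : k, ∀ v ∈ fixed k S P,
      (op P z : Module.End k S) v - c • v ∈ LinearMap.range (normP P : Module.End k S) := by
  haveI := Fintype.ofFinite G
  haveI := Fintype.ofFinite (G ⧸ P)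
  by_cases hle : fixed k S P ≤ LinearMap.range (normP P : Module.End k S)
  · exact ⟨0, fun v hv => by rw [zero_smul, sub_zero]; exact hle (op_mem_fixed P hv z)⟩
  haveI : Nontrivial P := Finite.one_lt_card_iff_nontrivial.1 (hP ▸ (Fact.out : p.Prime).one_lt)
  obtain ⟨u₀, hu₀⟩ := exists_ne (1 : P)
  have hu₀' : (u₀ : G) ≠ 1 := fun e => hu₀ (Subtype.ext e)
  set NS := LinearMap.range (normP P : Module.End k S)
  set T : Module.End k S := (act (u₀ : G) : Module.End k S) - 1 with hT
  have hTfix : ∀ v ∈ fixed k S P, T v = 0 := fun v hv => by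
    rw [hT, LinearMap.sub_apply, hv _ u₀.2, Module.End.one_apply, sub_self]
  have hfix : ∀ v, T v = 0 → v ∈ fixed k S P := fun v hv u hu => by
    obtain ⟨i, hi⟩ := (isOfFinOrder_of_finite u₀).mem_powers_iff_mem_zpowers.2
      (mem_zpowers_of_prime_card hP hu₀ (g' := ⟨u, hu⟩))
    have hui : (u₀ : G) ^ i = u := by simpa using congrArg Subtype.val hi
    rw [hT, LinearMap.sub_apply, Module.End.one_apply, sub_eq_zero] at hv
    rw [← hui]
    clear hi hui hu
    induction i with
    | zero => rw [pow_zero, act_one, Module.End.one_apply]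
    | succ i ih => rw [pow_succ, act_mul_apply, hv, ih]
  -- the deepest layer
  let W : ℕ → Submodule k S := fun d => (fixed k S P ⊓ LinearMap.range (T ^ d)) ⊔ NS
  have hex : ∃ d, W (d + 1) = NS := ⟨p - 1, by
    refine sup_eq_right.2 (inf_le_right.trans ?_)
    rw [Nat.sub_add_cancel (Fact.out : p.Prime).one_le]
    rintro _ ⟨y, rfl⟩
    refine ⟨T y, ?_⟩
    rw [normP_eq_pow hP hu₀, ← Module.End.mul_apply, ← hT, ← pow_succ,
      Nat.sub_add_cancel (Fact.out : p.Prime).one_le]⟩
  set D := Nat.find hex
  have hD1 : fixed k S P ⊓ LinearMap.range (T ^ (D + 1)) ≤ NS := sup_eq_right.1 (Nat.find_spec hex)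
  have hWD : ¬ W D ≤ NS := by
    intro hle'
    rcases Nat.eq_zero_or_pos D with h0 | h0
    · refine hle fun v hv => hle' (Submodule.mem_sup_left ⟨hv, ?_⟩)
      rw [h0, pow_zero]; exact ⟨v, rfl⟩
    · exact Nat.find_min hex (show D - 1 < D by omega)
        (by rw [Nat.sub_add_cancel h0]; exact le_antisymm hle' le_sup_right)
  have hWfix : W D ≤ fixed k S P := sup_le inf_le_left (range_normP_le P)
  have hNSW : NS ≤ W D := le_sup_right
  have hWstab : ∀ n ∈ Subgroup.normalizer (P : Set G), ∀ v ∈ W D,
      (act n : Module.End k S) v ∈ W D := by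
    intro n hn v hv
    obtain ⟨a, ha, b, hb, rfl⟩ := Submodule.mem_sup.1 hv
    rw [map_add]
    exact Submodule.add_mem_sup ⟨act_mem_fixed hn ha.1, act_mem_range_pow P hP u₀.2 hu₀' D hn ha.2⟩
      (act_mem_range hn hb)
  -- maps into the deepest layer lift
  have hlift : ∀ g₀ : Module.End k S, (∀ v ∈ fixed k S P, g₀ v ∈ W D) → (∀ v ∈ NS, g₀ v ∈ NS) →
      ∃ f : Module.End k S, (∀ u ∈ P, f * (act u : Module.End k S) = (act u : Module.End k S) * f) ∧
        ∀ v ∈ fixed k S P, f v - g₀ v ∈ NS := by
    intro g₀ hg hgN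
    obtain ⟨U, hU⟩ := Submodule.exists_isCompl NS
    set π : Module.End k S := U.projection NS hU.symm with hπdef
    have hπ : ∀ x, x - π x ∈ NS := fun x => by
      obtain ⟨a, ha, b, hb, rfl⟩ := Submodule.mem_sup.1
        (hU.symm.sup_eq_top ▸ Submodule.mem_top (x := x) : x ∈ U ⊔ NS)
      rw [map_add, hπdef, Submodule.projection_apply_left hU.symm ⟨a, ha⟩,
        (Submodule.projection_apply_eq_zero_iff hU.symm).2 hb]
      simpa using hb
    -- basis of a complement of the norms inside the layer
    obtain ⟨V, hV⟩ := Submodule.exists_isCompl (NS.comap (fixed k S P ⊓ LinearMap.range (T ^ D)).subtype)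
    let b := Module.finBasis k V
    let w : Fin (Module.finrank k V) → S := fun l => ((b l : V) : (fixed k S P ⊓ LinearMap.range (T ^ D) : Submodule k S))
    let incl : V →ₗ[k] S := (Submodule.subtype _).comp V.subtype
    have hincl : ∀ x : V, incl x ∈ NS → x = 0 := fun x hx => by
      have h1 : (x : (fixed k S P ⊓ LinearMap.range (T ^ D) : Submodule k S)) ∈
          (NS.comap (fixed k S P ⊓ LinearMap.range (T ^ D)).subtype ⊓ V) := ⟨hx, x.2⟩
      rw [hV.inf_eq_bot, Submodule.mem_bot] at h1
      exact Subtype.ext h1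
    have hker : LinearMap.ker (π.comp incl) = ⊥ := by
      refine LinearMap.ker_eq_bot'.2 fun x hx => hincl x ?_
      have := hπ (incl x)
      rw [show π (incl x) = 0 from hx, sub_zero] at this
      exact this
    obtain ⟨sec, hsec⟩ := (π.comp incl).exists_leftInverse_of_injective hker
    -- the coordinates
    obtain ⟨R, hR⟩ := Submodule.exists_isCompl (fixed k S P ⊔ LinearMap.range (T ^ (D + 1)))
    have hcoord : ∀ l, ∃ Ψ : Module.Dual k S, (∀ x, Ψ ((T ^ (D + 1)) x) = 0) ∧
        ∀ v ∈ fixed k S P, Ψ v = b.repr (sec (π (g₀ v))) l := by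
      intro l
      let Φ : Module.Dual k S := (b.coord l).comp (sec.comp (π.comp g₀))
      have hΦ : ∀ v ∈ fixed k S P ⊓ LinearMap.range (T ^ (D + 1)), Φ v = 0 := fun v hv => by
        show b.repr (sec (π (g₀ v))) l = 0
        rw [show π (g₀ v) = 0 from (Submodule.projection_apply_eq_zero_iff hU.symm).2
          (hgN v (hD1 hv)), map_zero, map_zero, Finsupp.zero_apply]
      set F := fixed k S P
      set R' := LinearMap.range (T ^ (D + 1))
      obtain ⟨F', hF'⟩ := Submodule.exists_isCompl ((F ⊓ R').comap R'.subtype)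
      let R'' : Submodule k S := F'.map R'.subtype
      have hdisj : Disjoint F R'' := by
        rw [Submodule.disjoint_def]
        intro x hxF hxR
        obtain ⟨y, hy, rfl⟩ := Submodule.mem_map.1 hxR
        have : y ∈ ((F ⊓ R').comap R'.subtype ⊓ F') := ⟨⟨hxF, y.2⟩, hy⟩
        rw [hF'.inf_eq_bot, Submodule.mem_bot] at this
        rw [this, map_zero]
      obtain ⟨R0, hR0⟩ := Submodule.exists_isCompl (F ⊔ R'')
      have hc : IsCompl F (R'' ⊔ R0) := by
        refine ⟨hdisj.disjoint_sup_right_of_disjoint_sup_left hR0.disjoint, ?_⟩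
        rw [codisjoint_iff, ← sup_assoc, hR0.sup_eq_top]
      set πF := F.projection (R'' ⊔ R0) hc
      have hπF : ∀ v ∈ F, πF v = v := fun v hv => Submodule.projection_apply_left hc ⟨v, hv⟩
      refine ⟨Φ.comp πF, fun x => ?_, fun v hv => ?_⟩
      · obtain ⟨a, ha, c, hc', hac⟩ := Submodule.mem_sup.1
          (hF'.sup_eq_top ▸ Submodule.mem_top (x := (⟨_, ⟨x, rfl⟩⟩ : R')) :
            (⟨(T ^ (D + 1)) x, ⟨x, rfl⟩⟩ : R') ∈ (F ⊓ R').comap R'.subtype ⊔ F')
        have e : (T ^ (D + 1)) x = (a : S) + (c : S) := (congrArg Subtype.val hac).symm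
        rw [LinearMap.comp_apply, e, map_add, hπF (a : S) ha.1,
          show πF (c : S) = 0 from (Submodule.projection_apply_eq_zero_iff hc).2
            (Submodule.mem_sup_left (Submodule.mem_map_of_mem hc')), add_zero]
        exact hΦ _ ha
      · rw [LinearMap.comp_apply, hπF v hv]
        rfl
    choose Ψ hΨ1 hΨ2 using hcoord
    have hwz : ∀ l, ∃ z, (T ^ D) z = w l := fun l =>
      ((b l : V) : (fixed k S P ⊓ LinearMap.range (T ^ D) : Submodule k S)).2.2
    choose zz hzz using hwz
    have hwT : ∀ l, T (w l) = 0 := fun l => hTfix _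
      ((b l : V) : (fixed k S P ⊓ LinearMap.range (T ^ D) : Submodule k S)).2.1
    let fl : Fin (Module.finrank k V) → Module.End k S := fun l =>
      ∑ a ∈ Finset.range (D + 1), ((Ψ l).comp (T ^ (D - a))).smulRight ((T ^ a) (zz l))
    have hflx : ∀ l x, fl l x = ∑ a ∈ Finset.range (D + 1), Ψ l ((T ^ (D - a)) x) • (T ^ a) (zz l) :=
      fun l x => by simp [fl, LinearMap.sum_apply]
    have hflT : ∀ l, fl l * T = T * fl l := fun l => by
      refine LinearMap.ext fun x => ?_
      rw [Module.End.mul_apply, Module.End.mul_apply, hflx, hflx, map_sum]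
      simp only [map_smul, ← Module.End.mul_apply, ← pow_succ, ← pow_succ']
      rw [Finset.sum_range_succ', Finset.sum_range_succ, Nat.sub_zero, hΨ1, zero_smul, add_zero,
        show (T ^ (D + 1)) (zz l) = 0 by rw [pow_succ', Module.End.mul_apply, hzz, hwT],
        smul_zero, add_zero]
      refine Finset.sum_congr rfl fun a ha => ?_
      rw [Finset.mem_range] at ha
      rw [show D - (a + 1) + 1 = D - a by omega]
    refine ⟨∑ l, fl l, fun u hu => ?_, fun v hv => ?_⟩
    · have h0 : (∑ l, fl l) * (act (u₀ : G) : Module.End k S) =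
          (act (u₀ : G) : Module.End k S) * ∑ l, fl l := by
        have e : (act (u₀ : G) : Module.End k S) = T + 1 := by rw [hT, sub_add_cancel]
        rw [e, mul_add, add_mul, mul_one, one_mul, Finset.sum_mul, Finset.mul_sum]
        simp only [hflT]
      obtain ⟨i, hi⟩ := (isOfFinOrder_of_finite u₀).mem_powers_iff_mem_zpowers.2
        (mem_zpowers_of_prime_card hP hu₀ (g' := ⟨u, hu⟩))
      have hui : u = (u₀ : G) ^ i := by
        have := congrArg Subtype.val hi
        simpa using this.symm
      subst hui
      clear hi hu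
      induction i with
      | zero => rw [pow_zero, act_one, mul_one, one_mul]
      | succ i ih => rw [pow_succ, act_mul, ← mul_assoc, ih, mul_assoc, h0, ← mul_assoc]
    · have hfv : (∑ l, fl l) v = incl (sec (π (g₀ v))) := by
        rw [LinearMap.sum_apply]
        conv_rhs => rw [← b.sum_repr (sec (π (g₀ v))), map_sum]
        refine Finset.sum_congr rfl fun l _ => ?_
        rw [hflx, Finset.sum_eq_single D]
        · rw [Nat.sub_self, pow_zero, Module.End.one_apply, hzz, hΨ2 l v hv, map_smul]
          rfl
        · intro a ha hne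
          rw [Finset.mem_range] at ha
          obtain ⟨c, hc⟩ : ∃ c, D - a = c + 1 := ⟨D - a - 1, by omega⟩
          rw [hc, pow_succ, Module.End.mul_apply, hTfix v hv, map_zero, map_zero, zero_smul]
        · intro hno; exact absurd (Finset.mem_range.2 (Nat.lt_succ_self D)) hno
      rw [hfv]
      obtain ⟨a, ha, c, hc, hac⟩ := Submodule.mem_sup.1 (hg v hv)
      obtain ⟨a1, ha1, a2, ha2, ha12⟩ := Submodule.mem_sup.1
        (hV.sup_eq_top ▸ Submodule.mem_top (x := (⟨a, ha⟩ : (fixed k S P ⊓ LinearMap.range (T ^ D) : Submodule k S))) :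
          (⟨a, ha⟩ : (fixed k S P ⊓ LinearMap.range (T ^ D) : Submodule k S)) ∈
            NS.comap (fixed k S P ⊓ LinearMap.range (T ^ D)).subtype ⊔ V)
      have hgv : g₀ v = incl ⟨a2, ha2⟩ + ((a1 : S) + c) := by
        rw [← hac, show a = (a1 : S) + (a2 : S) from (congrArg Subtype.val ha12).symm]
        show _ = (a2 : S) + _
        abel
      have hmem : (a1 : S) + c ∈ NS := add_mem ha1 hc
      rw [hgv, map_add, (Submodule.projection_apply_eq_zero_iff hU.symm).2 hmem, add_zero,
        show sec (π (incl ⟨a2, ha2⟩)) = ⟨a2, ha2⟩ from LinearMap.congr_fun hsec ⟨a2, ha2⟩,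
        sub_add_cancel_left]
      exact neg_mem hmem
  -- averaging
  have havg : ∀ g₀ : Module.End k S, (∀ v ∈ fixed k S P, g₀ v ∈ W D) → (∀ v ∈ NS, g₀ v ∈ NS) →
      ∃ c : k, ∀ v ∈ fixed k S P,
        (∑ q ∈ normCosets P, (act q.out : Module.End k S) (g₀ ((act q.out⁻¹ : Module.End k S) v))) -
          c • v ∈ NS := by
    intro g₀ hg hgN
    obtain ⟨f, hfu, hfg⟩ := hlift g₀ hg hgN
    obtain ⟨c, hc⟩ := exists_average P hP f hfu
    refine ⟨c, fun v hv => ?_⟩
    have h2 : ∑ q ∈ normCosets P, ((act q.out : Module.End k S) (f ((act q.out⁻¹ : Module.End k S) v)) -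
        (act q.out : Module.End k S) (g₀ ((act q.out⁻¹ : Module.End k S) v))) ∈ NS :=
      Submodule.sum_mem _ fun q hq => by
        rw [← map_sub]
        exact act_mem_range (mem_normCosets.1 hq)
          (hfg _ (act_mem_fixed (Subgroup.inv_mem _ (mem_normCosets.1 hq)) hv))
    have h3 := sub_mem (hc v hv) h2
    rw [Finset.sum_sub_distrib] at h3
    convert h3 using 1
    abel
  have hn0 : ((normCosets P).card : k) ≠ 0 := natCast_card_normCosets_ne_zero hidx
  have hWall : fixed k S P ≤ W D := by
    obtain ⟨U, hU⟩ := Submodule.exists_isCompl (W D)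
    set π : Module.End k S := (W D).projection U hU
    have hπW : ∀ v ∈ W D, π v = v := fun v hv => Submodule.projection_apply_left hU ⟨v, hv⟩
    obtain ⟨c, hc⟩ := havg π (fun v _ => by
      show (W D).projection U hU v ∈ W D
      rw [Submodule.projection_apply hU]
      exact ((W D).projectionOnto U hU v).2)
      (fun v hv => by rw [hπW v (hNSW hv)]; exact hv)
    obtain ⟨v₀, hv₀, hv₀'⟩ := SetLike.not_le_iff_exists.1 hWD
    have hsum : ∀ v ∈ W D, ∑ q ∈ normCosets P,
        (act q.out : Module.End k S) (π ((act q.out⁻¹ : Module.End k S) v)) =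
          ((normCosets P).card : k) • v := fun v hv => by
      rw [Finset.sum_congr rfl (g := fun _ => v) fun q hq => by
        rw [hπW _ (hWstab _ (Subgroup.inv_mem _ (mem_normCosets.1 hq)) v hv), ← act_mul_apply,
          mul_inv_cancel, act_one, Module.End.one_apply], Finset.sum_const, Nat.cast_smul_eq_nsmul]
    have hcn : c = ((normCosets P).card : k) := by
      have h1 := hc v₀ (hWfix hv₀)
      rw [hsum v₀ hv₀, ← sub_smul] at h1
      by_contra hne
      have h4 := Submodule.smul_mem NS ((((normCosets P).card : k) - c)⁻¹) h1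
      rw [smul_smul, inv_mul_cancel₀ (sub_ne_zero.2 (Ne.symm hne)), one_smul] at h4
      exact hv₀' h4
    intro v hv
    have h1 := hc v hv
    have h2 : ∑ q ∈ normCosets P,
        (act q.out : Module.End k S) (π ((act q.out⁻¹ : Module.End k S) v)) ∈ W D :=
      Submodule.sum_mem _ fun q hq => hWstab _ (mem_normCosets.1 hq) _ (by
        show (W D).projection U hU _ ∈ W D
        rw [Submodule.projection_apply hU]
        exact ((W D).projectionOnto U hU _).2)
    have h3 := sub_mem h2 (hNSW h1)
    rw [sub_sub_cancel, hcn] at h3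
    have h4 := Submodule.smul_mem (W D) (((normCosets P).card : k)⁻¹) h3
    rwa [smul_smul, inv_mul_cancel₀ hn0, one_smul] at h4
  obtain ⟨c, hc⟩ := havg (op P z : Module.End k S) (fun v hv => hWall (op_mem_fixed P hv z))
    (by rintro _ ⟨y, rfl⟩; exact ⟨_, (op_normP P z y).symm⟩)
  refine ⟨((normCosets P).card : k)⁻¹ * c, fun v hv => ?_⟩
  have h1 := hc v hv
  rw [Finset.sum_congr rfl (g := fun _ => (op P z : Module.End k S) v) fun q hq => by
    rw [act_op_of_central P hz (act_mem_fixed (Subgroup.inv_mem _ (mem_normCosets.1 hq)) hv)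
      (mem_normCosets.1 hq), ← act_mul_apply, mul_inv_cancel, act_one, Module.End.one_apply],
    Finset.sum_const, ← Nat.cast_smul_eq_nsmul k] at h1
  have h4 := Submodule.smul_mem (LinearMap.range (normP P : Module.End k S))
    (((normCosets P).card : k)⁻¹) h1
  rwa [smul_sub, smul_smul, inv_mul_cancel₀ hn0, one_smul, smul_smul] at h4

end Module

end CfsgLib.DefectOne
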