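import Cfsg.Agent.DefectOne.Vectors
import Cfsg.Agent.DefectOne.CyclicOver
import Cfsg.Agent.DefectOne.Invariants

/-!
# The characters of the normalizer modulo `P` over an orbit

For a character `φ` of `K` there are `e` characters of `N(P)/P` over it, where `e` is the index of
the centralizer in its stabilizer; different orbits give different characters.
-/

set_option autoImplicit false
set_option linter.style.haveILetI false
set_option linter.unusedSectionVars false

namespace CfsgLib.DefectOne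

open Cfsg CfsgLib.Characters CfsgLib.OddOrderChar

universe u

variable {G : Type u} [Group G] {p : ℕ} [Fact p.Prime] [Fintype G]

namespace Local

variable (L : Local p G)

/-- The quotient map. -/
noncomputable def quo : L.N →* NP (L.P : Subgroup G) := QuotientGroup.mk' _

/-- The image of `K`. -/
noncomputable def Kb : Subgroup (NP (L.P : Subgroup G)) := (L.K.subgroupOf L.N).map L.quo

theorem K_le_N : L.K ≤ L.N :=
  L.le_centralizer.trans (Subgroup.centralizer_le_normalizer _)

theorem normal_Kb : L.Kb.Normal := by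
  refine Subgroup.Normal.map ⟨fun k hk n => ?_⟩ _ (QuotientGroup.mk'_surjective _)
  rw [Subgroup.mem_subgroupOf] at hk ⊢
  simpa using L.conj_mem_K n.2 hk

/-- `K` to its image. -/
noncomputable def toKbHom : L.K →* L.Kb :=
  (L.quo.comp (Subgroup.inclusion L.K_le_N)).codRestrict L.Kb fun k =>
    Subgroup.mem_map_of_mem L.quo (by rw [Subgroup.mem_subgroupOf]; exact k.2)

theorem toKbHom_bijective : Function.Bijective L.toKbHom := by
  refine ⟨fun k l h => ?_, fun ⟨_, k, hk, he⟩ => ⟨⟨(k : G), hk⟩, Subtype.ext he⟩⟩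
  have h1 : L.quo ⟨k, L.K_le_N k.2⟩ = L.quo ⟨l, L.K_le_N l.2⟩ := congrArg Subtype.val h
  have h2 := QuotientGroup.eq.1 h1
  rw [Subgroup.mem_subgroupOf] at h2
  have h3 : (((k⁻¹ * l : L.K)) : G) ∈ (L.P : Subgroup G) := by simpa using h2
  by_contra hne
  refine L.not_dvd_orderOf (k⁻¹ * l : L.K).2 ?_
  rw [L.orderOf_of_mem h3 fun e => hne (inv_mul_eq_one.1 (Subtype.ext e))]

/-- `K` as its image. -/
noncomputable def toKb : L.K ≃* L.Kb := MulEquiv.ofBijective L.toKbHom L.toKbHom_bijective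

theorem coe_toKb (k : L.K) :
    ((L.toKb k : L.Kb) : NP (L.P : Subgroup G)) = L.quo ⟨k, L.K_le_N k.2⟩ := rfl

/-- A character of `K` on the image. -/
noncomputable def thetaB (φ : IrrCharacter L.K) : L.Kb → ℂ :=
  fun x => (φ : L.K → ℂ) (L.toKb.symm x)

theorem isIrr_thetaB (φ : IrrCharacter L.K) : Cfsg.IsIrrCharacter L.Kb (L.thetaB φ) :=
  isIrr_comp L.toKb.symm.toMonoidHom L.toKb.symm.surjective φ.2

theorem conjBy_thetaB [L.Kb.Normal] (φ : IrrCharacter L.K) (n : L.N) :
    conjBy L.Kb (L.thetaB φ) (L.quo n) = L.thetaB (L.phiBy n φ) := by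
  funext x
  obtain ⟨k, rfl⟩ := L.toKb.surjective x
  show (φ : L.K → ℂ) (L.toKb.symm _) = (φ : L.K → ℂ) (L.autK n (L.toKb.symm (L.toKb k)))
  rw [MulEquiv.symm_apply_apply]
  refine congrArg (φ : L.K → ℂ) (L.toKb.symm_apply_eq.2 (Subtype.ext ?_))
  show L.quo n * L.quo ⟨k, L.K_le_N k.2⟩ * (L.quo n)⁻¹ = L.quo ⟨_, L.K_le_N (L.autK n k).2⟩
  rw [← map_inv, ← map_mul, ← map_mul]
  exact congrArg L.quo (Subtype.ext (L.coe_autK n k).symm)

theorem thetaB_injective : Function.Injective L.thetaB := fun φ φ' h => Subtype.ext (funext fun k => by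
  have := congrFun h (L.toKb k)
  simpa [thetaB] using this)

open Classical in
/-- The characters over an orbit. -/
abbrev Over [L.Kb.Normal] [Fintype L.Kb] (φ : IrrCharacter L.K) : Type u :=
  {χ : IrrCharacter (NP (L.P : Subgroup G)) //
    Cfsg.classInner (fun k : L.Kb => (χ : NP (L.P : Subgroup G) → ℂ) k) (L.thetaB φ) ≠ 0}

theorem stabCard_eq [L.Kb.Normal] [Fintype L.Kb] (φ : IrrCharacter L.K) :
    L.stabCard φ = p * (Nat.card (L.Over φ) * Nat.card L.K) := by
  classical
  haveI := Fintype.ofFinite (NP (L.P : Subgroup G))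
  obtain ⟨x, hx, hx1⟩ : ∃ x : G, x ∈ (L.P : Subgroup G) ∧ x ≠ 1 := by
    haveI : Nontrivial (L.P : Subgroup G) :=
      Finite.one_lt_card_iff_nontrivial.1 (by rw [L.card_P]; exact (Fact.out : p.Prime).one_lt)
    obtain ⟨x, hx⟩ := exists_ne (1 : (L.P : Subgroup G))
    exact ⟨x, x.2, fun e => hx (Subtype.ext e)⟩
  obtain ⟨θ, -, hθ⟩ := BlocksCyclic.exists_theta L.card_P hx hx1
  have hker : (L.P : Subgroup G).subgroupOf L.N ≤ θ.ker := fun n hn => by
    rw [MonoidHom.mem_ker, hθ]
    exact L.P_le_centralizer (Subgroup.mem_subgroupOf.1 hn)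
  let f : NP (L.P : Subgroup G) →* (ZMod p)ˣ := QuotientGroup.lift _ θ hker
  have hf : f.ker = L.Kb := by
    refine le_antisymm (fun h hh => ?_) ?_
    · obtain ⟨n, rfl⟩ := QuotientGroup.mk_surjective h
      have hn : (n : G) ∈ Subgroup.centralizer ((L.P : Subgroup G) : Set G) := (hθ n).1 hh
      obtain ⟨u, hu, k, hk, he⟩ := L.decomp _ hn
      refine ⟨⟨k, L.K_le_N hk⟩, by rw [SetLike.mem_coe, Subgroup.mem_subgroupOf]; exact hk, ?_⟩
      refine QuotientGroup.eq.2 (Subgroup.mem_subgroupOf.2 ?_)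
      show k⁻¹ * (n : G) ∈ _
      rw [he, (L.commute hu hk).eq, inv_mul_cancel_left]
      exact hu
    · rintro _ ⟨k, hk, rfl⟩
      rw [MonoidHom.mem_ker]
      exact (hθ k).2 (L.le_centralizer (Subgroup.mem_subgroupOf.1 hk))
  have h1 := card_over f hf inferInstance (L.isIrr_thetaB φ)
  set T := inertia L.Kb (L.thetaB φ)
  have h2 : L.stabCard φ = Nat.card (T.comap L.quo) := by
    refine Nat.card_congr (Equiv.subtypeEquivRight fun n => ?_)
    rw [Subgroup.mem_comap, mem_inertia, conjBy_thetaB]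
    exact ⟨fun h => by rw [h], fun h => L.thetaB_injective h⟩
  have h3 : Nat.card (T.comap L.quo) * T.index = p * Nat.card T * T.index := by
    have h4 := (T.comap L.quo).card_mul_index
    rw [Subgroup.index_comap_of_surjective _ (f := L.quo) (QuotientGroup.mk'_surjective _)] at h4
    rw [h4, mul_assoc, T.card_mul_index, Subgroup.card_eq_card_quotient_mul_card_subgroup
      ((L.P : Subgroup G).subgroupOf L.N), mul_comm]
    congr 1
    exact (Nat.card_congr (Subgroup.subgroupOfEquivOfLe Subgroup.le_normalizer).toEquiv).trans L.card_P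
  rw [h2, Nat.eq_of_mul_eq_mul_right (Nat.pos_of_ne_zero T.index_ne_zero_of_finite) h3, ← h1,
    Nat.card_congr L.toKb.toEquiv]

theorem orb_eq_of_over [L.Kb.Normal] [Fintype L.Kb] {φ φ' : IrrCharacter L.K}
    {χ : IrrCharacter (NP (L.P : Subgroup G))}
    (h : Cfsg.classInner (fun k : L.Kb => (χ : NP (L.P : Subgroup G) → ℂ) k) (L.thetaB φ) ≠ 0)
    (h' : Cfsg.classInner (fun k : L.Kb => (χ : NP (L.P : Subgroup G) → ℂ) k) (L.thetaB φ') ≠ 0) :
    L.orb φ = L.orb φ' := by
  haveI := Fintype.ofFinite (NP (L.P : Subgroup G))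
  obtain ⟨g, hg⟩ := CharactersDeep.Clifford.exists_conjBy_of_constituents L.Kb χ.2
    (L.isIrr_thetaB φ) (L.isIrr_thetaB φ') h h'
  obtain ⟨n, rfl⟩ := QuotientGroup.mk'_surjective _ g
  rw [show QuotientGroup.mk' _ n = L.quo n from rfl, conjBy_thetaB] at hg
  exact L.orb_eq_iff.2 ⟨n, L.thetaB_injective hg⟩

end Local

end CfsgLib.DefectOne
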