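import Cfsg.Agent.BlocksCyclic.Lattice

/-!
# The shape of integer vectors with Gram matrix `e J + 1`
-/

set_option autoImplicit false
set_option linter.style.haveILetI false

namespace CfsgLib.DefectOne

open CfsgLib.BlocksCyclic

variable {ι Q : Type*} [Fintype Q]

open Classical in
/-- The structure of integer vectors with Gram matrix `e J + 1`. -/
theorem gram_rows (e : ℕ) (s : Finset ι) (c : ι → Q → ℤ) [DecidableEq Q]
    (hgram : ∀ i j, ∑ x ∈ s, c x i * c x j = (e : ℤ) + if i = j then 1 else 0)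
    (hne : ∀ x ∈ s, ∃ i, c x i ≠ 0) (hcard : e + Fintype.card Q ≤ s.card) :
    s.card = e + Fintype.card Q ∧ ∀ x ∈ s,
      (∃ a : ℤ, (a = 1 ∨ a = -1) ∧ ∀ i, c x i = a) ∨
        (∃ i, ∃ a : ℤ, (a = 1 ∨ a = -1) ∧ ∀ j, c x j = if j = i then a else 0) := by
  rcases s.eq_empty_or_nonempty with rfl | ⟨x₀, hx₀⟩
  · exact ⟨le_antisymm (Nat.zero_le _) hcard, by simp⟩
  obtain ⟨i₀, -⟩ := hne x₀ hx₀
  set t : ℤ := ((Fintype.card Q : ℕ) : ℤ) with ht
  have ht1 : 1 ≤ t := by rw [ht]; exact_mod_cast Fintype.card_pos_iff.2 ⟨i₀⟩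
  let P : ι → Prop := fun x => ∃ i j, c x i ≠ c x j
  have hD : ∀ x ∈ s.filter P, 2 * (t - 1) ≤ ∑ i, ∑ j, (c x i - c x j) ^ 2 := fun x hx => by
    obtain ⟨a, b, hab⟩ := (Finset.mem_filter.1 hx).2
    exact two_mul_le_sum_sq_sub (c x) hab
  have hDsum : ∑ x ∈ s, ∑ i, ∑ j, (c x i - c x j) ^ 2 = 2 * (t * (t - 1)) := by
    rw [Finset.sum_comm]
    have : ∀ i, ∑ x ∈ s, ∑ j, (c x i - c x j) ^ 2 = 2 * (t - 1) := by
      intro i
      rw [Finset.sum_comm]
      have : ∀ j, ∑ x ∈ s, (c x i - c x j) ^ 2 = 2 - 2 * if i = j then 1 else 0 := by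
        intro j
        have hexp : ∀ x, (c x i - c x j) ^ 2 =
            c x i * c x i + c x j * c x j - 2 * (c x i * c x j) := fun x => by ring
        simp only [hexp, Finset.sum_sub_distrib, Finset.sum_add_distrib, ← Finset.mul_sum, hgram]
        split_ifs <;> ring
      rw [Finset.sum_congr rfl fun j _ => this j, Finset.sum_sub_distrib, ← Finset.mul_sum,
        Finset.sum_ite_eq, Finset.sum_const, Finset.card_univ, nsmul_eq_mul, if_pos (Finset.mem_univ i)]
      rw [ht]; ring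
    rw [Finset.sum_congr rfl fun i _ => this i, Finset.sum_const, Finset.card_univ, nsmul_eq_mul]
    rw [ht]; ring
  have hn1 : 2 * (t - 1) * ((s.filter P).card : ℤ) ≤ 2 * (t * (t - 1)) := by
    rw [← hDsum]
    calc 2 * (t - 1) * ((s.filter P).card : ℤ)
        = ∑ x ∈ s.filter P, 2 * (t - 1) := by
          rw [Finset.sum_const, nsmul_eq_mul]; ring
      _ ≤ ∑ x ∈ s.filter P, ∑ i, ∑ j, (c x i - c x j) ^ 2 := Finset.sum_le_sum hD
      _ ≤ _ := Finset.sum_le_sum_of_subset_of_nonneg (Finset.filter_subset _ _)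
          fun x _ _ => Finset.sum_nonneg fun i _ => Finset.sum_nonneg fun j _ => sq_nonneg _
  -- squared norms
  have hN : ∀ x ∈ s, (if P x then 1 else t) ≤ ∑ i, c x i ^ 2 := by
    intro x hx
    obtain ⟨i, hi⟩ := hne x hx
    split_ifs with h
    · calc (1 : ℤ) ≤ c x i ^ 2 := by have := sq_pos_iff.2 hi; omega
        _ ≤ _ := Finset.single_le_sum (fun j _ => sq_nonneg (c x j)) (Finset.mem_univ i)
    · calc t = ∑ _j : Q, (1 : ℤ) := by simp [ht]
        _ ≤ _ := Finset.sum_le_sum fun j _ => by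
          have hj : c x j = c x i := by
            by_contra hh; exact h ⟨j, i, hh⟩
          rw [hj]; have := sq_pos_iff.2 hi; omega
  have hNsum : ∑ x ∈ s, ∑ i, c x i ^ 2 = t * ((e : ℤ) + 1) := by
    rw [Finset.sum_comm, Finset.sum_congr rfl fun i _ => by
      rw [Finset.sum_congr rfl fun x _ => sq (c x i), hgram i i, if_pos rfl],
      Finset.sum_const, Finset.card_univ, nsmul_eq_mul]
  set n1 : ℤ := ((s.filter P).card : ℤ)
  set n0 : ℤ := ((s.filter fun x => ¬ P x).card : ℤ)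
  have hk : n1 + n0 = (s.card : ℤ) := by
    simp only [n1, n0]
    exact_mod_cast Finset.card_filter_add_card_filter_not (s := s) P
  have hlow : n1 + t * n0 ≤ t * ((e : ℤ) + 1) := by
    rw [← hNsum]
    refine le_trans (le_of_eq ?_) (Finset.sum_le_sum hN)
    rw [Finset.sum_ite, Finset.sum_const, Finset.sum_const, nsmul_eq_mul, nsmul_eq_mul]
    ring
  have hc : (e : ℤ) + t ≤ n1 + n0 := by rw [hk, ht]; exact_mod_cast hcard
  have h0 : (0 : ℤ) ≤ n1 := Nat.cast_nonneg _
  -- all inequalities are equalities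
  have heq : n1 + n0 = (e : ℤ) + t ∧ n1 + t * n0 = t * ((e : ℤ) + 1) := by
    rcases eq_or_lt_of_le ht1 with h | h
    · rw [← h] at hlow hc ⊢
      constructor <;> linarith
    · have h1 : n1 ≤ t := by nlinarith
      have h2 : n0 ≤ (e : ℤ) := by nlinarith
      constructor <;> nlinarith
  have hcard' : s.card = e + Fintype.card Q := by
    have : (s.card : ℤ) = (e : ℤ) + t := by rw [← hk]; exact heq.1
    rw [ht] at this
    exact_mod_cast this
  refine ⟨hcard', ?_⟩
  have hall : ∀ x ∈ s, (if P x then 1 else t) = ∑ i, c x i ^ 2 := by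
    refine (Finset.sum_eq_sum_iff_of_le hN).1 ?_
    rw [hNsum, ← heq.2, Finset.sum_ite, Finset.sum_const, Finset.sum_const, nsmul_eq_mul,
      nsmul_eq_mul]
    ring
  intro x hx
  obtain ⟨i, hi⟩ := hne x hx
  have hsq := hall x hx
  by_cases h : P x
  · right
    rw [if_pos h, Fintype.sum_eq_add_sum_compl i] at hsq
    have h1 : 1 ≤ c x i ^ 2 := by have := sq_pos_iff.2 hi; omega
    have h2 : 0 ≤ ∑ j ∈ ({i} : Finset Q)ᶜ, c x j ^ 2 := Finset.sum_nonneg fun j _ => sq_nonneg _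
    have h3 : ∑ j ∈ ({i} : Finset Q)ᶜ, c x j ^ 2 = 0 := by linarith
    refine ⟨i, c x i, sq_eq_one_iff.1 (by linarith), fun j => ?_⟩
    split_ifs with hji
    · rw [hji]
    · exact sq_eq_zero_iff.1 ((Finset.sum_eq_zero_iff_of_nonneg fun k _ => sq_nonneg (c x k)).1 h3 j
        (by simpa using hji))
  · left
    rw [if_neg h] at hsq
    have hj : ∀ j, c x j = c x i := fun j => by
      by_contra hh; exact h ⟨j, i, hh⟩
    simp only [hj, Finset.sum_const, Finset.card_univ, nsmul_eq_mul] at hsq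
    rw [← ht] at hsq
    have : c x i ^ 2 = 1 := by
      have h' : t * c x i ^ 2 = t * 1 := by rw [mul_one]; exact hsq.symm
      exact mul_left_cancel₀ (by linarith) h'
    exact ⟨c x i, sq_eq_one_iff.1 this, hj⟩

/-- At most `e + t` nonzero rows. -/
theorem card_rows_le (e : ℕ) (s : Finset ι) (c : ι → Q → ℤ) [DecidableEq Q]
    (hgram : ∀ i j, ∑ x ∈ s, c x i * c x j = (e : ℤ) + if i = j then 1 else 0)
    (hne : ∀ x ∈ s, ∃ i, c x i ≠ 0) : s.card ≤ e + Fintype.card Q := by
  by_contra h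
  exact h (gram_rows e s c hgram hne (Nat.le_of_not_le h)).1.le

end CfsgLib.DefectOne
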