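import Cfsg.Agent.DefectOne.Classes
import Cfsg.Agent.DefectOne.Quotient
import Cfsg.Agent.DefectOne.Rows
import Cfsg.Agent.Blocks.LocalRing

/-!
# The number of characters of degree prime to `p`

The coefficient vectors are counted against the classes of the normalizer; every inequality is an
equality, so over each orbit lie exactly `e + t` characters, with disjoint supports.
-/

set_option autoImplicit false
set_option linter.style.haveILetI false
set_option linter.unusedSectionVars false

namespace CfsgLib.DefectOne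

open Cfsg CfsgLib.Characters
open scoped ComplexConjugate

universe u

variable {G : Type u} [Group G] {p : ℕ} [Fact p.Prime] [Fintype G]

namespace Local

variable (L : Local p G)

/-- The integral coefficient at a column. -/
noncomputable def cint (χ : IrrCharacter G) (q : L.Col) : ℤ :=
  (L.exists_int_cvec χ (Quotient.out q : L.Pair)).choose

theorem cint_col (χ : IrrCharacter G) (a : L.Pair) : (L.cint χ (L.col a) : ℂ) = L.cvec χ a := by
  rw [cint, ← (L.exists_int_cvec χ (Quotient.out (L.col a) : L.Pair)).choose_spec]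
  obtain ⟨n, hn⟩ := L.col_eq_iff.1 (Quotient.out_eq (L.col a) : L.col (Quotient.out (L.col a)) = L.col a)
  conv_rhs => rw [hn, L.cvec_pairBy]

theorem col_out (q : L.Col) : L.col (Quotient.out q : L.Pair) = q := Quotient.out_eq q

theorem cint_eq (χ : IrrCharacter G) (q : L.Col) :
    (L.cint χ q : ℂ) = L.cvec χ (Quotient.out q : L.Pair) := by
  rw [← L.cint_col, L.col_out]

theorem under_out (q : L.Col) : L.orb (Quotient.out q : L.Pair).2 = L.under q := by
  conv_rhs => rw [← L.col_out q, under_col]

/-- The number of characters of the normalizer modulo `P` over an orbit. -/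
noncomputable def eO (O : L.Orb) : ℕ :=
  L.stabCard (Quotient.out O : IrrCharacter L.K) / (p * Nat.card L.K)

theorem stabCard_congr {φ φ' : IrrCharacter L.K} (h : L.orb φ = L.orb φ') :
    L.stabCard φ = L.stabCard φ' := by
  classical
  have h1 := L.card_phi_transporter φ φ'
  have h2 := L.card_phi_transporter φ' φ
  rw [if_pos h] at h1
  rw [if_pos h.symm] at h2
  rw [← h1, ← h2]
  refine Nat.card_congr
    { toFun := fun n => ⟨n.1⁻¹, ?_⟩
      invFun := fun n => ⟨n.1⁻¹, ?_⟩
      left_inv := fun n => Subtype.ext (inv_inv _)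
      right_inv := fun n => Subtype.ext (inv_inv _) }
  · have h3 := congrArg (L.phiBy n.1⁻¹) n.2.symm
    rwa [← L.phiBy_mul, mul_inv_cancel, L.phiBy_one] at h3
  · have h3 := congrArg (L.phiBy n.1⁻¹) n.2.symm
    rwa [← L.phiBy_mul, mul_inv_cancel, L.phiBy_one] at h3

theorem stabCard_eq_eO (φ : IrrCharacter L.K) :
    L.stabCard φ = L.eO (L.orb φ) * (p * Nat.card L.K) := by
  haveI := L.normal_Kb
  haveI := Fintype.ofFinite L.Kb
  rw [eO, L.stabCard_congr (φ := φ) (φ' := (Quotient.out (L.orb φ) : IrrCharacter L.K))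
    (Quotient.out_eq (L.orb φ)).symm, L.stabCard_eq, ← mul_assoc, mul_comm p, mul_assoc,
    Nat.mul_div_assoc _ dvd_rfl, Nat.div_self (mul_pos (Fact.out : p.Prime).pos Nat.card_pos), mul_one]

theorem eO_eq_over [L.Kb.Normal] [Fintype L.Kb] (O : L.Orb) :
    L.eO O = Nat.card (L.Over (Quotient.out O : IrrCharacter L.K)) := by
  rw [eO, L.stabCard_eq, ← mul_assoc, mul_comm p, mul_assoc, Nat.mul_div_assoc _ dvd_rfl,
    Nat.div_self (mul_pos (Fact.out : p.Prime).pos Nat.card_pos), mul_one]

theorem eO_pos (O : L.Orb) : 0 < L.eO O := by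
  by_contra h
  have h1 := L.stabCard_eq_eO (Quotient.out O : IrrCharacter L.K)
  rw [show L.orb (Quotient.out O : IrrCharacter L.K) = O from Quotient.out_eq O,
    Nat.eq_zero_of_not_pos h, zero_mul, stabCard] at h1
  haveI : Nonempty {n : L.N // L.phiBy n (Quotient.out O : IrrCharacter L.K) = Quotient.out O} :=
    ⟨⟨1, L.phiBy_one _⟩⟩
  exact Nat.card_pos.ne' h1

open Classical in
theorem gram_cint (q q' : L.Col) :
    ∑ χ : IrrCharacter G, L.cint χ q * L.cint χ q' =
      (if L.under q = L.under q' then (L.eO (L.under q) : ℤ) else 0) + if q = q' then 1 else 0 := by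
  have h := L.gram_cvec (Quotient.out q : L.Pair) (Quotient.out q' : L.Pair)
  simp only [← L.cint_eq, L.under_out, L.col_out] at h
  rw [L.stabCard_eq_eO, L.under_out, Nat.cast_mul, mul_div_assoc,
    div_self (Nat.cast_ne_zero.2 (mul_ne_zero (Fact.out : p.Prime).ne_zero Nat.card_pos.ne')),
    mul_one] at h
  apply Int.cast_injective (α := ℂ)
  push_cast
  refine h.trans ?_
  split_ifs <;> simp

open Classical in
theorem exists_cint_ne_zero (χ : IrrCharacter G) (hχ : ¬ p ∣ Cfsg.charDegree (χ : G → ℂ)) :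
    ∃ q, L.cint χ q ≠ 0 := by
  obtain ⟨a, ha⟩ := L.exists_cvec_ne_zero χ hχ
  exact ⟨L.col a, fun h => ha (by rw [← L.cint_col, h, Int.cast_zero])⟩

open Classical in
theorem sum_cvec_mul_regular (a : L.Pair) {g : G} (hg : ¬ p ∣ orderOf g) :
    ∑ χ : IrrCharacter G, L.cvec χ a * (χ : G → ℂ) g = 0 := by
  letI := Fintype.ofFinite L.PK
  calc ∑ χ : IrrCharacter G, L.cvec χ a * (χ : G → ℂ) g
      = ∑ χ : IrrCharacter G, conj (L.cvec χ a) * (χ : G → ℂ) g := by simp only [L.conj_cvec]
    _ = ∑ x : L.PK, (Nat.card L.PK : ℂ)⁻¹ * L.psi a x *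
          ∑ χ : IrrCharacter G, (χ : G → ℂ) g * conj ((χ : G → ℂ) (L.emb x)) := by
        simp only [Finset.mul_sum]
        rw [Finset.sum_comm]
        refine Finset.sum_congr rfl fun χ _ => ?_
        rw [L.cvec_eq, Cfsg.classInner]
        simp only [map_mul, map_sum, map_inv₀, Complex.conj_natCast, Complex.conj_conj, Local.res,
          Finset.mul_sum, Finset.sum_mul]
        exact Finset.sum_congr rfl fun x _ => by ring
    _ = 0 := Finset.sum_eq_zero fun x _ => by
        by_cases hx : x.1 = 1
        · rw [L.psi_eq_zero hx, mul_zero, zero_mul]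
        rw [sum_irr_mul_conj_of_not_isConj, mul_zero]
        refine Blocks.not_isConj_of_regular_singular hg ?_
        exact (L.dvd_orderOf_iff x.1.2 x.2.2).2 fun e => hx (Subtype.ext e)

theorem sum_cint_mul_regular (q : L.Col) {g : G} (hg : ¬ p ∣ orderOf g) :
    ∑ χ : IrrCharacter G, (L.cint χ q : ℂ) * (χ : G → ℂ) g = 0 := by
  classical
  simp only [L.cint_eq]
  exact L.sum_cvec_mul_regular _ hg

open Classical in
/-- The columns are at most as many as the singular classes. -/
theorem card_col_le : Nat.card L.Col ≤ Nat.card (SingCl p G) := by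
  haveI := L.finite_col
  haveI := Fintype.ofFinite L.Col
  haveI := Fintype.ofFinite (SingCl p G)
  let F : L.Col → SingCl p G → ℂ := fun q C =>
    ∑ χ : IrrCharacter G, (L.cint χ q : ℂ) * (χ : G → ℂ) (Quotient.out C.1)
  have hli : LinearIndependent ℂ F := by
    rw [Fintype.linearIndependent_iff]
    intro l hl
    set m : IrrCharacter G → ℂ := fun χ => ∑ q, l q * (L.cint χ q : ℂ) with hm
    have hall : ∀ g : G, ∑ χ : IrrCharacter G, m χ * (χ : G → ℂ) g = 0 := by
      intro g
      have hsplit : ∑ χ : IrrCharacter G, m χ * (χ : G → ℂ) g =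
          ∑ q, l q * ∑ χ : IrrCharacter G, (L.cint χ q : ℂ) * (χ : G → ℂ) g := by
        simp only [hm, Finset.mul_sum, Finset.sum_mul, mul_assoc]
        exact Finset.sum_comm
      rw [hsplit]
      by_cases hg : p ∣ orderOf g
      · obtain ⟨c, hc⟩ := isConj_iff.1 (ConjClasses.mk_eq_mk_iff_isConj.1
          (Quotient.out_eq (ConjClasses.mk g) : ConjClasses.mk (ConjClasses.mk g).out = _))
        have h1 := congrFun hl ⟨ConjClasses.mk g, by rwa [orderOf_out]⟩
        rw [Finset.sum_apply] at h1
        refine Eq.trans ?_ h1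
        refine Finset.sum_congr rfl fun q _ => ?_
        rw [Pi.smul_apply, smul_eq_mul]
        congr 1
        refine Finset.sum_congr rfl fun χ _ => ?_
        conv_lhs => rw [← hc, isClassFunction_of_isIrr χ.2]
      · exact Finset.sum_eq_zero fun q _ => by rw [L.sum_cint_mul_regular q hg, mul_zero]
    have hm0 : ∀ χ, m χ = 0 := fun χ => by
      have h := classInner_irr_coeff m χ
      rw [show (∑ ψ : IrrCharacter G, m ψ • (ψ : G → ℂ)) = 0 from funext fun g => by
        rw [Finset.sum_apply]; exact hall g, classInner_zero_left] at h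
      exact h.symm
    have hq : ∀ q', (L.eO (L.under q') : ℂ) *
        (∑ q ∈ Finset.univ.filter (fun q => L.under q = L.under q'), l q) + l q' = 0 := by
      intro q'
      have h1 : ∑ q, l q * ((∑ χ : IrrCharacter G, L.cint χ q * L.cint χ q' : ℤ) : ℂ) = 0 := by
        push_cast
        simp only [Finset.mul_sum, ← mul_assoc]
        rw [Finset.sum_comm]
        simp only [← Finset.sum_mul]
        exact Finset.sum_eq_zero fun χ _ => by rw [show (∑ q, l q * (L.cint χ q : ℂ)) = m χ from rfl, hm0, zero_mul]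
      simp only [L.gram_cint] at h1
      push_cast at h1
      simp only [mul_add, mul_ite, mul_zero, mul_one, Finset.sum_add_distrib, Finset.sum_ite_eq',
        Finset.mem_univ, if_true, Int.cast_natCast] at h1
      rw [Finset.mul_sum, Finset.sum_filter]
      refine Eq.trans ?_ h1
      congr 1
      refine Finset.sum_congr rfl fun q _ => ?_
      split_ifs with h
      · rw [h, mul_comm]
      · rfl
    intro q
    set S := ∑ q' ∈ Finset.univ.filter (fun q' => L.under q' = L.under q), l q'
    have hS : ((L.eO (L.under q) : ℂ) *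
        ((Finset.univ.filter (fun q' => L.under q' = L.under q)).card : ℕ) + 1) * S = 0 := by
      have h2 : ∑ q' ∈ Finset.univ.filter (fun q' => L.under q' = L.under q),
          ((L.eO (L.under q) : ℂ) * S + l q') = 0 := Finset.sum_eq_zero fun q' hq' => by
        have h3 := hq q'
        rw [(Finset.mem_filter.1 hq').2] at h3
        exact h3
      rw [Finset.sum_add_distrib, Finset.sum_const, nsmul_eq_mul] at h2
      linear_combination h2
    have hS0 : S = 0 := (mul_eq_zero.1 hS).resolve_left (by rw [← Nat.cast_mul]; exact Nat.cast_add_one_ne_zero _)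
    have := hq q
    linear_combination this - (L.eO (L.under q) : ℂ) * hS0
  have := hli.fintype_card_le_finrank
  rw [Module.finrank_fintype_fun_eq_card] at this
  rwa [Nat.card_eq_fintype_card, Nat.card_eq_fintype_card]

/-- The columns over an orbit. -/
abbrev ColOver (O : L.Orb) : Type u := {q : L.Col // L.under q = O}

/-- The characters with a nonzero coefficient over an orbit. -/
abbrev Supp (O : L.Orb) : Type u := {χ : IrrCharacter G // ∃ q : L.ColOver O, L.cint χ q.1 ≠ 0}

theorem gram_over (O : L.Orb) [Fintype (L.ColOver O)] [DecidableEq (L.ColOver O)]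
    [Fintype (L.Supp O)] [DecidablePred fun χ : IrrCharacter G => ∃ q : L.ColOver O, L.cint χ q.1 ≠ 0]
    (i j : L.ColOver O) :
    ∑ χ ∈ Finset.univ.filter (fun χ : IrrCharacter G => ∃ q : L.ColOver O, L.cint χ q.1 ≠ 0),
      L.cint χ i.1 * L.cint χ j.1 = (L.eO O : ℤ) + if i = j then 1 else 0 := by
  classical
  rw [Finset.sum_filter_of_ne fun χ _ h => ⟨i, left_ne_zero_of_mul h⟩, L.gram_cint,
    if_pos (i.2.trans j.2.symm), i.2]
  congr 1
  exact if_congr Subtype.ext_iff.symm rfl rfl

open Classical in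
theorem card_supp_le (O : L.Orb) : Nat.card (L.Supp O) ≤ L.eO O + Nat.card (L.ColOver O) := by
  haveI := L.finite_col
  haveI := Fintype.ofFinite (L.ColOver O)
  rw [Nat.card_eq_fintype_card, Fintype.card_subtype, Nat.card_eq_fintype_card (α := L.ColOver O)]
  exact card_rows_le (L.eO O) _ (fun χ (q : L.ColOver O) => L.cint χ q.1) (L.gram_over O)
    fun χ hχ => (Finset.mem_filter.1 hχ).2

open Classical in
theorem sum_eO_le [Fintype L.Orb] :
    ∑ O, L.eO O ≤ Nat.card (ConjClasses (NP (L.P : Subgroup G))) := by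
  haveI := L.normal_Kb
  haveI := Fintype.ofFinite L.Kb
  rw [Finset.sum_congr rfl fun O _ => L.eO_eq_over O, ← Nat.card_sigma,
    ← card_irrCharacter (G := NP (L.P : Subgroup G))]
  refine Nat.card_le_card_of_injective
    (fun x : Σ O : L.Orb, L.Over (Quotient.out O : IrrCharacter L.K) => x.2.1) ?_
  rintro ⟨O, χ, hχ⟩ ⟨O', χ', hχ'⟩ h
  dsimp only at h
  subst h
  obtain rfl : O = O' := by
    have := L.orb_eq_of_over hχ hχ'
    exact (Quotient.out_eq O).symm.trans (this.trans (Quotient.out_eq O'))
  rfl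

/-- The count. -/
theorem counting : (Nat.card {χ : IrrCharacter G // ¬ p ∣ Cfsg.charDegree (χ : G → ℂ)} =
      Nat.card (ConjClasses L.N)) ∧
    (∀ χ : IrrCharacter G, ¬ p ∣ Cfsg.charDegree (χ : G → ℂ) ↔ ∃ q, L.cint χ q ≠ 0) ∧
    (∀ O : L.Orb, Nat.card (L.Supp O) = L.eO O + Nat.card (L.ColOver O)) ∧
    ∀ (χ : IrrCharacter G) (q q' : L.Col), L.cint χ q ≠ 0 → L.cint χ q' ≠ 0 →
      L.under q = L.under q' := by
  classical
  obtain ⟨M, hM⟩ := Blocks.exists_isPModular p Fact.out
  haveI := Blocks.IsPModular.isPrime hM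
  haveI := L.finite_col
  haveI := L.finite_orb
  haveI := Fintype.ofFinite L.Orb
  haveI := Fintype.ofFinite L.Col
  set PP := {χ : IrrCharacter G // ¬ p ∣ Cfsg.charDegree (χ : G → ℂ)}
  set U := {χ : IrrCharacter G // ∃ q, L.cint χ q ≠ 0}
  let incl : PP → U := fun χ => ⟨χ.1, L.exists_cint_ne_zero χ.1 χ.2⟩
  have hincl : Function.Injective incl := fun a b h => Subtype.ext (congrArg (fun x : U => x.1) h)
  let fromSigma : (Σ O : L.Orb, L.Supp O) → U := fun x =>
    ⟨x.2.1, (x.2.2.choose).1, x.2.2.choose_spec⟩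
  have hsurj : Function.Surjective fromSigma := fun ⟨χ, q, hq⟩ =>
    ⟨⟨L.under q, χ, ⟨q, rfl⟩, hq⟩, rfl⟩
  have h1 : Nat.card PP ≤ Nat.card U := Nat.card_le_card_of_injective incl hincl
  have h2 : Nat.card U ≤ Nat.card (Σ O : L.Orb, L.Supp O) := Nat.card_le_card_of_surjective _ hsurj
  have h3 : Nat.card (Σ O : L.Orb, L.Supp O) ≤
      ∑ O, (L.eO O + Nat.card (L.ColOver O)) := by
    rw [Nat.card_sigma]
    exact Finset.sum_le_sum fun O _ => L.card_supp_le O
  have h4 : ∑ O, (L.eO O + Nat.card (L.ColOver O)) ≤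
      Nat.card (ConjClasses (NP (L.P : Subgroup G))) + Nat.card (SingCl p G) := by
    rw [Finset.sum_add_distrib, ← Nat.card_sigma,
      Nat.card_congr (Equiv.sigmaFiberEquiv L.under)]
    exact Nat.add_le_add L.sum_eO_le L.card_col_le
  have h5 : Nat.card (ConjClasses (NP (L.P : Subgroup G))) + Nat.card (SingCl p G) ≤ Nat.card PP := by
    have hsq : ¬ p ^ 2 ∣ Nat.card G := by
      intro h
      rw [← (L.P : Subgroup G).card_mul_index, L.card_P, sq,
        Nat.mul_dvd_mul_iff_left (Fact.out : p.Prime).pos] at h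
      exact L.P.not_dvd_index h
    have hreg : Nat.card (ConjClasses (NP (L.P : Subgroup G))) +
        Nat.card {χ : IrrCharacter G // p ∣ Cfsg.charDegree (χ : G → ℂ)} ≤ Nat.card (RegCl p G) :=
      card_regular_classes_ge hM hsq L.P L.card_P
    have hsum := card_sing_add_reg p G
    have hirr := card_irrCharacter (G := G)
    have hsplit : Nat.card PP + Nat.card {χ : IrrCharacter G // p ∣ Cfsg.charDegree (χ : G → ℂ)} =
        Nat.card (IrrCharacter G) := by
      rw [add_comm, ← Nat.card_sum]
      exact Nat.card_congr (Equiv.sumCompl _)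
    omega
  have hN := L.card_classes_N
  refine ⟨by omega, fun χ => ⟨L.exists_cint_ne_zero χ, fun hχ => ?_⟩, fun O => ?_, ?_⟩
  · obtain ⟨⟨ψ, hψ⟩, he⟩ := ((Nat.bijective_iff_injective_and_card incl).2
      ⟨hincl, by omega⟩).2 ⟨χ, hχ⟩
    obtain rfl : ψ = χ := congrArg (fun x : U => x.1) he
    exact hψ
  · have h6 : ∑ O, Nat.card (L.Supp O) = ∑ O, (L.eO O + Nat.card (L.ColOver O)) := by
      rw [← Nat.card_sigma]
      show Nat.card (Σ O : L.Orb, L.Supp O) = _
      omega
    exact (Finset.sum_eq_sum_iff_of_le fun O _ => L.card_supp_le O).1 h6 O (Finset.mem_univ O)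
  · intro χ q q' hq hq'
    have hinj := ((Nat.bijective_iff_surjective_and_card fromSigma).2 ⟨hsurj, by omega⟩).1
    have := @hinj ⟨L.under q, χ, ⟨q, rfl⟩, hq⟩ ⟨L.under q', χ, ⟨q', rfl⟩, hq'⟩ rfl
    exact congrArg Sigma.fst this

end Local

end CfsgLib.DefectOne
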