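import Cfsg.Agent.DefectOne.Counting
import Cfsg.Agent.Blocks.Sections
import Cfsg.Agent.Blocks.Height

/-!
# The blocks of positive defect are the supports of the orbits

The central character of a character with a nonzero coefficient over `φ` is congruent to the one
read off `φ` on `P × K`; these functions separate the orbits.
-/

set_option autoImplicit false
set_option linter.style.haveILetI false
set_option linter.unusedSectionVars false

namespace CfsgLib.DefectOne

open Cfsg CfsgLib.Characters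
open scoped ComplexConjugate

universe u

variable {G : Type u} [Group G] {p : ℕ} [Fact p.Prime] [Fintype G] {M : Ideal AlgInt} [M.IsPrime]

namespace Local

variable (L : Local p G)

open Classical in
/-- The central character read off a character of `K`. -/
noncomputable def wfun (φ : IrrCharacter L.K) (g : G) : ℂ :=
  letI := Fintype.ofFinite L.PK
  ∑ x : L.PK, if IsConj g (L.emb x) then (φ : L.K → ℂ) x.2 / (φ : L.K → ℂ) 1 else 0

theorem wfun_eq [Fintype L.PK] (φ : IrrCharacter L.K) (g : G)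
    [∀ x : L.PK, Decidable (IsConj g (L.emb x))] :
    L.wfun φ g = ∑ x : L.PK,
      if IsConj g (L.emb x) then (φ : L.K → ℂ) x.2 / (φ : L.K → ℂ) 1 else 0 := by
  unfold wfun
  rw [Subsingleton.elim (Fintype.ofFinite L.PK) ‹Fintype L.PK›]
  exact Finset.sum_congr rfl fun x _ => by congr

theorem wfun_phiBy (n : L.N) (φ : IrrCharacter L.K) (g : G) :
    L.wfun (L.phiBy n φ) g = L.wfun φ g := by
  classical
  letI := Fintype.ofFinite L.PK
  rw [L.wfun_eq, L.wfun_eq]
  refine Fintype.sum_equiv ((L.autP n).toEquiv.prodCongr (L.autK n).toEquiv) _ _ fun x => ?_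
  show (if IsConj g (L.emb x) then (φ : L.K → ℂ) (L.autK n x.2) / (φ : L.K → ℂ) (L.autK n 1) else 0) =
    if IsConj g (L.emb (L.autP n x.1, L.autK n x.2)) then
      (φ : L.K → ℂ) (L.autK n x.2) / (φ : L.K → ℂ) 1 else 0
  rw [map_one, ← L.conj_emb]
  refine if_congr ⟨fun h => h.trans (isConj_iff.2 ⟨_, rfl⟩),
    fun h => h.trans (isConj_iff.2 ⟨_, rfl⟩).symm⟩ rfl rfl

theorem not_dvd_degree_K (φ : IrrCharacter L.K) : ¬ p ∣ Cfsg.charDegree (φ : L.K → ℂ) := fun h =>
  L.not_dvd (h.trans (by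
    haveI := Fintype.ofFinite L.K
    exact Blocks.charDegree_dvd_card φ))

open Classical in
/-- A nonzero coefficient fixes the central character modulo the ideal. -/
theorem centralChar_congr (hM : Cfsg.IsPModular p M) (χ : IrrCharacter G) (a : L.Pair)
    (ha : L.cvec χ a ≠ 0) (g : G) :
    Cfsg.MemLocalIdeal M (Cfsg.centralChar (χ : G → ℂ) g - L.wfun a.2 g) := by
  letI := Fintype.ofFinite L.PK
  haveI := Fintype.ofFinite (L.P : Subgroup G)
  haveI := Fintype.ofFinite L.K
  obtain ⟨u, hu1, hu⟩ : ∃ u : (L.P : Subgroup G), u ≠ 1 ∧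
      ∑ k : L.K, (χ : G → ℂ) (L.emb (u, k)) * conj ((a.2 : L.K → ℂ) k) ≠ 0 := by
    by_contra hno
    push Not at hno
    apply ha
    rw [L.cvec_eq, Cfsg.classInner, L.sum_PK, Finset.sum_eq_zero fun u _ => ?_, mul_zero]
    by_cases h1 : u = 1
    · subst h1
      exact Finset.sum_eq_zero fun k _ => by rw [L.psi_eq_zero rfl, map_zero, mul_zero]
    · refine (Finset.sum_congr rfl fun k _ => ?_).trans
        ((Finset.mul_sum Finset.univ (fun k : L.K => (χ : G → ℂ) (L.emb (u, k)) *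
          conj ((a.2 : L.K → ℂ) k)) (conj (1 - (a.1.1 u : ℂ)))).symm.trans (by rw [hno u h1, mul_zero]))
      simp only [psi, res, map_mul]
      ring
  set C := Subgroup.centralizer ({(u : G)} : Set G)
  haveI := Fintype.ofFinite C
  have huG : (u : G) ≠ 1 := fun e => hu1 (Subtype.ext e)
  have hC : C = Subgroup.centralizer ((L.P : Subgroup G) : Set G) :=
    L.centralizer_singleton u.2 huG
  have hxo : ∃ k, orderOf (u : G) = p ^ k := ⟨1, by rw [pow_one, L.orderOf_of_mem u.2 huG]⟩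
  have hB := Blocks.isPBlock_blockOf (M := M) χ
  set A := Blocks.overSet M C (Cfsg.blockOf M (χ : G → ℂ)) (Blocks.isBlockUnion_of_isPBlock hB)
  have hmemC : ∀ x : L.PK, L.emb x ∈ C := fun x => by
    rw [hC]
    exact Subgroup.mul_mem _ (L.P_le_centralizer x.1.2) (L.le_centralizer x.2.2)
  let ι : L.PK →* C := L.emb.codRestrict C hmemC
  have hι : Function.Bijective ι := by
    refine ⟨fun x y h => L.emb_injective (congrArg Subtype.val h), fun c => ?_⟩
    obtain ⟨v, hv, k, hk, he⟩ := L.decomp (c : G) (hC ▸ c.2)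
    exact ⟨(⟨v, hv⟩, ⟨k, hk⟩), Subtype.ext he.symm⟩
  obtain ⟨ξ, hξA, hξ⟩ : ∃ ξ ∈ A,
      Cfsg.classInner (fun k : L.K => (ξ : C → ℂ) (ι (1, k))) (a.2 : L.K → ℂ) ≠ 0 := by
    by_contra hno
    push Not at hno
    refine hu ?_
    have hval : ∀ k : L.K, (χ : G → ℂ) (L.emb (u, k)) = ∑ ξ : IrrCharacter C, if ξ ∈ A then
        Cfsg.classInner (fun c : C => (χ : G → ℂ) ((u : G) * (c : G))) (ξ : C → ℂ) *
          (ξ : C → ℂ) (ι (1, k)) else 0 := by
      intro k
      have hreg : ¬ p ∣ orderOf (ι (1, k)) := by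
        rw [← Subgroup.orderOf_coe]
        show ¬ p ∣ orderOf (L.emb (1, k))
        rw [emb_apply, OneMemClass.coe_one, one_mul]
        exact L.not_dvd_orderOf k.2
      have key := Blocks.blockPart_overSet hM hxo hB χ hreg
      rw [if_pos (Blocks.mem_blockOf_self χ)] at key
      rw [show L.emb (u, k) = (u : G) * ((ι (1, k) : C) : G) by
        show (u : G) * k = (u : G) * (((1 : (L.P : Subgroup G)) : G) * k)
        rw [OneMemClass.coe_one, one_mul], ← key, Cfsg.blockPart, Blocks.finsum_irr_mem,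
        show (Fintype.ofFinite C) = ‹Fintype C› from Subsingleton.elim _ _]
    simp only [hval, Finset.sum_mul]
    rw [Finset.sum_comm]
    refine Finset.sum_eq_zero fun ξ _ => ?_
    split_ifs with h
    · have h0 := hno ξ h
      rw [Cfsg.classInner, mul_eq_zero,
        or_iff_right (inv_ne_zero (Nat.cast_ne_zero.2 Nat.card_pos.ne'))] at h0
      simp only [mul_assoc, ← Finset.mul_sum, h0, mul_zero]
    · simp
  -- `ξ` is `μ ⊗ φ`
  obtain ⟨d, ρ, hρ, hρc⟩ := ξ.2
  have hscal : ∀ v : (L.P : Subgroup G), ∃ c : ℂ, ρ (ι (v, 1)) = c • LinearMap.id := fun v => by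
    refine central_scalar ρ (Subgroup.mem_center_iff.2 fun g => ?_)
    refine Subtype.ext ?_
    show (g : G) * ((v : G) * ((1 : L.K) : G)) = (v : G) * ((1 : L.K) : G) * g
    rw [OneMemClass.coe_one, mul_one]
    exact (Subgroup.mem_centralizer_iff.1 (hC.le g.2) v v.2).symm
  choose c hc using hscal
  have hsplit : ∀ x : L.PK, (ξ : C → ℂ) (ι x) = c x.1 * (ξ : C → ℂ) (ι (1, x.2)) := by
    intro x
    have hx : ι x = ι (x.1, 1) * ι (1, x.2) := by
      rw [← map_mul]; simp
    rw [← hρc, hx]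
    simp only [Representation.character, map_mul, hc, smul_mul_assoc, ← Module.End.one_eq_id,
      one_mul, map_smul, smul_eq_mul]
  have hd : (d : ℂ) = (ξ : C → ℂ) 1 := by
    rw [← hρc, Representation.char_one, Module.finrank_fin_fun]
  have hd0 : (d : ℂ) ≠ 0 := hd ▸ irr_one_ne_zero ξ.2
  have hcp : ∀ v, c v ^ p = 1 := by
    intro v
    have h1 : ρ (ι (v, 1)) ^ p = 1 := by
      rw [← map_pow, ← map_pow, Prod.pow_mk, one_pow,
        show v ^ p = 1 from Subtype.ext (L.pow_p v.2), Prod.mk_one_one, map_one, map_one]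
    rw [hc, ← Module.End.one_eq_id, smul_pow, one_pow] at h1
    have h2 := congrArg (LinearMap.trace ℂ (Fin d → ℂ)) h1
    rw [map_smul, LinearMap.trace_one, Module.finrank_fin_fun, smul_eq_mul] at h2
    exact (mul_eq_right₀ hd0).1 h2
  have hnorm : ∀ v, c v * conj (c v) = 1 := fun v => by
    rw [Complex.mul_conj', Complex.norm_eq_one_of_pow_eq_one (hcp v) (Fact.out : p.Prime).ne_zero]
    simp
  let rK : L.K →* C := ι.comp (MonoidHom.inr _ _)
  have hres : Cfsg.IsIrrCharacter L.K (fun k => (ξ : C → ℂ) (ι (1, k))) := by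
    refine isIrr_of_classInner_self ⟨d, ρ.comp rK, funext fun k => congrFun hρc (rK k)⟩ ?_
    have h1 := classInner_isIrr_self ξ.2
    rw [Cfsg.classInner, ← (Fintype.sum_equiv (Equiv.ofBijective ι hι) _ _ fun x => rfl :
      ∑ x : L.PK, (ξ : C → ℂ) (ι x) * conj ((ξ : C → ℂ) (ι x)) =
        ∑ y : C, (ξ : C → ℂ) y * conj ((ξ : C → ℂ) y)), L.sum_PK,
      ← Nat.card_eq_of_bijective ι hι, L.card_PK] at h1
    rw [← h1, Cfsg.classInner, Finset.sum_congr rfl (s₁ := (Finset.univ : Finset (L.P : Subgroup G)))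
      (g := fun _ => ∑ k : L.K, (ξ : C → ℂ) (ι (1, k)) * conj ((ξ : C → ℂ) (ι (1, k)))) fun v _ => ?_,
      Finset.sum_const, Finset.card_univ, ← Nat.card_eq_fintype_card, L.card_P, nsmul_eq_mul,
      Nat.cast_mul]
    · field_simp [(Nat.cast_ne_zero.2 (Fact.out : p.Prime).ne_zero : (p : ℂ) ≠ 0)]
    · refine Finset.sum_congr rfl fun k _ => ?_
      rw [hsplit, map_mul, mul_mul_mul_comm, hnorm, one_mul]
  have hφ : (fun k : L.K => (ξ : C → ℂ) (ι (1, k))) = (a.2 : L.K → ℂ) := by
    by_contra hne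
    exact hξ (classInner_isIrr_ne hres a.2.2 hne)
  -- the congruence
  have hind := (Blocks.isInducedBlock_of_mem_overSet hM hxo hB hξA).2.2 ξ
    (Blocks.mem_blockOf_self ξ) χ (Blocks.mem_blockOf_self χ) g
  have hexp : Cfsg.inducedCentralChar C (ξ : C → ℂ) g = ∑ x : L.PK,
      if IsConj g (L.emb x) then c x.1 * ((a.2 : L.K → ℂ) x.2 / (a.2 : L.K → ℂ) 1) else 0 := by
    rw [Cfsg.inducedCentralChar, finsum_mem_def, finsum_eq_sum_of_fintype,
      ← Fintype.sum_equiv (Equiv.ofBijective ι hι) _ _ fun x => rfl]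
    refine Finset.sum_congr rfl fun x _ => ?_
    rw [Set.indicator_apply]
    have h11 : (ξ : C → ℂ) 1 = (a.2 : L.K → ℂ) 1 := by
      rw [← congrFun hφ 1, show ((1, 1) : L.PK) = 1 from rfl, map_one]
    refine if_congr Iff.rfl ?_ rfl
    show (ξ : C → ℂ) (ι x) / _ = _
    rw [hsplit, h11, ← congrFun hφ x.2, mul_div_assoc]
  have hdiff : Cfsg.MemLocalIdeal M (Cfsg.inducedCentralChar C (ξ : C → ℂ) g - L.wfun a.2 g) := by
    rw [hexp, L.wfun_eq, ← Finset.sum_sub_distrib]
    refine Blocks.memLocalIdeal_sum _ fun x _ => ?_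
    split_ifs
    · rw [← sub_one_mul]
      refine Blocks.memLocalIdeal_mul_right ?_ ?_
      · have hci : IsIntegral ℤ (c x.1) :=
          IsIntegral.of_pow (Fact.out : p.Prime).pos ((hcp x.1).symm ▸ isIntegral_one)
        let z : Blocks.localRing M := ⟨c x.1, Blocks.memLocalRing_of_isIntegral hci⟩
        have hz : Blocks.red M z = Blocks.red M 1 := by
          rw [map_one]
          exact Blocks.red_eq_one_of_pow_eq_one hM (k := 1)
            (by rw [pow_one]; exact Subtype.ext (by simpa [z] using hcp x.1))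
        simpa [z] using Blocks.red_eq_red_iff.1 hz
      · rw [div_eq_mul_inv, ← Blocks.charDegree_cast a.2]
        exact (Blocks.localRing M).mul_mem (Blocks.memLocalRing_char a.2 _)
          (Blocks.memLocalRing_natCast_inv hM (L.not_dvd_degree_K a.2))
    · rw [sub_zero]; exact Blocks.memLocalIdeal_zero
  have := Blocks.memLocalIdeal_sub hdiff hind
  rwa [sub_sub_sub_cancel_left] at this

open Classical in
/-- The functions separate the orbits. -/
theorem orb_eq_of_wfun (hM : Cfsg.IsPModular p M) {φ φ' : IrrCharacter L.K}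
    (h : ∀ g, Cfsg.MemLocalIdeal M (L.wfun φ g - L.wfun φ' g)) : L.orb φ = L.orb φ' := by
  by_contra hne
  letI := Fintype.ofFinite L.PK
  haveI := Fintype.ofFinite (L.P : Subgroup G)
  haveI := Fintype.ofFinite L.K
  set b : L.K → ℂ := fun k => (Nat.card L.K : ℂ)⁻¹ * ∑ ψ : IrrCharacter L.K,
    if L.orb ψ = L.orb φ then (ψ : L.K → ℂ) 1 * conj ((ψ : L.K → ℂ) k) else 0 with hb
  have hbn : ∀ (n : L.N) k, b (L.autK n k) = b k := by
    intro n k
    simp only [hb]
    congr 1
    refine Fintype.sum_equiv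
      { toFun := fun ψ => L.phiBy n ψ
        invFun := fun ψ => L.phiBy n⁻¹ ψ
        left_inv := fun ψ => by
          show L.phiBy n⁻¹ (L.phiBy n ψ) = ψ
          rw [← L.phiBy_mul, mul_inv_cancel, L.phiBy_one]
        right_inv := fun ψ => by
          show L.phiBy n (L.phiBy n⁻¹ ψ) = ψ
          rw [← L.phiBy_mul, inv_mul_cancel, L.phiBy_one] } _ _ fun ψ => ?_
    show _ = if L.orb (L.phiBy n ψ) = L.orb φ then
      (ψ : L.K → ℂ) (L.autK n 1) * conj ((ψ : L.K → ℂ) (L.autK n k)) else 0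
    rw [map_one, show L.orb (L.phiBy n ψ) = L.orb ψ from (L.orb_eq_iff.2 ⟨n, rfl⟩).symm]
  have hT : ∀ φ₀ : IrrCharacter L.K, ∑ k, b k * ((φ₀ : L.K → ℂ) k / (φ₀ : L.K → ℂ) 1) =
      if L.orb φ₀ = L.orb φ then 1 else 0 := by
    intro φ₀
    have h0 := irr_one_ne_zero φ₀.2
    calc ∑ k, b k * ((φ₀ : L.K → ℂ) k / (φ₀ : L.K → ℂ) 1)
        = ∑ ψ : IrrCharacter L.K, if L.orb ψ = L.orb φ then
            (ψ : L.K → ℂ) 1 * Cfsg.classInner (φ₀ : L.K → ℂ) (ψ : L.K → ℂ) / (φ₀ : L.K → ℂ) 1 else 0 := by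
          simp only [hb, Finset.mul_sum, Finset.sum_mul]
          rw [Finset.sum_comm]
          refine Finset.sum_congr rfl fun ψ _ => ?_
          split_ifs
          · rw [Cfsg.classInner, Finset.mul_sum, Finset.mul_sum, Finset.sum_div]
            exact Finset.sum_congr rfl fun k _ => by ring
          · simp
      _ = _ := by
          rw [Finset.sum_eq_single φ₀ (fun ψ _ hψ => ?_) (by simp)]
          · rw [classInner_isIrr_self φ₀.2, mul_one, div_self h0]
          · rw [classInner_isIrr_ne φ₀.2 ψ.2 fun e => hψ (Subtype.ext e.symm), mul_zero, zero_div,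
              ite_self]
  have hloc : ∀ k, Cfsg.MemLocalRing M (b k) := fun k => by
    refine (Blocks.localRing M).mul_mem (Blocks.memLocalRing_natCast_inv hM L.not_dvd)
      ((Blocks.localRing M).sum_mem fun ψ _ => ?_)
    split_ifs
    · refine (Blocks.localRing M).mul_mem (Blocks.memLocalRing_char ψ _) ?_
      rw [← character_inv (isCharacter_of_isIrr ψ.2)]
      exact Blocks.memLocalRing_char ψ _
    · exact (Blocks.localRing M).zero_mem
  -- grouping by the classes of `G`
  have hgroup : ∀ φ₀ : IrrCharacter L.K, ∀ k₀ : L.K,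
      ∑ k ∈ Finset.univ.filter (fun k : L.K => ConjClasses.mk (k : G) = ConjClasses.mk (k₀ : G)),
        b k * ((φ₀ : L.K → ℂ) k / (φ₀ : L.K → ℂ) 1) = b k₀ * L.wfun φ₀ (k₀ : G) := by
    intro φ₀ k₀
    have hW : L.wfun φ₀ (k₀ : G) =
        ∑ k ∈ Finset.univ.filter (fun k : L.K => ConjClasses.mk (k : G) = ConjClasses.mk (k₀ : G)),
          (φ₀ : L.K → ℂ) k / (φ₀ : L.K → ℂ) 1 := by
      rw [L.wfun_eq, L.sum_PK, Finset.sum_eq_single 1 (fun v _ hv => ?_) (by simp),
        Finset.sum_filter]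
      · refine Finset.sum_congr rfl fun k _ => if_congr ?_ rfl rfl
        rw [emb_apply, OneMemClass.coe_one, one_mul, ConjClasses.mk_eq_mk_iff_isConj, isConj_comm]
      · refine Finset.sum_eq_zero fun k _ => if_neg fun hcj => ?_
        exact Blocks.not_isConj_of_regular_singular (L.not_dvd_orderOf k₀.2)
          ((L.dvd_orderOf_iff v.2 k.2).2 fun e => hv (Subtype.ext e)) hcj
    rw [hW, Finset.mul_sum]
    refine Finset.sum_congr rfl fun k hk => ?_
    obtain ⟨g, hg⟩ := isConj_iff.1 (ConjClasses.mk_eq_mk_iff_isConj.1 (Finset.mem_filter.1 hk).2)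
    obtain ⟨n, hn, hne'⟩ := L.fusion k.2 (g := g) (by rw [hg]; exact k₀.2)
    have hk₀ : L.autK ⟨n, hn⟩ k = k₀ := Subtype.ext (by rw [coe_autK]; exact hne'.trans hg)
    rw [← hk₀, hbn]
  have hcong : Cfsg.MemLocalIdeal M (∑ k, b k * ((φ : L.K → ℂ) k / (φ : L.K → ℂ) 1) -
      ∑ k, b k * ((φ' : L.K → ℂ) k / (φ' : L.K → ℂ) 1)) := by
    rw [← Finset.sum_fiberwise_of_maps_to (g := fun k : L.K => ConjClasses.mk (k : G))
        (t := Finset.univ.image fun k : L.K => ConjClasses.mk (k : G))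
        (fun k _ => Finset.mem_image_of_mem _ (Finset.mem_univ k))
        (fun k => b k * ((φ : L.K → ℂ) k / (φ : L.K → ℂ) 1)),
      ← Finset.sum_fiberwise_of_maps_to (g := fun k : L.K => ConjClasses.mk (k : G))
        (t := Finset.univ.image fun k : L.K => ConjClasses.mk (k : G))
        (fun k _ => Finset.mem_image_of_mem _ (Finset.mem_univ k))
        (fun k => b k * ((φ' : L.K → ℂ) k / (φ' : L.K → ℂ) 1)),
      ← Finset.sum_sub_distrib]
    refine Blocks.memLocalIdeal_sum _ fun D hD => ?_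
    obtain ⟨k₀, -, rfl⟩ := Finset.mem_image.1 hD
    rw [hgroup, hgroup, ← mul_sub]
    exact Blocks.memLocalIdeal_mul_left (hloc k₀) (h _)
  rw [hT, hT, if_pos rfl, if_neg fun e => hne e.symm, sub_zero] at hcong
  exact Blocks.not_memLocalIdeal_one hcong

/-- A block of positive defect is the support of an orbit. -/
theorem exists_orb_of_block (hM : Cfsg.IsPModular p M) {B : Set (IrrCharacter G)}
    (hB : Cfsg.IsPBlock M B) (hd : 0 < Cfsg.blockDefect p B) :
    ∃ O : L.Orb, ∀ χ : IrrCharacter G, χ ∈ B ↔ ∃ q : L.ColOver O, L.cint χ q.1 ≠ 0 := by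
  classical
  have hp : p.Prime := Fact.out
  have hfac : (Nat.card G).factorization p = 1 := by
    have h1 := L.P.card_eq_multiplicity
    rw [L.card_P] at h1
    exact Nat.pow_right_injective hp.two_le (h1.symm.trans (pow_one p).symm)
  have hdeg : ∀ χ ∈ B, ¬ p ∣ Cfsg.charDegree (χ : G → ℂ) := by
    intro χ hχ hdvd
    have hz : ¬ p ∣ Nat.card G / Cfsg.charDegree (χ : G → ℂ) := fun h => by
      have h2 : p ^ 2 ∣ Nat.card G := by
        rw [sq, ← Nat.mul_div_cancel' (Blocks.charDegree_dvd_card χ)]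
        exact Nat.mul_dvd_mul hdvd h
      rw [hp.pow_dvd_iff_le_factorization Nat.card_pos.ne', hfac] at h2
      omega
    rw [Blocks.eq_blockOf_of_mem hB hχ, (Blocks.defect_zero_iff hM χ).1 hz, Cfsg.blockDefect,
      Set.image_singleton, csInf_singleton, hfac] at hd
    have := hp.factorization_pos_of_dvd (Blocks.charDegree_ne_zero χ) hdvd
    omega
  obtain ⟨χ₀, hχ₀⟩ := Blocks.isPBlock_nonempty hB
  obtain ⟨q₀, hq₀⟩ := L.exists_cint_ne_zero χ₀ (hdeg χ₀ hχ₀)
  have hcc : ∀ (χ : IrrCharacter G) (q : L.Col), L.cint χ q ≠ 0 → ∀ g,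
      Cfsg.MemLocalIdeal M (Cfsg.centralChar (χ : G → ℂ) g - L.wfun (Quotient.out q : L.Pair).2 g) :=
    fun χ q hq g => L.centralChar_congr hM χ _ (by rw [← L.cint_eq]; exact_mod_cast hq) g
  refine ⟨L.under q₀, fun χ => ⟨fun hχ => ?_, fun ⟨⟨q, hqO⟩, hq⟩ => ?_⟩⟩
  · obtain ⟨q, hq⟩ := L.exists_cint_ne_zero χ (hdeg χ hχ)
    refine ⟨⟨q, ?_⟩, hq⟩
    rw [← L.under_out, ← L.under_out]
    refine L.orb_eq_of_wfun hM fun g => ?_
    have hsame : Cfsg.MemLocalIdeal M
        (Cfsg.centralChar (χ₀ : G → ℂ) g - Cfsg.centralChar (χ : G → ℂ) g) := by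
      rw [Blocks.eq_blockOf_of_mem hB hχ₀] at hχ
      exact hχ g
    have h1 := Blocks.memLocalIdeal_sub (hcc χ₀ q₀ hq₀ g) hsame
    rw [sub_sub_sub_cancel_left] at h1
    have h2 := Blocks.memLocalIdeal_sub h1 (hcc χ q hq g)
    rw [sub_sub_sub_cancel_left] at h2
    exact h2
  · rw [Blocks.eq_blockOf_of_mem hB hχ₀]
    intro g
    dsimp only at hq
    rw [← L.under_out, ← L.under_out] at hqO
    obtain ⟨n, hn⟩ := L.orb_eq_iff.1 hqO
    have h1 := hcc χ₀ q₀ hq₀ g
    rw [hn, L.wfun_phiBy] at h1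
    have h2 := Blocks.memLocalIdeal_sub h1 (hcc χ q hq g)
    rw [sub_sub_sub_cancel_right] at h2
    exact h2

end Local

end CfsgLib.DefectOne
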