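import Cfsg.Agent.DefectOne.Family
import Cfsg.Agent.Blocks.Defect

/-!
# Blocks of defect one from the canonical character; degrees modulo `p`

The degree of a character is congruent modulo `p` to minus the weighted sum of its coefficients;
this gives the degrees of the two kinds of characters in a block in terms of the canonical character.
-/

set_option autoImplicit false
set_option linter.style.haveILetI false
set_option linter.unusedSectionVars false

namespace CfsgLib.DefectOne

open Cfsg CfsgLib.Characters CfsgLib.PConjOrbit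
open scoped ComplexConjugate

universe u

variable {G : Type u} [Group G] {p : ℕ} [Fact p.Prime] [Fintype G]

namespace Local

variable (L : Local p G)

open Classical in
/-- The degree, the coefficients and the sum over `P`. -/
theorem degree_sum [Fintype L.Lam] [Fintype ↥(L.P : Subgroup G)] (χ : IrrCharacter G) :
    (χ : G → ℂ) 1 + ∑ φ : IrrCharacter L.K, (φ : L.K → ℂ) 1 * ∑ l : L.Lam, L.cvec χ (l, φ) =
      ∑ u : ↥(L.P : Subgroup G), (χ : G → ℂ) u := by
  haveI := L.isMulCommutative
  letI := Fintype.ofFinite L.PK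
  haveI := Fintype.ofFinite L.K
  haveI : Finite ((L.P : Subgroup G) →* ℂˣ) := BlocksFrobenius.finite_dual
  haveI := Fintype.ofFinite ((L.P : Subgroup G) →* ℂˣ)
  have hkey : ∀ u : (L.P : Subgroup G), ∑ l : L.Lam, (1 - conj (l.1 u : ℂ)) =
      if u = 1 then 0 else (p : ℂ) := by
    intro u
    have h0 : ∑ l : L.Lam, (1 - conj (l.1 u : ℂ)) =
        ∑ l : (L.P : Subgroup G) →* ℂˣ, (1 - conj (l u : ℂ)) := by
      rw [← Finset.sum_subtype (Finset.univ.filter fun l : (L.P : Subgroup G) →* ℂˣ => l ≠ 1)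
        (fun l => by simp) (fun l : (L.P : Subgroup G) →* ℂˣ => 1 - conj (l u : ℂ)),
        Finset.sum_filter]
      refine Finset.sum_congr rfl fun l _ => ?_
      by_cases hl : l = 1
      · simp [hl]
      · simp [hl]
    rw [h0, Finset.sum_sub_distrib, Finset.sum_const, Finset.card_univ, ← Nat.card_eq_fintype_card,
      BlocksFrobenius.card_dual, L.card_P, nsmul_one]
    rw [← map_sum, BlocksFrobenius.sum_dual_apply]
    split_ifs with h
    · rw [L.card_P, map_natCast, sub_self]
    · rw [map_zero, sub_zero]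
  have hphi : ∀ k : L.K, ∑ φ : IrrCharacter L.K, (φ : L.K → ℂ) 1 * conj ((φ : L.K → ℂ) k) =
      if k = 1 then (Nat.card L.K : ℂ) else 0 := by
    intro k
    split_ifs with h
    · subst h
      rw [sum_irr_mul_conj]
      norm_cast
      exact Nat.card_congr (Equiv.subtypeUnivEquiv fun g => by simp)
    · refine sum_irr_mul_conj_of_not_isConj fun hc => h ?_
      obtain ⟨c, hcc⟩ := isConj_iff.1 hc
      rw [← hcc]; simp
  have hsum : ∑ φ : IrrCharacter L.K, (φ : L.K → ℂ) 1 * ∑ l : L.Lam, L.cvec χ (l, φ) =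
      ∑ u : (L.P : Subgroup G), if u = 1 then 0 else (χ : G → ℂ) u := by
    simp only [L.cvec_eq, Cfsg.classInner, L.sum_PK, Finset.mul_sum]
    rw [Finset.sum_comm]
    simp only [res, psi, map_mul, map_sub, map_one]
    rw [Finset.sum_congr rfl fun l _ => Finset.sum_comm]
    rw [Finset.sum_comm]
    refine Finset.sum_congr rfl fun u _ => ?_
    calc ∑ l : L.Lam, ∑ φ : IrrCharacter L.K, ∑ k : L.K, (φ : L.K → ℂ) 1 * ((Nat.card L.PK : ℂ)⁻¹ *
          ((χ : G → ℂ) (L.emb (u, k)) * ((1 - conj (l.1 u : ℂ)) * conj ((φ : L.K → ℂ) k))))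
        = (Nat.card L.PK : ℂ)⁻¹ * ((∑ l : L.Lam, (1 - conj (l.1 u : ℂ))) *
          ∑ k : L.K, (χ : G → ℂ) (L.emb (u, k)) *
            ∑ φ : IrrCharacter L.K, (φ : L.K → ℂ) 1 * conj ((φ : L.K → ℂ) k)) := by
          rw [Finset.sum_mul, Finset.mul_sum]
          refine Finset.sum_congr rfl fun l _ => ?_
          simp only [Finset.mul_sum]
          rw [Finset.sum_comm]
          exact Finset.sum_congr rfl fun k _ => Finset.sum_congr rfl fun φ _ => by ring
      _ = _ := by
          simp only [hkey, hphi, mul_ite, mul_zero, Finset.sum_ite_eq', Finset.mem_univ, if_true,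
            L.card_PK, Nat.cast_mul]
          split_ifs with h
          · simp
          · rw [emb_apply, OneMemClass.coe_one, mul_one]
            field_simp [(Nat.cast_ne_zero.2 (Fact.out : p.Prime).ne_zero : (p : ℂ) ≠ 0),
              (Nat.cast_ne_zero.2 (Nat.card_pos (α := L.K)).ne' : (Nat.card L.K : ℂ) ≠ 0)]
  rw [hsum,
    ← Finset.add_sum_erase _ _ (Finset.mem_univ (1 : (L.P : Subgroup G))),
    ← Finset.add_sum_erase _ _ (Finset.mem_univ (1 : (L.P : Subgroup G))), if_pos rfl, zero_add]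
  simp only [OneMemClass.coe_one]
  congr 1
  exact Finset.sum_congr rfl fun u hu => by rw [if_neg (Finset.ne_of_mem_erase hu)]

open Classical in
/-- The degree and the coefficients. -/
theorem exists_degree_sum [Fintype L.Lam] (χ : IrrCharacter G) :
    ∃ m : ℕ, (χ : G → ℂ) 1 + ∑ φ : IrrCharacter L.K, (φ : L.K → ℂ) 1 * ∑ l : L.Lam, L.cvec χ (l, φ) =
      (p : ℂ) * m := by
  haveI := Fintype.ofFinite (L.P : Subgroup G)
  obtain ⟨m, hm⟩ := classInner_character_irr
    (isCharacter_restrict (L.P : Subgroup G) (isCharacter_of_isIrr χ.2))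
    (isIrr_one (G := (L.P : Subgroup G)))
  refine ⟨m, ?_⟩
  rw [L.degree_sum χ, ← hm, Cfsg.classInner, L.card_P,
    mul_inv_cancel_left₀ (Nat.cast_ne_zero.2 (Fact.out : p.Prime).ne_zero : (p : ℂ) ≠ 0)]
  simp only [map_one, mul_one]

/-- The number of conjugates of a character of `K`. -/
noncomputable def orbCard (O : L.Orb) : ℕ := Nat.card {φ : IrrCharacter L.K // L.orb φ = O}

theorem orbCard_mul (O : L.Orb) :
    L.orbCard O * (L.eO O * (p * Nat.card L.K)) = Nat.card L.N := by
  classical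
  haveI := Fintype.ofFinite {φ : IrrCharacter L.K // L.orb φ = O}
  set φ0 : IrrCharacter L.K := Quotient.out O
  have h0 : L.orb φ0 = O := Quotient.out_eq O
  let g : L.N → {φ : IrrCharacter L.K // L.orb φ = O} := fun n =>
    ⟨L.phiBy n φ0, (L.orb_eq_iff.2 ⟨n, rfl⟩).symm.trans h0⟩
  rw [← Nat.card_congr (Equiv.sigmaFiberEquiv g), Nat.card_sigma,
    Finset.sum_congr rfl (g := fun _ => L.eO O * (p * Nat.card L.K)) fun φ _ => ?_,
    Finset.sum_const, Finset.card_univ, smul_eq_mul, orbCard, Nat.card_eq_fintype_card]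
  obtain ⟨φ, hφ⟩ := φ
  subst hφ
  rw [← L.stabCard_eq_eO φ]
  have h1 := L.card_phi_transporter φ φ0
  rw [if_pos h0.symm] at h1
  rw [← h1]
  exact Nat.card_congr (Equiv.subtypeEquivRight fun n =>
    ⟨fun h => congrArg Subtype.val h, fun h => Subtype.ext h⟩)

open Classical in
theorem degree_congr (O : L.Orb) (χ : IrrCharacter G)
    (hs : ∃ q : L.ColOver O, L.cint χ q.1 ≠ 0) [Fintype L.Lam] :
    (Cfsg.charDegree (χ : G → ℂ) : ℤ) ≡
      -((L.orbCard O * Cfsg.charDegree ((Quotient.out O : IrrCharacter L.K) : L.K → ℂ) : ℕ) : ℤ) *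
        ∑ l : L.Lam, L.cint χ (L.colLam O l).1 [ZMOD p] := by
  set φ0 : IrrCharacter L.K := Quotient.out O
  haveI := Fintype.ofFinite L.K
  have h0 : L.orb φ0 = O := Quotient.out_eq O
  obtain ⟨m, hm⟩ := L.exists_degree_sum χ
  have hterm : ∀ φ : IrrCharacter L.K, (φ : L.K → ℂ) 1 * ∑ l : L.Lam, L.cvec χ (l, φ) =
      if L.orb φ = O then (φ0 : L.K → ℂ) 1 * ∑ l : L.Lam, (L.cint χ (L.colLam O l).1 : ℂ) else 0 := by
    intro φ
    split_ifs with h
    · obtain ⟨n, hn⟩ := L.orb_eq_iff.1 (h0.trans h.symm)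
      subst hn
      have h1 : (L.phiBy n φ0 : L.K → ℂ) 1 = (φ0 : L.K → ℂ) 1 :=
        congrArg (φ0 : L.K → ℂ) (map_one (L.autK n))
      rw [h1]
      congr 1
      refine (Fintype.sum_equiv
        { toFun := fun l => L.lamBy n l
          invFun := fun l => L.lamBy n⁻¹ l
          left_inv := fun l => by
            show L.lamBy n⁻¹ (L.lamBy n l) = l
            rw [← L.lamBy_mul, mul_inv_cancel, L.lamBy_one]
          right_inv := fun l => by
            show L.lamBy n (L.lamBy n⁻¹ l) = l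
            rw [← L.lamBy_mul, inv_mul_cancel, L.lamBy_one] } _ _ fun l => ?_).symm
      rw [L.cint_colLam, ← L.cvec_pairBy χ n]
      rfl
    · refine mul_eq_zero_of_right _ (Finset.sum_eq_zero fun l _ => ?_)
      rw [← L.cint_col]
      obtain ⟨q, hq⟩ := hs
      by_contra hne
      exact h ((L.counting.2.2.2 χ (L.col (l, φ)) _ (fun e => hne (by rw [e, Int.cast_zero])) hq).trans q.2)
  simp only [hterm, Finset.sum_ite, Finset.sum_const_zero, add_zero, Finset.sum_const, nsmul_eq_mul]
    at hm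
  rw [← Fintype.card_subtype, ← Nat.card_eq_fintype_card, ← Blocks.charDegree_cast χ,
    ← Blocks.charDegree_cast φ0] at hm
  refine Int.ModEq.symm (Int.modEq_iff_dvd.2 ⟨(m : ℤ), ?_⟩)
  apply Int.cast_injective (α := ℂ)
  push_cast [orbCard]
  linear_combination hm

/-- The sum over the linear characters of a unit row. -/
theorem sum_unitRow (O : L.Orb) [Fintype L.Lam] (χ : IrrCharacter G) (q₀ : L.ColOver O)
    (h : L.IsUnitRow O χ q₀) :
    ∑ l : L.Lam, L.cint χ (L.colLam O l).1 = (L.eO O : ℤ) * L.cint χ q₀.1 := by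
  classical
  haveI := L.finite_col
  haveI := Fintype.ofFinite (L.ColOver O)
  rw [← Finset.sum_fiberwise Finset.univ (fun l : L.Lam => L.colLam O l),
    Finset.sum_eq_single q₀ (fun q _ hq => Finset.sum_eq_zero fun l hl => by
      rw [(Finset.mem_filter.1 hl).2, h.2 q hq]) (by simp),
    Finset.sum_congr rfl (g := fun _ => L.cint χ q₀.1) fun l hl => by rw [(Finset.mem_filter.1 hl).2],
    Finset.sum_const, nsmul_eq_mul, ← Fintype.card_subtype, ← Nat.card_eq_fintype_card]
  congr 2
  obtain ⟨l0, hl0⟩ := L.colLam_surjective O q₀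
  have h1 := L.card_colOver_mul O
  -- the fibres all have the same number of elements
  set φ0 : IrrCharacter L.K := Quotient.out O
  let S := {n : L.N // L.phiBy n φ0 = φ0}
  let g : S → {l : L.Lam // L.colLam O l = q₀} := fun n => ⟨L.lamBy n.1 l0, by
    rw [← hl0]
    refine Subtype.ext (L.col_eq_iff.2 ⟨n.1, ?_⟩).symm
    show (L.lamBy n.1 l0, φ0) = L.pairBy n.1 (l0, φ0)
    rw [pairBy, n.2]⟩
  have hfg : ∀ l, Nat.card {n : S // g n = l} = p * Nat.card L.K := by
    rintro ⟨l, hl⟩
    have hcol : L.col (l, φ0) = L.col (l0, φ0) := congrArg Subtype.val (hl.trans hl0.symm)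
    have h2 := L.card_pair_transporter (l, φ0) (l0, φ0)
    rw [if_pos hcol] at h2
    rw [← h2]
    refine Nat.card_congr
      { toFun := fun n => ⟨n.1.1, Prod.ext (congrArg Subtype.val n.2) n.1.2⟩
        invFun := fun n => ⟨⟨n.1, congrArg Prod.snd n.2⟩, Subtype.ext (congrArg Prod.fst n.2)⟩
        left_inv := fun n => rfl
        right_inv := fun n => rfl }
  have h3 : L.stabCard φ0 = Nat.card {l : L.Lam // L.colLam O l = q₀} * (p * Nat.card L.K) := by
    show Nat.card S = _
    rw [← Nat.card_congr (Equiv.sigmaFiberEquiv g), Nat.card_sigma,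
      Finset.sum_congr rfl fun l _ => hfg l, Finset.sum_const, Finset.card_univ, smul_eq_mul,
      Nat.card_eq_fintype_card (α := {l : L.Lam // L.colLam O l = q₀})]
  rw [L.stabCard_eq_eO, show L.orb φ0 = O from Quotient.out_eq O] at h3
  exact (Nat.eq_of_mul_eq_mul_right (mul_pos (Fact.out : p.Prime).pos Nat.card_pos) h3).symm

variable {M : Ideal AlgInt} [M.IsPrime]

open Classical in
/-- A block with defect group `P` in terms of its canonical character. -/
theorem canonical_block (hM : Cfsg.IsPModular p M) {B : Set (IrrCharacter G)}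
    (hB : Cfsg.IsPBlock M B) (hd : 0 < Cfsg.blockDefect p B)
    {b : Set (IrrCharacter (Subgroup.centralizer ((L.P : Subgroup G) : Set G)))}
    (hind : Cfsg.IsInducedBlock M (Subgroup.centralizer ((L.P : Subgroup G) : Set G)) b B)
    (θ : IrrCharacter (Subgroup.centralizer ((L.P : Subgroup G) : Set G))) (hθ : θ ∈ b)
    (hθP : ∀ x : Subgroup.centralizer ((L.P : Subgroup G) : Set G), (x : G) ∈ (L.P : Subgroup G) →
      (θ : Subgroup.centralizer ((L.P : Subgroup G) : Set G) → ℂ) x =
        (θ : Subgroup.centralizer ((L.P : Subgroup G) : Set G) → ℂ) 1)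
    (T : Subgroup G) (hT : ∀ g : G, g ∈ T ↔ (g ∈ Subgroup.normalizer ((L.P : Subgroup G) : Set G) ∧
      ∀ c c' : Subgroup.centralizer ((L.P : Subgroup G) : Set G), (c' : G) = g * c * g⁻¹ →
        (θ : Subgroup.centralizer ((L.P : Subgroup G) : Set G) → ℂ) c' =
          (θ : Subgroup.centralizer ((L.P : Subgroup G) : Set G) → ℂ) c)) :
    ∃ O : L.Orb, (∀ χ : IrrCharacter G, χ ∈ B ↔ ∃ q : L.ColOver O, L.cint χ q.1 ≠ 0) ∧
      L.eO O = (Subgroup.centralizer ((L.P : Subgroup G) : Set G)).relIndex T ∧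
      L.orbCard O * L.eO O =
        (Subgroup.centralizer ((L.P : Subgroup G) : Set G)).relIndex L.N ∧
      Cfsg.charDegree ((Quotient.out O : IrrCharacter L.K) : L.K → ℂ) =
        Cfsg.charDegree (θ : Subgroup.centralizer ((L.P : Subgroup G) : Set G) → ℂ) := by
  let C : Subgroup G := Subgroup.centralizer ((L.P : Subgroup G) : Set G)
  haveI := Fintype.ofFinite C
  letI := Fintype.ofFinite L.PK
  haveI := Fintype.ofFinite (L.P : Subgroup G)
  haveI := Fintype.ofFinite L.K
  let ι : L.PK →* C := L.emb.codRestrict C fun x =>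
    Subgroup.mul_mem _ (L.P_le_centralizer x.1.2) (L.le_centralizer x.2.2)
  have hι : Function.Bijective ι := by
    refine ⟨fun x y h => L.emb_injective (congrArg Subtype.val h), fun c => ?_⟩
    obtain ⟨v, hv, k, hk, he⟩ := L.decomp (c : G) c.2
    exact ⟨(⟨v, hv⟩, ⟨k, hk⟩), Subtype.ext he.symm⟩
  obtain ⟨d, ρ, hρ, hρc⟩ := θ.2
  have hsplit : ∀ x : L.PK, (θ : C → ℂ) (ι x) = (θ : C → ℂ) (ι (1, x.2)) := by
    intro x
    have hv : ρ (ι (x.1, 1)) = LinearMap.id := by
      refine (char_eq_finrank_iff ρ (ι (x.1, 1))).1 ?_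
      rw [← Representation.char_one ρ, hρc]
      exact hθP (ι (x.1, 1)) (by
        show (x.1 : G) * ((1 : L.K) : G) ∈ _
        rw [OneMemClass.coe_one, mul_one]; exact x.1.2)
    rw [← hρc, show ι x = ι (x.1, 1) * ι (1, x.2) by rw [← map_mul]; simp]
    simp only [Representation.character, map_mul, hv, ← Module.End.one_eq_id, one_mul]
  have hnorm := classInner_isIrr_self θ.2
  rw [Cfsg.classInner, ← (Fintype.sum_equiv (Equiv.ofBijective ι hι) _ _ fun x => rfl :
      ∑ x : L.PK, (θ : C → ℂ) (ι x) * conj ((θ : C → ℂ) (ι x)) =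
        ∑ y : C, (θ : C → ℂ) y * conj ((θ : C → ℂ) y)), L.sum_PK,
    ← Nat.card_eq_of_bijective ι hι, L.card_PK] at hnorm
  have hφirr : Cfsg.IsIrrCharacter L.K (fun k => (θ : C → ℂ) (ι (1, k))) := by
    refine isIrr_of_classInner_self
      ⟨d, ρ.comp (ι.comp (MonoidHom.inr _ _)), funext fun k => congrFun hρc (ι (1, k))⟩ ?_
    rw [← hnorm, Cfsg.classInner, Finset.sum_congr rfl (s₁ := (Finset.univ : Finset (L.P : Subgroup G)))
      (g := fun _ => ∑ k : L.K, (θ : C → ℂ) (ι (1, k)) * conj ((θ : C → ℂ) (ι (1, k)))) fun v _ => ?_,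
      Finset.sum_const, Finset.card_univ, ← Nat.card_eq_fintype_card, L.card_P, nsmul_eq_mul,
      Nat.cast_mul]
    · field_simp [(Nat.cast_ne_zero.2 (Fact.out : p.Prime).ne_zero : (p : ℂ) ≠ 0)]
    · exact Finset.sum_congr rfl fun k _ => by rw [hsplit]
  set φ : IrrCharacter L.K := ⟨_, hφirr⟩
  have hφ1 : (φ : L.K → ℂ) 1 = (θ : C → ℂ) 1 := congrArg (θ : C → ℂ) (map_one ι)
  refine ⟨L.orb φ, ?_, ?_, ?_, ?_⟩
  · obtain ⟨O, hO⟩ := L.exists_orb_of_block hM hB hd
    suffices O = L.orb φ by subst this; exact hO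
    obtain ⟨χ, hχ⟩ := Blocks.isPBlock_nonempty hB
    obtain ⟨⟨q, hqO⟩, hq⟩ := (hO χ).1 hχ
    dsimp only at hq
    rw [← hqO, ← L.under_out]
    refine L.orb_eq_of_wfun hM fun g => ?_
    have h1 := L.centralChar_congr hM χ (Quotient.out q : L.Pair)
      (by rw [← L.cint_eq]; exact_mod_cast hq) g
    have h2 := hind.2.2 θ hθ χ hχ g
    have hexp : Cfsg.inducedCentralChar C (θ : C → ℂ) g = L.wfun φ g := by
      rw [Cfsg.inducedCentralChar, finsum_mem_def, finsum_eq_sum_of_fintype, L.wfun_eq,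
        ← Fintype.sum_equiv (Equiv.ofBijective ι hι) _ _ fun x => rfl]
      refine Finset.sum_congr rfl fun x _ => ?_
      rw [Set.indicator_apply, hφ1]
      refine if_congr Iff.rfl ?_ rfl
      show (θ : C → ℂ) (ι x) / _ = _
      rw [hsplit]
    rw [hexp] at h2
    have h3 := Blocks.memLocalIdeal_neg (Blocks.memLocalIdeal_add h1 h2)
    simpa using h3
  · have hle : C ≤ T := fun g hg => by
      refine (hT g).2 ⟨Subgroup.centralizer_le_normalizer _ hg, fun c c' hc => ?_⟩
      rw [show c' = ⟨g, hg⟩ * c * (⟨g, hg⟩ : C)⁻¹ from Subtype.ext hc]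
      exact isClassFunction_of_isIrr θ.2 c ⟨g, hg⟩
    have hcard : Nat.card T = L.stabCard φ := by
      refine Nat.card_congr
        { toFun := fun g => ⟨⟨g.1, ((hT g.1).1 g.2).1⟩, ?_⟩
          invFun := fun n => ⟨n.1.1, (hT _).2 ⟨n.1.2, ?_⟩⟩
          left_inv := fun g => rfl
          right_inv := fun n => rfl }
      · refine Subtype.ext (funext fun k => ((hT g.1).1 g.2).2 (ι (1, k)) (ι (1, _)) ?_)
        show ((1 : (L.P : Subgroup G)) : G) * ((L.autK _ k : L.K) : G) = g.1 * (((1 : (L.P : Subgroup G)) : G) * k) * (g.1)⁻¹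
        rw [OneMemClass.coe_one, one_mul, one_mul, coe_autK]
      · intro c c' hc
        obtain ⟨x, rfl⟩ := hι.2 c
        have hc2 : c' = ι (L.autP n.1 x.1, L.autK n.1 x.2) := Subtype.ext (by
          rw [hc]; exact L.conj_emb n.1 x)
        rw [hc2, hsplit, hsplit x]
        exact congrFun (congrArg Subtype.val n.2) x.2
    have h1 : C.relIndex T * Nat.card C = Nat.card T := by
      rw [Subgroup.relIndex, ← Nat.card_congr (Subgroup.subgroupOfEquivOfLe hle).toEquiv,
        Subgroup.index_mul_card]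
    rw [hcard, L.stabCard_eq_eO, L.card_centralizer] at h1
    exact (Nat.eq_of_mul_eq_mul_right (mul_pos (Fact.out : p.Prime).pos Nat.card_pos) h1).symm
  · have hle : C ≤ L.N := Subgroup.centralizer_le_normalizer _
    have h1 : C.relIndex L.N * Nat.card C = Nat.card L.N := by
      rw [Subgroup.relIndex, ← Nat.card_congr (Subgroup.subgroupOfEquivOfLe hle).toEquiv,
        Subgroup.index_mul_card]
    rw [L.card_centralizer, ← L.orbCard_mul (L.orb φ), ← mul_assoc (L.orbCard _)] at h1
    exact (Nat.eq_of_mul_eq_mul_right (mul_pos (Fact.out : p.Prime).pos Nat.card_pos) h1).symm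
  · obtain ⟨n, hn⟩ := L.orb_eq_iff.1 (Quotient.out_eq (L.orb φ) :
      L.orb (Quotient.out (L.orb φ)) = L.orb φ)
    have h2 : ((Quotient.out (L.orb φ) : IrrCharacter L.K) : L.K → ℂ) 1 = (θ : C → ℂ) 1 := by
      rw [← hφ1]
      conv_rhs => rw [hn]
      exact (congrArg ((Quotient.out (L.orb φ) : IrrCharacter L.K) : L.K → ℂ)
        (map_one (L.autK n))).symm
    simp only [Cfsg.charDegree, h2]

end Local

end CfsgLib.DefectOne
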