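import Cfsg.Agent.DefectOne.Invariants
import Cfsg.Agent.BlocksCyclic.Rank
import Cfsg.Agent.Blocks.Height

/-!
# The number of p-regular classes when `p` divides the order exactly once

There are at least as many p-regular classes as classes of `N(P)/P` and characters of degree
divisible by `p` together.
-/

set_option autoImplicit false
set_option linter.style.haveILetI false
set_option linter.unusedSectionVars false

namespace CfsgLib.DefectOne

open Cfsg CfsgLib.Blocks CfsgLib.BlocksCyclic

universe u v w u' v'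

/-- A central nilpotent element of a group algebra of order prime to the characteristic is zero. -/
theorem eq_zero_of_central_nilpotent {k : Type v} [Field k] {H : Type u} [Group H] [Finite H]
    (hH : (Nat.card H : k) ≠ 0) {z : MonoidAlgebra k H} (hz : ∀ a, a * z = z * a)
    (hn : IsNilpotent z) : z = 0 := by
  classical
  haveI := Fintype.ofFinite H
  refine MonoidAlgebra.ext (Finsupp.ext fun h => ?_)
  set a := z * MonoidAlgebra.single h⁻¹ (1 : k) with ha
  have hna : IsNilpotent a :=
    (show Commute z (MonoidAlgebra.single h⁻¹ (1 : k)) from (hz _).symm).isNilpotent_mul_right hn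
  have h0 := (LinearMap.isNilpotent_trace_of_isNilpotent
    (hna.map (Algebra.lmul k (MonoidAlgebra k H)))).eq_zero
  rw [LinearMap.trace_eq_matrix_trace k (MonoidAlgebra.basis H k), Matrix.trace] at h0
  have hdiag : ∀ g : H, (LinearMap.toMatrix (MonoidAlgebra.basis H k) (MonoidAlgebra.basis H k)
      (Algebra.lmul k (MonoidAlgebra k H) a)).diag g = a.coeff 1 := by
    intro g
    rw [Matrix.diag, LinearMap.toMatrix_apply, MonoidAlgebra.basis_apply]
    show (a * MonoidAlgebra.single g (1 : k)).coeff g = a.coeff 1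
    rw [MonoidAlgebra.coeff_mul_single_apply, mul_inv_cancel, mul_one]
  rw [Finset.sum_congr rfl fun g _ => hdiag g, Finset.sum_const, Finset.card_univ,
    ← Nat.card_eq_fintype_card, nsmul_eq_mul, mul_eq_zero, or_iff_right hH, ha,
    MonoidAlgebra.coeff_mul_single_apply, inv_inv, one_mul, mul_one] at h0
  simpa using h0

section Modules

variable {k : Type v} [Field k] {G : Type u} [Group G] [Finite G] {p : ℕ} [Fact p.Prime] [CharP k p]
  (P : Subgroup G) [Fintype P]

theorem map_op {S : Type*} [AddCommGroup S] [Module k S]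
    [Module (MonoidAlgebra k G) S] [IsScalarTower k (MonoidAlgebra k G) S]
    {S' : Type*} [AddCommGroup S'] [Module k S'] [Module (MonoidAlgebra k G) S']
    [IsScalarTower k (MonoidAlgebra k G) S'] (f : S →ₗ[MonoidAlgebra k G] S')
    (a : MonoidAlgebra k (NP P)) (x : S) :
    f ((op P a : Module.End k S) x) = (op P a : Module.End k S') (f x) := by
  induction a using MonoidAlgebra.induction_linear with
  | zero => simp
  | add a b ha hb =>
    rw [map_add, map_add, LinearMap.add_apply, LinearMap.add_apply, map_add, ha, hb]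
  | single h r =>
    rw [op_single, op_single, LinearMap.smul_apply, LinearMap.smul_apply,
      LinearMap.map_smul_of_tower, act_apply, act_apply, map_smul]

theorem op_pow_commute {S : Type w} [AddCommGroup S] [Module k S]
    [Module (MonoidAlgebra k G) S] [IsScalarTower k (MonoidAlgebra k G) S]
    (z : MonoidAlgebra k (NP P)) {v : S} (hv : v ∈ fixed k S P) (a : ℕ) :
    (op P (z ^ (a + 1)) : Module.End k S) v =
      (op P (z ^ a) : Module.End k S) ((op P z : Module.End k S) v) := by
  rw [pow_succ, op_mul P hv]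

/-- An element acting into the norms on every simple subquotient acts nilpotently into the norms. -/
theorem exists_pow_op_mem (z : MonoidAlgebra k (NP P))
    (hS : ∀ (W : Submodule (MonoidAlgebra k G) (MonoidAlgebra k G))
      (W' : Submodule (MonoidAlgebra k G) W), IsSimpleModule (MonoidAlgebra k G) (W ⧸ W') →
      ∀ v ∈ fixed k (W ⧸ W') P,
        (op P z : Module.End k (W ⧸ W')) v ∈ LinearMap.range (normP P : Module.End k (W ⧸ W')))
    (W : Submodule (MonoidAlgebra k G) (MonoidAlgebra k G)) :
    ∃ l : ℕ, ∀ v ∈ fixed k W P,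
      (op P (z ^ l) : Module.End k W) v ∈ LinearMap.range (normP P : Module.End k W) := by
  haveI : Module.Finite k (MonoidAlgebra k G) :=
    Module.Finite.equiv (MonoidAlgebra.coeffLinearEquiv k : MonoidAlgebra k G ≃ₗ[k] (G →₀ k)).symm
  haveI : IsArtinian (MonoidAlgebra k G) (MonoidAlgebra k G) := isArtinian_of_tower k inferInstance
  haveI : IsNoetherian (MonoidAlgebra k G) (MonoidAlgebra k G) := isNoetherian_of_tower k inferInstance
  induction W using WellFoundedLT.induction with
  | _ W ih =>
    by_cases hW : W = ⊥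
    · refine ⟨0, fun v hv => ?_⟩
      subst hW
      rw [Subsingleton.elim ((op P (z ^ 0) : Module.End k _) v) 0]
      exact zero_mem _
    haveI : Nontrivial W := Submodule.nontrivial_iff_ne_bot.2 hW
    haveI : IsNoetherian (MonoidAlgebra k G) W := isNoetherian_submodule' W
    haveI : IsCoatomic (Submodule (MonoidAlgebra k G) W) :=
      isCoatomic_of_orderTop_gt_wellFounded wellFounded_gt
    obtain ⟨W', hW', -⟩ := (IsCoatomic.eq_top_or_exists_le_coatom
      (⊥ : Submodule (MonoidAlgebra k G) W)).resolve_left bot_ne_top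
    set Wn := W'.map W.subtype with hWn
    have hlt : Wn < W := lt_of_le_of_ne (Submodule.map_subtype_le W W') fun h => hW'.1 (by
      rw [eq_top_iff]
      intro y _
      have hy : (y : MonoidAlgebra k G) ∈ Wn := by rw [h]; exact y.2
      obtain ⟨x, hx, hxy⟩ := Submodule.mem_map.1 hy
      rwa [← Subtype.ext (a1 := x) (a2 := y) hxy])
    obtain ⟨l, hl⟩ := ih Wn hlt
    refine ⟨l + 1, fun v hv => ?_⟩
    -- into the simple quotient
    have hq : ∀ (g : G) (x : W), W'.mkQ ((act g : Module.End k W) x) =
        (act g : Module.End k (W ⧸ W')) (W'.mkQ x) := fun g x => rfl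
    have hqv : W'.mkQ v ∈ fixed k (W ⧸ W') P := fun u hu => by rw [← hq, hv u hu]
    have hqop : ∀ x : W, W'.mkQ ((op P z : Module.End k W) x) =
        (op P z : Module.End k (W ⧸ W')) (W'.mkQ x) := map_op P W'.mkQ z
    obtain ⟨y', hy'⟩ := hS W W' (isSimpleModule_iff_isCoatom.2 hW') _ hqv
    obtain ⟨y, rfl⟩ := W'.mkQ_surjective y'
    set w : W := (op P z : Module.End k W) v - (normP P : Module.End k W) y with hw
    have hwW' : w ∈ W' := by
      refine (Submodule.Quotient.eq W').1 ?_
      show W'.mkQ _ = W'.mkQ _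
      rw [hqop, ← hy', normP_apply, normP_apply, map_sum]
      rfl
    have hwfix : w ∈ fixed k W P :=
      sub_mem (op_mem_fixed P hv z) (range_normP_le P ⟨y, rfl⟩)
    let ι : Wn →ₗ[MonoidAlgebra k G] W := Submodule.inclusion hlt.le
    have hι : ∀ (g : G) (x : Wn), ι ((act g : Module.End k Wn) x) = (act g : Module.End k W) (ι x) :=
      fun g x => rfl
    let wn : Wn := ⟨(w : MonoidAlgebra k G), Submodule.mem_map_of_mem hwW'⟩
    have hwn : wn ∈ fixed k Wn P := fun u hu => Subtype.ext (by
      have := congrArg Subtype.val (hwfix u hu)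
      exact this)
    obtain ⟨y₁, hy₁⟩ := hl wn hwn
    have hopι : ∀ (a : MonoidAlgebra k (NP P)) (x : Wn),
        ι ((op P a : Module.End k Wn) x) = (op P a : Module.End k W) (ι x) := map_op P ι
    refine ⟨(op P (z ^ l) : Module.End k W) y + ι y₁, ?_⟩
    have h2 : (normP P : Module.End k W) (ι y₁) = (op P (z ^ l) : Module.End k W) (ι wn) := by
      rw [← hopι, ← hy₁, normP_apply, normP_apply, map_sum]
      exact Finset.sum_congr rfl fun u _ => (hι _ _).symm
    rw [map_add, ← op_normP, h2, show ι wn = w from rfl, op_pow_commute P z hv l, ← map_add, hw,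
      add_sub_cancel]

/-- The scalar is determined. -/
theorem scalar_unique {S : Type*} [AddCommGroup S] [Module k S]
    [Module (MonoidAlgebra k G) S] [IsScalarTower k (MonoidAlgebra k G) S]
    (hne : ¬ fixed k S P ≤ LinearMap.range (normP P : Module.End k S))
    {z : MonoidAlgebra k (NP P)} {c c' : k}
    (h : ∀ v ∈ fixed k S P, (op P z : Module.End k S) v - c • v ∈
      LinearMap.range (normP P : Module.End k S))
    (h' : ∀ v ∈ fixed k S P, (op P z : Module.End k S) v - c' • v ∈
      LinearMap.range (normP P : Module.End k S)) : c = c' := by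
  obtain ⟨v, hv, hv'⟩ := SetLike.not_le_iff_exists.1 hne
  by_contra hcc
  have h1 := sub_mem (h' v hv) (h v hv)
  rw [sub_sub_sub_cancel_left, ← sub_smul] at h1
  have h4 := Submodule.smul_mem _ (c - c')⁻¹ h1
  rw [smul_smul, inv_mul_cancel₀ (sub_ne_zero.2 hcc), one_smul] at h4
  exact hv' h4

/-- The scalar is carried along a surjective injection. -/
theorem scalar_of_bijective {S : Type*} [AddCommGroup S] [Module k S]
    [Module (MonoidAlgebra k G) S] [IsScalarTower k (MonoidAlgebra k G) S]
    {S' : Type*} [AddCommGroup S'] [Module k S'] [Module (MonoidAlgebra k G) S']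
    [IsScalarTower k (MonoidAlgebra k G) S'] (f : S →ₗ[MonoidAlgebra k G] S')
    (hf : Function.Bijective f) {z : MonoidAlgebra k (NP P)} {c : k}
    (h : ∀ v ∈ fixed k S' P, (op P z : Module.End k S') v - c • v ∈
      LinearMap.range (normP P : Module.End k S')) :
    ∀ v ∈ fixed k S P, (op P z : Module.End k S) v - c • v ∈
      LinearMap.range (normP P : Module.End k S) := by
  intro v hv
  have hact : ∀ (g : G) (x : S), f ((act g : Module.End k S) x) = (act g : Module.End k S') (f x) :=
    fun g x => by rw [act_apply, act_apply, map_smul]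
  obtain ⟨y, hy⟩ := h (f v) fun u hu => by rw [← hact, hv u hu]
  obtain ⟨x, rfl⟩ := hf.2 y
  refine ⟨x, hf.1 ?_⟩
  rw [map_sub, map_op P f, LinearMap.map_smul_of_tower, ← hy, normP_apply, normP_apply, map_sum]
  exact Finset.sum_congr rfl fun u _ => hact _ _

variable (hP : Nat.card P = p) (hidx : ¬ p ∣ P.index)

include hP

open Classical in
/-- The scalars of a simple subquotient separate the centre. -/
theorem eq_zero_of_op_mem [Fintype G] {z : MonoidAlgebra k (NP P)} (hz : ∀ a, a * z = z * a)
    (hH : (Nat.card (NP P) : k) ≠ 0)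
    (hS : ∀ (W : Submodule (MonoidAlgebra k G) (MonoidAlgebra k G))
      (W' : Submodule (MonoidAlgebra k G) W), IsSimpleModule (MonoidAlgebra k G) (W ⧸ W') →
      ∀ v ∈ fixed k (W ⧸ W') P,
        (op P z : Module.End k (W ⧸ W')) v ∈ LinearMap.range (normP P : Module.End k (W ⧸ W'))) :
    z = 0 := by
  set σ : MonoidAlgebra k G := ∑ u : P, MonoidAlgebra.single (u : G) (1 : k) with hσ
  set W : Submodule (MonoidAlgebra k G) (MonoidAlgebra k G) := Submodule.span _ {σ} with hW
  have hcoef : ∀ g : G, σ.coeff g = if g ∈ P then 1 else 0 := by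
    intro g
    simp only [hσ, MonoidAlgebra.coeff_sum, Finsupp.finsetSum_apply, MonoidAlgebra.coeff_single,
      Finsupp.single_apply]
    split_ifs with hg
    · rw [Finset.sum_eq_single (⟨g, hg⟩ : P) (fun u _ hu => if_neg fun e => hu (Subtype.ext e))
        (by simp), if_pos rfl]
    · exact Finset.sum_eq_zero fun u _ => if_neg fun e => hg (by rw [← e]; exact u.2)
  have hright : ∀ (x : W) (g : G), ∀ u ∈ P,
      (x : MonoidAlgebra k G).coeff (g * u) = (x : MonoidAlgebra k G).coeff g := by
    rintro ⟨x, hx⟩ g u hu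
    obtain ⟨a, rfl⟩ := Submodule.mem_span_singleton.1 hx
    simp only [smul_eq_mul, coeff_mul_eq_sum, hcoef, ← mul_assoc (_⁻¹) g u,
      Subgroup.mul_mem_cancel_right _ hu]
  let v₀ : W := ⟨σ, Submodule.mem_span_singleton_self σ⟩
  have hactcoe : ∀ (g : G) (x : W) (m : G), (((act g : Module.End k W) x : W) : MonoidAlgebra k G).coeff m
      = (x : MonoidAlgebra k G).coeff (g⁻¹ * m) := fun g x m => by
    show ((MonoidAlgebra.single g (1 : k)) * (x : MonoidAlgebra k G)).coeff m = _
    rw [MonoidAlgebra.coeff_single_mul_apply, one_mul]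
  have hv₀ : v₀ ∈ fixed k W P := fun u hu => Subtype.ext (MonoidAlgebra.ext (Finsupp.ext fun m => by
    rw [hactcoe]
    show σ.coeff (u⁻¹ * m) = σ.coeff m
    rw [hcoef, hcoef]
    simp only [Subgroup.mul_mem_cancel_left _ (P.inv_mem hu)]))
  obtain ⟨l, hl⟩ := exists_pow_op_mem P z hS W
  obtain ⟨y, hy⟩ := hl v₀ hv₀
  refine eq_zero_of_central_nilpotent hH hz ⟨l, MonoidAlgebra.ext (Finsupp.ext fun h => ?_)⟩
  have h1 := congrArg (fun x : W => (x : MonoidAlgebra k G).coeff
    ((h.out : Subgroup.normalizer (P : Set G)) : G)) hy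
  have hzero : (((normP P : Module.End k W) y : W) : MonoidAlgebra k G).coeff
      ((h.out : Subgroup.normalizer (P : Set G)) : G) = 0 := by
    rw [normP_apply, AddSubmonoidClass.coe_finsetSum, MonoidAlgebra.coeff_sum,
      Finsupp.finsetSum_apply, Finset.sum_congr rfl (g := fun _ => (y : MonoidAlgebra k G).coeff
        ((h.out : Subgroup.normalizer (P : Set G)) : G)) fun u _ => ?_, Finset.sum_const,
      Finset.card_univ, ← Nat.card_eq_fintype_card, hP, nsmul_eq_mul, CharP.cast_eq_zero, zero_mul]
    set n : Subgroup.normalizer (P : Set G) := h.out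
    have hmem : (n : G)⁻¹ * (u : G)⁻¹ * n ∈ P :=
      (Subgroup.mem_normalizer_iff.1 n.2 _).2 (by simp [mul_assoc])
    rw [hactcoe, show (u : G)⁻¹ * (n : G) = (n : G) * ((n : G)⁻¹ * (u : G)⁻¹ * n) by group,
      hright y _ _ hmem]
  rw [hzero] at h1
  have hgen : ∀ a : MonoidAlgebra k (NP P),
      (((op P a : Module.End k W) v₀ : W) : MonoidAlgebra k G).coeff
        ((h.out : Subgroup.normalizer (P : Set G)) : G) = a.coeff h := by
    intro a
    induction a using MonoidAlgebra.induction_linear with
    | zero => simp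
    | add a b ha hb =>
      rw [map_add, LinearMap.add_apply, Submodule.coe_add, MonoidAlgebra.coeff_add,
        Finsupp.add_apply, ha, hb]
      simp
    | single g r =>
      rw [op_single, LinearMap.smul_apply, Submodule.coe_smul_of_tower, MonoidAlgebra.coeff_smul,
        Finsupp.smul_apply, hactcoe, MonoidAlgebra.coeff_single, Finsupp.single_apply, smul_eq_mul]
      show r * σ.coeff _ = _
      rw [hcoef]
      have hiff : (((g.out : Subgroup.normalizer (P : Set G)) : G))⁻¹ *
          ((h.out : Subgroup.normalizer (P : Set G)) : G) ∈ P ↔ g = h := by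
        conv_rhs => rw [← QuotientGroup.out_eq' g, ← QuotientGroup.out_eq' h, QuotientGroup.eq,
          Subgroup.mem_subgroupOf]
        simp
      simp only [hiff]
      split_ifs <;> simp
  rw [hgen] at h1
  rw [← h1]
  simp

include hidx

/-- The scalar of a family of central elements on a simple module, as a linear form. -/
theorem exists_scalar_form [IsAlgClosed k] {S : Type u'} [AddCommGroup S] [Module k S]
    [Module (MonoidAlgebra k G) S] [IsScalarTower k (MonoidAlgebra k G) S]
    [IsSimpleModule (MonoidAlgebra k G) S] [FiniteDimensional k S]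
    (hne : ¬ fixed k S P ≤ LinearMap.range (normP P : Module.End k S))
    {F : Type v'} [AddCommGroup F] [Module k F] (cen : F →ₗ[k] MonoidAlgebra k (NP P))
    (hcen : ∀ f a, a * cen f = cen f * a) :
    ∃ L : Module.Dual k F, ∀ f, ∀ v ∈ fixed k S P,
      (op P (cen f) : Module.End k S) v - L f • v ∈ LinearMap.range (normP P : Module.End k S) := by
  choose c hc using fun f => exists_scalar (S := S) P hP hidx (hcen f)
  refine ⟨{ toFun := c, map_add' := fun a b => ?_, map_smul' := fun r a => ?_ }, hc⟩
  · refine scalar_unique P hne (z := cen (a + b)) (hc _) fun v hv => ?_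
    have h := add_mem (hc a v hv) (hc b v hv)
    rwa [← add_sub_add_comm, ← add_smul, ← LinearMap.add_apply, ← LinearMap.map_add,
      ← LinearMap.map_add] at h
  · refine scalar_unique P hne (z := cen (r • a)) (hc _) fun v hv => ?_
    have h := Submodule.smul_mem _ r (hc a v hv)
    rwa [smul_sub, smul_smul, ← LinearMap.smul_apply, ← LinearMap.map_smul,
      ← LinearMap.map_smul] at h

open Classical in
/-- Simple subquotients with independent scalars, as many as classes of `N(P)/P`. -/
theorem exists_simples [IsAlgClosed k] [Fintype G] (hH : (Nat.card (NP P) : k) ≠ 0) :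
    ∃ (W : ConjClasses (NP P) → Submodule (MonoidAlgebra k G) (MonoidAlgebra k G))
      (W' : ∀ C, Submodule (MonoidAlgebra k G) (W C)),
      (∀ C, IsSimpleModule (MonoidAlgebra k G) (W C ⧸ W' C)) ∧
      (∀ C, ¬ fixed k (W C ⧸ W' C) P ≤
        LinearMap.range (normP P : Module.End k (W C ⧸ W' C))) ∧
      ∀ C D, C ≠ D → ∀ f : (W C ⧸ W' C) →ₗ[MonoidAlgebra k G] (W D ⧸ W' D), f = 0 := by
  haveI := Fintype.ofFinite (NP P)
  haveI := Fintype.ofFinite (ConjClasses (NP P))
  haveI hfinA : Module.Finite k (MonoidAlgebra k G) :=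
    Module.Finite.equiv (MonoidAlgebra.coeffLinearEquiv k : MonoidAlgebra k G ≃ₗ[k] (G →₀ k)).symm
  let cen : (ConjClasses (NP P) → k) →ₗ[k] MonoidAlgebra k (NP P) :=
    { toFun := fun f => ofFun fun h => f (ConjClasses.mk h)
      map_add' := fun a b => MonoidAlgebra.ext (Finsupp.ext fun h => by simp)
      map_smul' := fun c a => MonoidAlgebra.ext (Finsupp.ext fun h => by simp) }
  have hcen : ∀ f a, a * cen f = cen f * a := by
    intro f a
    have : cen f ∈ Ctr k (NP P) := mem_ctr_iff.2 fun g h => by
      show (ofFun fun h => f (ConjClasses.mk h)).coeff _ = (ofFun fun h => f (ConjClasses.mk h)).coeff _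
      rw [coeff_ofFun, coeff_ofFun, show ConjClasses.mk (h * g * h⁻¹) = ConjClasses.mk g from
        (ConjClasses.mk_eq_mk_iff_isConj.2 (isConj_iff.2 ⟨h, rfl⟩)).symm]
    exact Subring.mem_center_iff.1 this a
  let Idx := {WW : Σ W : Submodule (MonoidAlgebra k G) (MonoidAlgebra k G),
      Submodule (MonoidAlgebra k G) W //
    IsSimpleModule (MonoidAlgebra k G) (WW.1 ⧸ WW.2) ∧ ¬ fixed k (WW.1 ⧸ WW.2) P ≤
      LinearMap.range (normP P : Module.End k (WW.1 ⧸ WW.2))}
  have hfd : ∀ (i : Idx), FiniteDimensional k (i.1.1 ⧸ i.1.2) := fun i => by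
    haveI : Module.Finite k i.1.1 :=
      Module.Finite.of_injective ((i.1.1).subtype.restrictScalars k) Subtype.val_injective
    exact Module.Finite.of_surjective ((i.1.2).mkQ.restrictScalars k) (i.1.2).mkQ_surjective
  have hval : ∀ i : Idx, ∃ L : Module.Dual k (ConjClasses (NP P) → k), ∀ f,
      ∀ v ∈ fixed k (i.1.1 ⧸ i.1.2) P, (op P (cen f) : Module.End k (i.1.1 ⧸ i.1.2)) v - L f • v ∈
        LinearMap.range (normP P : Module.End k (i.1.1 ⧸ i.1.2)) := fun i => by
    haveI := i.2.1
    haveI := hfd i
    exact exists_scalar_form P hP hidx i.2.2 cen hcen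
  choose L hL using hval
  have hspan : Submodule.span k (Set.range L) = ⊤ := by
    by_contra hne
    obtain ⟨Φ, hΦ, hΦ'⟩ := Submodule.exists_le_ker_of_lt_top _ (lt_top_iff_ne_top.2 hne)
    obtain ⟨f, hf⟩ := (Module.evalEquiv k (ConjClasses (NP P) → k)).surjective Φ
    refine hΦ ?_
    rw [← hf]
    suffices f = 0 by rw [this, map_zero]
    have hz := eq_zero_of_op_mem (z := cen f) P hP (hcen f) hH (fun W W' hs v hv => by
      by_cases hle : fixed k (W ⧸ W') P ≤ LinearMap.range (normP P : Module.End k (W ⧸ W'))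
      · exact hle (op_mem_fixed P hv _)
      let i : Idx := ⟨⟨W, W'⟩, hs, hle⟩
      have h1 : L i f = 0 := by
        have := hΦ' (Submodule.subset_span ⟨i, rfl⟩)
        rw [LinearMap.mem_ker, ← hf, Module.evalEquiv_apply, Module.Dual.eval_apply] at this
        exact this
      have h2 := hL i f v hv
      rwa [h1, zero_smul, sub_zero] at h2)
    funext C
    obtain ⟨h, rfl⟩ := ConjClasses.mk_surjective C
    have := congrArg (fun a : MonoidAlgebra k (NP P) => a.coeff h) hz
    simpa [cen] using this
  obtain ⟨b, hb, hbs, hli⟩ := exists_linearIndependent k (Set.range L)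
  rw [hspan] at hbs
  haveI : Finite b := hli.finite
  haveI := Fintype.ofFinite b
  have hcard : Fintype.card b = Fintype.card (ConjClasses (NP P)) := by
    rw [← Module.finrank_eq_card_basis (Module.Basis.mk hli (by rw [Subtype.range_coe, hbs])),
      Subspace.dual_finrank_eq, Module.finrank_fintype_fun_eq_card]
  let e := Fintype.equivOfCardEq hcard.symm
  choose i hi using fun C => hb (e C).2
  refine ⟨fun C => (i C).1.1, fun C => (i C).1.2, fun C => (i C).2.1, fun C => (i C).2.2,
    fun C D hCD f => ?_⟩
  haveI := (i C).2.1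
  haveI := (i D).2.1
  rcases f.bijective_or_eq_zero with hbij | h0
  swap
  · exact h0
  exfalso
  refine hCD (e.injective (Subtype.ext ?_))
  rw [← hi C, ← hi D]
  refine LinearMap.ext fun a => scalar_unique P (i C).2.2 (z := cen a) (hL (i C) a) ?_
  exact scalar_of_bijective P f hbij (hL (i D) a)

end Modules

section Count

variable {G : Type u} [Group G] [Fintype G] {p : ℕ} [Fact p.Prime] {M : Ideal AlgInt} [M.IsPrime]

open scoped ComplexConjugate

theorem memLocalRing_degree_div (hM : Cfsg.IsPModular p M) (χ : IrrCharacter G)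
    (hd : ¬ p ∣ Nat.card G / Cfsg.charDegree (χ : G → ℂ)) :
    Cfsg.MemLocalRing M ((Nat.card G : ℂ)⁻¹ * (χ : G → ℂ) 1) := by
  have h1 := memLocalRing_natCast_inv hM hd
  rw [Nat.cast_div (charDegree_dvd_card χ) (Nat.cast_ne_zero.2 (charDegree_ne_zero χ)), inv_div,
    charDegree_cast, div_eq_mul_inv, mul_comm] at h1
  exact h1

open Classical in
/-- The count of p-regular classes. -/
theorem card_regular_classes_ge (hM : Cfsg.IsPModular p M) (hsq : ¬ p ^ 2 ∣ Nat.card G)
    (P : Sylow p G) (hP : Nat.card (P : Subgroup G) = p) :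
    Nat.card (ConjClasses (NP (P : Subgroup G))) +
        Nat.card {χ : IrrCharacter G // p ∣ Cfsg.charDegree (χ : G → ℂ)} ≤
      Nat.card {C : ConjClasses G // ¬ p ∣ orderOf C.out} := by
  haveI := charP_res hM
  haveI := BlockPairs.isAlgClosed_res hM
  haveI := Fintype.ofFinite (P : Subgroup G)
  haveI := Fintype.ofFinite (ConjClasses (NP (P : Subgroup G)))
  set k := Res M
  have hidx : ¬ p ∣ (P : Subgroup G).index := P.not_dvd_index
  obtain ⟨α, β, hαβ⟩ := exists_regular_exponent (G := G) (m := (P : Subgroup G).index)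
    (by rw [← (P : Subgroup G).card_mul_index, hP]) hidx
  have hH : (Nat.card (NP (P : Subgroup G)) : k) ≠ 0 := by
    rw [Ne, red_natCast_eq_zero_iff hM]
    refine fun hd => hidx (hd.trans ?_)
    show ((P : Subgroup G).subgroupOf _).index ∣ _
    exact Subgroup.relIndex_dvd_index_of_le Subgroup.le_normalizer
  obtain ⟨W, W', hsimple, hne, hhom⟩ := exists_simples (k := k) (P : Subgroup G) hP hidx hH
  haveI := hsimple
  haveI hfinA : Module.Finite k (MonoidAlgebra k G) :=
    Module.Finite.equiv (MonoidAlgebra.coeffLinearEquiv k : MonoidAlgebra k G ≃ₗ[k] (G →₀ k)).symm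
  haveI hfin : ∀ C, FiniteDimensional k (W C ⧸ W' C) := fun C => by
    haveI : Module.Finite k (W C) :=
      Module.Finite.of_injective ((W C).subtype.restrictScalars k) Subtype.val_injective
    exact Module.Finite.of_surjective ((W' C).mkQ.restrictScalars k) (W' C).mkQ_surjective
  let Z := {χ : IrrCharacter G // p ∣ Cfsg.charDegree (χ : G → ℂ)}
  have hz : ∀ χ : Z, ¬ p ∣ Nat.card G / Cfsg.charDegree ((χ.1 : IrrCharacter G) : G → ℂ) := fun χ hd => by
    refine hsq ?_
    rw [sq, ← Nat.mul_div_cancel' (charDegree_dvd_card χ.1)]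
    exact Nat.mul_dvd_mul χ.2 hd
  have hB : ∀ χ : Z, IsBlockUnion M ({χ.1} : Set (IrrCharacter G)) := fun χ => by
    rw [← (defect_zero_iff hM χ.1).1 (hz χ)]
    exact isBlockUnion_of_isPBlock (isPBlock_blockOf χ.1)
  set τ : ConjClasses (NP (P : Subgroup G)) → G → k := fun C g =>
    LinearMap.trace k (W C ⧸ W' C) (act g) with hτ
  set ρ : Z → G → k := fun χ g => red M ⟨((χ.1 : IrrCharacter G) : G → ℂ) g, memLocalRing_char χ.1 g⟩
  have hτreg : ∀ C g, τ C (g ^ α) = τ C g := fun C g => by
    simp only [hτ]
    conv_rhs => rw [(hαβ g).2.2.1]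
    exact (trace_act_mul_of_pow_eq_one (Commute.pow_pow_self g α β) (hαβ g).2.2.2).symm
  have hρreg : ∀ χ g, ρ χ (g ^ α) = ρ χ g := fun χ g =>
    (red_char_pow hM χ.1 (hαβ g).2.2.1 (hαβ g).2.2.2).symm
  -- the idempotents
  set f : Z → MonoidAlgebra k G := fun χ =>
    (idemBar M ({χ.1} : Set (IrrCharacter G)) (hB χ) : MonoidAlgebra k G) with hf
  have hbc : ∀ (χ : Z) (g : G), Cfsg.blockCoeff ({χ.1} : Set (IrrCharacter G)) g =
      (Nat.card G : ℂ)⁻¹ * ((χ.1 : G → ℂ) 1 * (χ.1 : G → ℂ) g⁻¹) := by
    intro χ g
    rw [blockCoeff_eq_sum, Characters.character_inv (Characters.isCharacter_of_isIrr χ.1.2)]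
    congr 1
    refine (Finset.sum_eq_single_of_mem χ.1 (Finset.mem_univ _) fun ψ _ hψ => ?_).trans ?_
    · exact if_neg (by simpa using hψ)
    · exact if_pos (Set.mem_singleton _)
  have hfcoef : ∀ (χ : Z) (g : G), (f χ).coeff g =
      red M ⟨_, memLocalRing_degree_div hM χ.1 (hz χ)⟩ * ρ χ g⁻¹ := by
    intro χ g
    rw [hf]
    dsimp only
    rw [coeff_idemBar, ← map_mul]
    exact congrArg _ (Subtype.ext (by
      show Cfsg.blockCoeff _ g = _
      rw [hbc]
      push_cast
      ring))
  have hfS : ∀ (χ : Z) C (x : W C ⧸ W' C), f χ • x = 0 := by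
    intro χ C x
    set z := f χ with hzdef
    have hcomm : ∀ a, a * z = z * a := fun a => Subring.mem_center_iff.1
      (idemBar M _ (hB χ)).2 a
    let T : Module.End (MonoidAlgebra k G) (W C ⧸ W' C) :=
      { toFun := fun y => z • y
        map_add' := smul_add z
        map_smul' := fun a y => by rw [RingHom.id_apply, ← mul_smul, ← hcomm, mul_smul] }
    obtain ⟨c, hc⟩ := (IsSimpleModule.algebraMap_end_bijective_of_isAlgClosed k
      (A := MonoidAlgebra k G) (V := W C ⧸ W' C)).2 T
    have hc' : ∀ y : W C ⧸ W' C, z • y = c • y := fun y => by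
      have := congrArg (fun F : Module.End (MonoidAlgebra k G) (W C ⧸ W' C) => F y) hc
      exact this.symm
    suffices c = 0 by rw [hc', this, zero_smul]
    obtain ⟨v, hv, hv'⟩ := SetLike.not_le_iff_exists.1 (hne C)
    by_contra hc0
    set Cn := Subgroup.centralizer ((P : Subgroup G) : Set G)
    have hzero : ∀ g ∈ Cn, z.coeff g = 0 := by
      intro g hg
      rw [hzdef, hfcoef]
      by_cases hreg : p ∣ orderOf g
      · rw [← hfcoef, hf]
        dsimp only
        rw [coeff_idemBar, ← map_zero (red M)]
        exact congrArg _ (Subtype.ext (blockCoeff_eq_zero_of_singular hM (hB χ) hreg))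
      · obtain ⟨x₀, hx₀, hx₀1⟩ : ∃ x : G, x ∈ (P : Subgroup G) ∧ x ≠ 1 := by
          haveI : Nontrivial (P : Subgroup G) :=
            Finite.one_lt_card_iff_nontrivial.1 (by rw [hP]; exact (Fact.out : p.Prime).one_lt)
          obtain ⟨x, hx⟩ := exists_ne (1 : (P : Subgroup G))
          exact ⟨x, x.2, fun e => hx (Subtype.ext e)⟩
        have hord : orderOf x₀ = p := orderOf_eq_prime (by
          have := congrArg Subtype.val (pow_card_eq_one' (x := (⟨x₀, hx₀⟩ : (P : Subgroup G))))
          rwa [hP] at this) hx₀1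
        have hcx : Commute x₀ g⁻¹ :=
          (show Commute x₀ g from Subgroup.mem_centralizer_iff.1 hg x₀ hx₀).inv_right
        have hord' : orderOf (x₀ * g⁻¹) = p * orderOf g := by
          rw [hcx.orderOf_mul_eq_mul_orderOf_of_coprime, hord, orderOf_inv]
          rw [hord, orderOf_inv]
          exact (Fact.out : p.Prime).coprime_iff_not_dvd.2 hreg
        have hvan : ρ χ (x₀ * g⁻¹) = 0 := by
          have h1 := blockCoeff_eq_zero_of_singular hM (hB χ) (y := (x₀ * g⁻¹)⁻¹)
            (by rw [orderOf_inv, hord']; exact dvd_mul_right _ _)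
          rw [hbc, inv_inv, mul_eq_zero, mul_eq_zero] at h1
          have h2 := (h1.resolve_left (inv_ne_zero (Characters.natCard_ne_zero (G := G)))).resolve_left
            (Characters.irr_one_ne_zero χ.1.2)
          show red M _ = 0
          rw [← map_zero (red M)]
          exact congrArg _ (Subtype.ext h2)
        have hxa : x₀ ^ α = 1 := by
          by_contra hne1
          apply (hαβ x₀).1
          rw [orderOf_eq_prime (p := p) ?_ hne1]
          rw [← pow_mul, mul_comm, pow_mul, ← hord, pow_orderOf_eq_one, one_pow]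
        rw [← hρreg χ (x₀ * g⁻¹), hcx.mul_pow, hxa, one_mul,
          (hαβ g⁻¹).2.1 (by rwa [orderOf_inv])] at hvan
        rw [hvan, mul_zero]
    letI act' : MulAction (P : Subgroup G) G :=
      { smul := fun u g => (u : G) * g * (u : G)⁻¹
        one_smul := fun g => show ((1 : (P : Subgroup G)) : G) * g * ((1 : (P : Subgroup G)) : G)⁻¹ = g by simp
        mul_smul := fun u w g => show ((u * w : (P : Subgroup G)) : G) * g * ((u * w : (P : Subgroup G)) : G)⁻¹ =
          (u : G) * ((w : G) * g * (w : G)⁻¹) * (u : G)⁻¹ by simp [mul_assoc] }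
    have hsm : ∀ (u : (P : Subgroup G)) (g : G), u • g = (u : G) * g * (u : G)⁻¹ := fun _ _ => rfl
    have hs : ∀ (u : (P : Subgroup G)), ∀ g ∈ Finset.univ.filter (· ∉ Cn),
        u • g ∈ Finset.univ.filter (· ∉ Cn) := by
      intro u g hg
      simp only [Finset.mem_filter, Finset.mem_univ, true_and] at hg ⊢
      intro h
      apply hg
      refine Subgroup.mem_centralizer_iff.2 fun w hw => ?_
      have hw' : (u : G) * w * (u : G)⁻¹ ∈ (P : Subgroup G) :=
        (P : Subgroup G).mul_mem ((P : Subgroup G).mul_mem u.2 hw) ((P : Subgroup G).inv_mem u.2)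
      have := Subgroup.mem_centralizer_iff.1 h _ hw'
      rw [hsm] at this
      calc w * g = (u : G)⁻¹ * ((u : G) * w * (u : G)⁻¹ * ((u : G) * g * (u : G)⁻¹)) * u := by group
        _ = g * w := by rw [this]; group
    have hfree : ∀ (u : (P : Subgroup G)), ∀ g ∈ Finset.univ.filter (· ∉ Cn),
        u • g = g → u = 1 := by
      intro u g hg h
      simp only [Finset.mem_filter, Finset.mem_univ, true_and] at hg
      by_contra hu
      apply hg
      refine Subgroup.mem_centralizer_iff.2 fun w hw => ?_
      obtain ⟨i, hi⟩ := mem_zpowers_of_prime_card hP hu (g' := ⟨w, hw⟩)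
      have hwu : w = (u : G) ^ i := by
        have := congrArg Subtype.val hi
        simpa using this.symm
      rw [hwu]
      exact ((show Commute (u : G) g from mul_inv_eq_iff_eq_mul.1 h).zpow_left i).eq
    obtain ⟨y, hy⟩ := exists_normP_eq_sum_of_free (k := k) (S := W C ⧸ W' C)
      (P := (P : Subgroup G)) (Finset.univ.filter (· ∉ Cn)) hs hfree
      (fun g => z.coeff g • (act g : Module.End k (W C ⧸ W' C)) v) (fun u g _ => by
        rw [hsm, coeff_conj_of_mem_ctr (idemBar M _ (hB χ)).2, map_smul, act_mul_apply, act_mul_apply,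
          hv _ ((P : Subgroup G).inv_mem u.2)])
    have hzv : z • v = (normP (P : Subgroup G) : Module.End k (W C ⧸ W' C)) y := by
        rw [smul_eq_sum_act, ← hy]
        refine (Finset.sum_subset (Finset.subset_univ _) fun g _ hg => ?_).symm
        rw [hzero g (by simpa using hg), zero_smul]
    rw [hc'] at hzv
    exact hv' ⟨c⁻¹ • y, by rw [map_smul, ← hzv, smul_smul, inv_mul_cancel₀ hc0, one_smul]⟩
  -- independence on the regular classes
  let V : ConjClasses (NP (P : Subgroup G)) ⊕ Z → ({C : ConjClasses G // ¬ p ∣ orderOf C.out} → k) :=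
    Sum.elim (fun C D => τ C D.1.out) (fun χ D => ρ χ D.1.out)
  have hV : LinearIndependent k V := by
    rw [Fintype.linearIndependent_iff]
    intro l hl
    have hall : ∀ g : G, ∑ C, l (Sum.inl C) * τ C g + ∑ χ, l (Sum.inr χ) * ρ χ g = 0 := by
      intro g
      obtain ⟨c, hc⟩ := isConj_iff.1 (ConjClasses.mk_eq_mk_iff_isConj.1
        (Quotient.out_eq (ConjClasses.mk (g ^ α)) : ConjClasses.mk (ConjClasses.mk (g ^ α)).out = _))
      have hreg : ¬ p ∣ orderOf (ConjClasses.mk (g ^ α)).out := by
        have := (MulAut.conj c).orderOf_eq (ConjClasses.mk (g ^ α)).out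
        rw [show MulAut.conj c (ConjClasses.mk (g ^ α)).out = g ^ α from hc] at this
        rw [← this]; exact (hαβ g).1
      have h1 := congrFun hl ⟨_, hreg⟩
      simp only [Fintype.sum_sum_type, Pi.add_apply, Finset.sum_apply, Pi.smul_apply, smul_eq_mul, V,
        Sum.elim_inl, Sum.elim_inr, Pi.zero_apply] at h1
      generalize (ConjClasses.mk (g ^ α)).out = o at hc h1
      rw [← h1]
      congr 1
      · refine Finset.sum_congr rfl fun C _ => ?_
        rw [← hτreg C g, ← hc]
        simp only [hτ]
        rw [act_mul, LinearMap.trace_mul_comm, ← act_mul, ← mul_assoc, inv_mul_cancel, one_mul]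
      · refine Finset.sum_congr rfl fun χ _ => ?_
        rw [← hρreg χ g, ← hc]
        exact congrArg (l (Sum.inr χ) * ·) (congrArg (red M)
          (Subtype.ext (Characters.isClassFunction_of_isIrr χ.1.2 _ c)))
    have hr : ∀ χ : Z, l (Sum.inr χ) = 0 := by
      intro χ
      obtain ⟨g, hg⟩ : ∃ g : G, ρ χ g⁻¹ ≠ 0 := by
        by_contra! h0
        have h1 := omegaBar_idemBar _ (hB χ) χ.1
        rw [if_pos (Set.mem_singleton _), show idemBar M _ (hB χ) = 0 from
          ctr_ext fun g => by
            show (f χ).coeff g = _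
            rw [hfcoef, h0, mul_zero]; simp, map_zero] at h1
        exact zero_ne_one h1
      have hτ0 : ∀ C, ∑ y : G, (f χ).coeff y * τ C (y * g⁻¹) = 0 := by
        intro C
        have h4 : (Algebra.lsmul k k (W C ⧸ W' C) (f χ) : Module.End k (W C ⧸ W' C)) = 0 :=
          LinearMap.ext fun x => hfS χ C x
        have h5 : (Algebra.lsmul k k (W C ⧸ W' C) (f χ) : Module.End k (W C ⧸ W' C)) =
            ∑ h : G, (f χ).coeff h • act h :=
          LinearMap.ext fun x => by
            rw [LinearMap.sum_apply]
            exact smul_eq_sum_act (f χ) x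
        have h6 := congrArg (fun E : Module.End k (W C ⧸ W' C) =>
          LinearMap.trace k (W C ⧸ W' C) (E * (act g⁻¹ : Module.End k (W C ⧸ W' C)))) (h5.symm.trans h4)
        simp only [zero_mul, map_zero, Finset.sum_mul, smul_mul_assoc, map_sum, map_smul,
          smul_eq_mul, ← act_mul] at h6
        exact h6
      have hρ0 : ∀ ψ : Z, ∑ y : G, (f χ).coeff y * ρ ψ (y * g⁻¹) =
          if ψ = χ then ρ χ g⁻¹ else 0 := by
        intro ψ
        have key : (⟨((if ψ = χ then 1 else 0) * ((ψ.1 : G → ℂ) g⁻¹)),
            (localRing M).mul_mem (by split_ifs <;> simp) (memLocalRing_char ψ.1 _)⟩ : localRing M) =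
            ∑ y : G, (⟨Cfsg.blockCoeff ({χ.1} : Set (IrrCharacter G)) y,
              memLocalRing_blockCoeff (hB χ) y⟩ : localRing M) *
              ⟨(ψ.1 : G → ℂ) (y * g⁻¹), memLocalRing_char ψ.1 _⟩ := by
          refine Subtype.ext ?_
          simp only [AddSubmonoidClass.coe_finsetSum, Subring.coe_mul]
          have h2 : ∑ h : G, Cfsg.blockCoeff ({χ.1} : Set (IrrCharacter G)) h * (ψ.1 : G → ℂ) (h * g⁻¹) =
              (if ψ.1 ∈ ({χ.1} : Set (IrrCharacter G)) then 1 else 0) * (ψ.1 : G → ℂ) g⁻¹ := by
            have h3 : evalFun (ψ.1 : G → ℂ) (MonoidAlgebra.single g⁻¹ 1) = (ψ.1 : G → ℂ) g⁻¹ := by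
              rw [evalFun, Finset.sum_eq_single g⁻¹ (fun x _ hx => by simp [hx.symm]) (by simp)]
              simp
            have h10 := evalFun_central_mul ψ.1 (setIdemC ({χ.1} : Set (IrrCharacter G)))
              (MonoidAlgebra.single g⁻¹ (1 : ℂ))
            rw [omega_setIdemC, h3] at h10
            refine Eq.trans ?_ (h10.trans (by congr))
            rw [evalFun]
            exact Fintype.sum_equiv (Equiv.mulRight g⁻¹) _ _ fun x => by simp [mul_assoc]
          rw [h2]
          simp only [Set.mem_singleton_iff]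
          by_cases he : ψ = χ
          · subst he; simp
          · rw [if_neg he, if_neg fun e => he (Subtype.ext e)]
        have h7 := congrArg (red M) key
        rw [map_sum] at h7
        simp only [map_mul, ← coeff_idemBar] at h7
        refine h7.symm.trans ?_
        split_ifs with he
        · subst he
          exact congrArg _ (Subtype.ext (one_mul _))
        · rw [← map_zero (red M)]
          exact congrArg _ (Subtype.ext (zero_mul _))
      have h8 : ∑ y : G, (f χ).coeff y *
          (∑ C, l (Sum.inl C) * τ C (y * g⁻¹) + ∑ ψ, l (Sum.inr ψ) * ρ ψ (y * g⁻¹)) = 0 :=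
        Finset.sum_eq_zero fun y _ => by rw [hall, mul_zero]
      simp only [mul_add, Finset.sum_add_distrib] at h8
      rw [Finset.sum_congr rfl fun y _ => Finset.mul_sum _ _ ((f χ).coeff y),
        Finset.sum_congr (g := fun y => ∑ ψ, (f χ).coeff y * (l (Sum.inr ψ) * ρ ψ (y * g⁻¹))) rfl
          fun y _ => Finset.mul_sum _ _ ((f χ).coeff y),
        Finset.sum_comm, add_comm, Finset.sum_comm, add_comm] at h8
      have e1 : ∀ C, ∑ y : G, (f χ).coeff y * (l (Sum.inl C) * τ C (y * g⁻¹)) = 0 := fun C => by
        simp only [← mul_assoc, mul_comm _ (l (Sum.inl C))]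
        simp only [mul_assoc, ← Finset.mul_sum, hτ0, mul_zero]
      have e2 : ∀ ψ, ∑ y : G, (f χ).coeff y * (l (Sum.inr ψ) * ρ ψ (y * g⁻¹)) =
          if ψ = χ then l (Sum.inr χ) * ρ χ g⁻¹ else 0 := fun ψ => by
        simp only [← mul_assoc, mul_comm _ (l (Sum.inr ψ))]
        simp only [mul_assoc, ← Finset.mul_sum, hρ0]
        split_ifs with he
        · rw [he]
        · rw [mul_zero]
      simp only [e1, e2, Finset.sum_const_zero, zero_add] at h8
      rw [Finset.sum_eq_single χ (fun x _ hx => if_neg hx) (by simp), if_pos rfl] at h8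
      exact (mul_eq_zero.1 h8).resolve_right hg
    rintro (C | χ)
    · obtain ⟨a, ha⟩ := exists_trace_dual (k := k) (A := MonoidAlgebra k G)
        (fun C => W C ⧸ W' C) hhom C
      have h9 : ∀ D, ∑ y : G, a.coeff y * τ D y = if D = C then 1 else 0 := fun D => by
        rw [← ha D]
        have h5 : (Algebra.lsmul k k (W D ⧸ W' D) a : Module.End k (W D ⧸ W' D)) =
            ∑ h : G, a.coeff h • act h :=
          LinearMap.ext fun x => by
            rw [LinearMap.sum_apply]
            exact smul_eq_sum_act a x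
        rw [h5, map_sum]
        exact Finset.sum_congr rfl fun y _ => by rw [map_smul, smul_eq_mul]
      have h8 : ∑ y : G, a.coeff y *
          (∑ D, l (Sum.inl D) * τ D y + ∑ ψ, l (Sum.inr ψ) * ρ ψ y) = 0 :=
        Finset.sum_eq_zero fun y _ => by rw [hall, mul_zero]
      simp only [hr, zero_mul, Finset.sum_const_zero, add_zero] at h8
      rw [Finset.sum_congr rfl fun y _ => Finset.mul_sum _ _ (a.coeff y)] at h8
      rw [Finset.sum_comm] at h8
      have e1 : ∀ D, ∑ y : G, a.coeff y * (l (Sum.inl D) * τ D y) =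
          l (Sum.inl D) * if D = C then 1 else 0 := fun D => by
        rw [← h9 D, Finset.mul_sum]
        exact Finset.sum_congr rfl fun y _ => mul_left_comm _ _ _
      simpa [e1] using h8
    · exact hr χ
  have := hV.fintype_card_le_finrank
  rw [Fintype.card_sum, Module.finrank_fintype_fun_eq_card] at this
  simpa only [Nat.card_eq_fintype_card] using this

end Count

end CfsgLib.DefectOne
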