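import Cfsg.Agent.DefectOne.Vectors
import Cfsg.Agent.DefectOne.Simples

/-!
# Classes: the normalizer, and the bound on the number of columns

The singular classes of `G` are those of the normalizer; the p-regular classes of the normalizer
are the classes of the normalizer modulo `P`; there are at most as many columns as singular classes.
-/

set_option autoImplicit false
set_option linter.style.haveILetI false
set_option linter.unusedSectionVars false

namespace CfsgLib.DefectOne

open Cfsg CfsgLib.Characters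
open scoped ComplexConjugate

universe u

/-- Classes of elements of order divisible by `p`. -/
abbrev SingCl (p : ℕ) (H : Type u) [Group H] : Type u :=
  {C : ConjClasses H // p ∣ orderOf (Quotient.out C)}

/-- Classes of p-regular elements. -/
abbrev RegCl (p : ℕ) (H : Type u) [Group H] : Type u :=
  {C : ConjClasses H // ¬ p ∣ orderOf (Quotient.out C)}

theorem orderOf_out {H : Type u} [Group H] (g : H) :
    orderOf (Quotient.out (ConjClasses.mk g)) = orderOf g := by
  obtain ⟨c, hc⟩ := isConj_iff.1 (ConjClasses.mk_eq_mk_iff_isConj.1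
    (Quotient.out_eq (ConjClasses.mk g) : ConjClasses.mk (ConjClasses.mk g).out = _))
  have := (MulAut.conj c).orderOf_eq (Quotient.out (ConjClasses.mk g))
  rw [MulAut.conj_apply, hc] at this
  exact this.symm

theorem card_sing_add_reg (p : ℕ) (H : Type u) [Group H] [Finite H] :
    Nat.card (SingCl p H) + Nat.card (RegCl p H) = Nat.card (ConjClasses H) := by
  classical
  rw [← Nat.card_sum]
  exact Nat.card_congr (Equiv.sumCompl _)

variable {G : Type u} [Group G] {p : ℕ} [Fact p.Prime] [Finite G]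

namespace Local

variable (L : Local p G)

/-- The class map from the normalizer. -/
noncomputable def toG (C : ConjClasses L.N) : ConjClasses G := ConjClasses.map L.N.subtype C

theorem toG_mk (g : L.N) : L.toG (ConjClasses.mk g) = ConjClasses.mk (g : G) := rfl

theorem card_sing_eq : Nat.card (SingCl p L.N) = Nat.card (SingCl p G) := by
  have hmem : ∀ C : SingCl p L.N, p ∣ orderOf (Quotient.out (L.toG C.1)) := by
    rintro ⟨C, hC⟩
    obtain ⟨g, rfl⟩ := ConjClasses.mk_surjective C
    rw [orderOf_out] at hC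
    rw [toG_mk, orderOf_out, Subgroup.orderOf_coe]
    exact hC
  refine Nat.card_eq_of_bijective (fun C => (⟨L.toG C.1, hmem C⟩ : SingCl p G)) ⟨?_, ?_⟩
  · rintro ⟨C, hC⟩ ⟨D, hD⟩ h
    obtain ⟨g, rfl⟩ := ConjClasses.mk_surjective C
    obtain ⟨g', rfl⟩ := ConjClasses.mk_surjective D
    rw [orderOf_out, ← Subgroup.orderOf_coe] at hC hD
    obtain ⟨c, hc⟩ := isConj_iff.1 (ConjClasses.mk_eq_mk_iff_isConj.1 (congrArg Subtype.val h))
    obtain ⟨u, hu, k, hk, he⟩ := L.decomp _ (L.mem_centralizer_of_mem_N g.2 hC)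
    obtain ⟨u', hu', k', hk', he'⟩ := L.decomp _ (L.mem_centralizer_of_mem_N g'.2 hD)
    have hu1 : u ≠ 1 := (L.dvd_orderOf_iff hu hk).1 (he ▸ hC)
    have hcN : c ∈ L.N := L.mem_N_of_conj_emb (x := (⟨u, hu⟩, ⟨k, hk⟩))
      (y := (⟨u', hu'⟩, ⟨k', hk'⟩)) (fun e => hu1 (congrArg Subtype.val e)) (by
        simp only [emb_apply, ← he, ← he']; exact hc)
    exact Subtype.ext (ConjClasses.mk_eq_mk_iff_isConj.2
      (isConj_iff.2 ⟨⟨c, hcN⟩, Subtype.ext (by simpa using hc)⟩))
  · rintro ⟨C, hC⟩
    obtain ⟨g, rfl⟩ := ConjClasses.mk_surjective C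
    rw [orderOf_out] at hC
    obtain ⟨c, hc⟩ := L.exists_conj_centralizer hC
    refine ⟨⟨ConjClasses.mk ⟨_, Subgroup.centralizer_le_normalizer _ hc⟩, ?_⟩, Subtype.ext ?_⟩
    · rw [orderOf_out, ← Subgroup.orderOf_coe]
      have := (MulAut.conj c).orderOf_eq g
      rw [MulAut.conj_apply] at this
      rwa [this]
    · exact (ConjClasses.mk_eq_mk_iff_isConj.2 (isConj_iff.2 ⟨c, rfl⟩)).symm

/-- Two p-regular elements of the normalizer with conjugate images modulo `P` are conjugate. -/
theorem isConj_of_mk {x : L.N} (hx : ¬ p ∣ orderOf x) {u : G} (hu : u ∈ (L.P : Subgroup G))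
    (hxu : ¬ p ∣ orderOf ((x : G) * u)) : ∃ v ∈ (L.P : Subgroup G), v * x * v⁻¹ = (x : G) * u := by
  by_cases hc : (x : G) ∈ Subgroup.centralizer ((L.P : Subgroup G) : Set G)
  · refine ⟨1, (L.P : Subgroup G).one_mem, ?_⟩
    have hk : (x : G) ∈ L.K := L.mem_K _ hc (by rwa [Subgroup.orderOf_coe])
    have h1 : u = 1 := by
      by_contra h
      apply hxu
      rw [← (L.commute hu hk).eq]
      exact (L.dvd_orderOf_iff hu hk).2 h
    simp [h1]
  · haveI : Fact (Nat.card (L.P : Subgroup G)).Prime := ⟨by rw [L.card_P]; exact Fact.out⟩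
    haveI := L.isMulCommutative
    let f : (L.P : Subgroup G) →* (L.P : Subgroup G) :=
      MonoidHom.mk' (fun v => L.autP x⁻¹ v * v⁻¹) fun v w => by
        rw [map_mul, mul_inv_rev, mul_assoc, mul_assoc, ← mul_assoc (L.autP x⁻¹ w),
          mul_comm' (L.autP x⁻¹ w * w⁻¹) v⁻¹]
    have hker : f.ker = ⊥ := by
      rcases f.ker.eq_bot_or_eq_top_of_prime_card with hb | ht
      · exact hb
      · exfalso
        refine hc (Subgroup.mem_centralizer_iff.2 fun w hw => ?_)
        have h1 : f ⟨w, hw⟩ = 1 := MonoidHom.mem_ker.1 (ht ▸ Subgroup.mem_top _)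
        have h2 := congrArg Subtype.val h1
        simp only [f, MonoidHom.mk'_apply, Subgroup.coe_mul, coe_autP, InvMemClass.coe_inv,
          inv_inv, OneMemClass.coe_one, mul_inv_eq_one] at h2
        calc w * (x : G) = x * ((x : G)⁻¹ * w * x) := by group
          _ = x * w := by rw [h2]
    obtain ⟨v, hv⟩ := Finite.surjective_of_injective ((MonoidHom.ker_eq_bot_iff f).1 hker) ⟨u, hu⟩
    refine ⟨v, v.2, ?_⟩
    have h2 := congrArg Subtype.val hv
    simp only [f, MonoidHom.mk'_apply, Subgroup.coe_mul, coe_autP, InvMemClass.coe_inv,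
      inv_inv] at h2
    rw [← h2]
    group

theorem card_reg_eq : Nat.card (RegCl p L.N) = Nat.card (ConjClasses (NP (L.P : Subgroup G))) := by
  classical
  haveI := Fintype.ofFinite G
  let q : L.N →* NP (L.P : Subgroup G) := QuotientGroup.mk' _
  refine Nat.card_eq_of_bijective (fun C => ConjClasses.map q C.1) ⟨?_, ?_⟩
  · rintro ⟨C, hC⟩ ⟨D, hD⟩ h
    obtain ⟨x, rfl⟩ := ConjClasses.mk_surjective C
    obtain ⟨y, rfl⟩ := ConjClasses.mk_surjective D
    rw [orderOf_out] at hC hD
    obtain ⟨c, hc⟩ := isConj_iff.1 (ConjClasses.mk_eq_mk_iff_isConj.1 h)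
    obtain ⟨c', rfl⟩ := QuotientGroup.mk_surjective c
    set x' := c' * x * c'⁻¹ with hx'
    have hx'o : ¬ p ∣ orderOf x' := by
      have := (MulAut.conj c').orderOf_eq x
      rw [MulAut.conj_apply] at this
      rw [hx', this]; exact hC
    have hmem : x'⁻¹ * y ∈ (L.P : Subgroup G).subgroupOf L.N := QuotientGroup.eq.1 hc
    obtain ⟨v, hv, hv'⟩ := L.isConj_of_mk hx'o (u := (((x'⁻¹ * y : L.N)) : G)) hmem (by
      rw [← Subgroup.coe_mul, mul_inv_cancel_left, Subgroup.orderOf_coe]; exact hD)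
    refine Subtype.ext (ConjClasses.mk_eq_mk_iff_isConj.2
      (isConj_iff.2 ⟨⟨v, Subgroup.le_normalizer hv⟩ * c', ?_⟩))
    apply Subtype.ext
    rw [← Subgroup.coe_mul, mul_inv_cancel_left] at hv'
    simpa [hx', mul_assoc] using hv'
  · intro D
    obtain ⟨h, rfl⟩ := ConjClasses.mk_surjective D
    obtain ⟨x, rfl⟩ := QuotientGroup.mk_surjective h
    obtain ⟨α, β, hαβ⟩ := BlocksCyclic.exists_regular_exponent (G := G) (p := p)
      (m := (L.P : Subgroup G).index)
      (by rw [← (L.P : Subgroup G).card_mul_index, L.card_P]) L.P.not_dvd_index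
    obtain ⟨h1, -, h3, h4⟩ := hαβ (x : G)
    refine ⟨⟨ConjClasses.mk (x ^ α), ?_⟩, ?_⟩
    · rw [orderOf_out, ← Subgroup.orderOf_coe, SubmonoidClass.coe_pow]; exact h1
    · show ConjClasses.mk (q (x ^ α)) = _
      congr 1
      refine (QuotientGroup.eq.2 ?_)
      have hb : (x : G) ^ β ∈ (L.P : Subgroup G) := by
        have hpg : IsPGroup p (Subgroup.zpowers ((x : G) ^ β)) := by
          obtain ⟨k, -, hk⟩ := (Nat.dvd_prime_pow (Fact.out : p.Prime)).1
            ((pow_one p).symm ▸ orderOf_dvd_of_pow_eq_one h4 : orderOf ((x : G) ^ β) ∣ p ^ 1)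
          exact IsPGroup.of_card (n := k) (by rw [Nat.card_zpowers, hk])
        have hsup := hpg.to_sup_of_normal_right' L.P.2
          (Subgroup.zpowers_le.2 (Subgroup.pow_mem _ x.2 _))
        exact (le_of_eq (L.P.3 hsup le_sup_right))
          (le_sup_left (a := Subgroup.zpowers ((x : G) ^ β)) (Subgroup.mem_zpowers _))
      show (((x ^ α)⁻¹ * x : L.N) : G) ∈ (L.P : Subgroup G)
      push_cast
      rw [show ((x : G) ^ α)⁻¹ * (x : G) = (x : G) ^ β from inv_mul_eq_iff_eq_mul.2 h3]
      exact hb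

theorem card_classes_N : Nat.card (ConjClasses L.N) =
    Nat.card (ConjClasses (NP (L.P : Subgroup G))) + Nat.card (SingCl p G) := by
  rw [← card_sing_add_reg p L.N, L.card_sing_eq, L.card_reg_eq, add_comm]

end Local

end CfsgLib.DefectOne
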