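import Cfsg.Agent.DefectOne.Counting
import Cfsg.Agent.BlockPairing.PConjOrbit

/-!
# p-conjugation of the coefficient vectors

A p-conjugation shifts the linear characters of `P` and fixes the values at p-regular elements;
a character is determined by those values together with its coefficient vector.
-/

set_option autoImplicit false
set_option linter.style.haveILetI false
set_option linter.unusedSectionVars false

namespace CfsgLib.DefectOne

open Cfsg CfsgLib.Characters CfsgLib.PConjOrbit
open scoped ComplexConjugate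

universe u

variable {G : Type u} [Group G] {p : ℕ} [Fact p.Prime] [Fintype G]

namespace Local

variable (L : Local p G)

include L in
theorem factorization_card : (Nat.card G).factorization p = 1 := by
  have h1 := L.P.card_eq_multiplicity
  rw [L.card_P] at h1
  exact Nat.pow_right_injective (Fact.out : p.Prime).two_le (h1.symm.trans (pow_one p).symm)

/-- The units parametrizing p-conjugation. -/
abbrev Units1 (p : ℕ) (G : Type u) [Group G] : Type := (ZMod (p ^ (Nat.card G).factorization p))ˣ

include L in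
theorem expo_coprime_p (c : Units1 p G) : (expo p G c).Coprime p :=
  (coprime_expo c).coprime_dvd_right
    (L.card_P ▸ Subgroup.card_subgroup_dvd_card (L.P : Subgroup G))

include L in
theorem pow_expo_regular (c : Units1 p G) {g : G} (hg : ¬ p ∣ orderOf g) :
    g ^ expo p G c = g := by
  conv_rhs => rw [← pow_one g]
  rw [pow_eq_pow_iff_modEq]
  refine (expo_mod c).2.of_dvd ?_
  refine Nat.Coprime.dvd_of_dvd_mul_left
    (((Fact.out : p.Prime).coprime_iff_not_dvd.2 hg).symm.pow_right ((Nat.card G).factorization p)) ?_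
  rw [card_eq]; exact orderOf_dvd_natCard g

include L in
theorem conjAt_regular (χ : IrrCharacter G) (c : Units1 p G) {g : G} (hg : ¬ p ∣ orderOf g) :
    (conjAt χ c : G → ℂ) g = (χ : G → ℂ) g :=
  congrArg (χ : G → ℂ) (L.pow_expo_regular c hg)

/-- The shifted linear character. -/
noncomputable def powLam (c : Units1 p G) (l : L.Lam) : L.Lam :=
  ⟨(l.1).comp (MonoidHom.mk' (fun u : (L.P : Subgroup G) => u ^ expo p G c) fun u v => by
      haveI := L.isMulCommutative
      exact (show Commute u v from mul_comm' u v).mul_pow _), fun h => l.2 (MonoidHom.ext fun u => by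
    have hc : (Nat.card (L.P : Subgroup G)).Coprime (expo p G c) := by
      rw [L.card_P]; exact (L.expo_coprime_p c).symm
    obtain ⟨v, rfl⟩ := (powCoprime hc).surjective u
    exact DFunLike.congr_fun h v)⟩

theorem powLam_apply (c : Units1 p G) (l : L.Lam) (u : (L.P : Subgroup G)) :
    (L.powLam c l).1 u = l.1 (u ^ expo p G c) := rfl

theorem cvec_conjAt (χ : IrrCharacter G) (c : Units1 p G) (l : L.Lam) (φ : IrrCharacter L.K) :
    L.cvec (conjAt χ c) (L.powLam c l, φ) = L.cvec χ (l, φ) := by
  letI := Fintype.ofFinite L.PK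
  have hc : (Nat.card (L.P : Subgroup G)).Coprime (expo p G c) := by
    rw [L.card_P]; exact (L.expo_coprime_p c).symm
  rw [L.cvec_eq, L.cvec_eq, Cfsg.classInner, Cfsg.classInner]
  congr 1
  refine Fintype.sum_equiv ((powCoprime hc).prodCongr (Equiv.refl _)) _ _ fun x => ?_
  show (χ : G → ℂ) (L.emb x ^ expo p G c) *
      conj ((1 - ((L.powLam c l).1 x.1 : ℂ)) * (φ : L.K → ℂ) x.2) =
    (χ : G → ℂ) (L.emb (x.1 ^ expo p G c, x.2)) *
      conj ((1 - (l.1 (x.1 ^ expo p G c) : ℂ)) * (φ : L.K → ℂ) x.2)
  rw [powLam_apply, emb_apply, emb_apply, (L.commute x.1.2 x.2.2).mul_pow,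
    L.pow_expo_regular c (L.not_dvd_orderOf x.2.2), SubmonoidClass.coe_pow]

theorem powLam_surjective (c : Units1 p G) : Function.Surjective (L.powLam c) := by
  haveI := L.finite_lam
  refine Finite.surjective_of_injective fun l l' h => Subtype.ext (MonoidHom.ext fun u => ?_)
  have hc : (Nat.card (L.P : Subgroup G)).Coprime (expo p G c) := by
    rw [L.card_P]; exact (L.expo_coprime_p c).symm
  obtain ⟨v, rfl⟩ := (powCoprime hc).surjective u
  exact DFunLike.congr_fun (congrArg Subtype.val h) v

theorem injective_lam (l : L.Lam) : Function.Injective l.1 := by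
  rw [← MonoidHom.ker_eq_bot_iff]
  haveI : Fact (Nat.card (L.P : Subgroup G)).Prime := ⟨by rw [L.card_P]; exact Fact.out⟩
  rcases l.1.ker.eq_bot_or_eq_top_of_prime_card with hb | ht
  · exact hb
  · exact absurd (MonoidHom.ext fun x => (MonoidHom.mem_ker.1 (ht ▸ Subgroup.mem_top x))) l.2

/-- The shifts are transitive. -/
theorem exists_powLam (l l' : L.Lam) : ∃ c : Units1 p G, L.powLam c l = l' := by
  have hp : p.Prime := Fact.out
  haveI : Nontrivial (L.P : Subgroup G) :=
    Finite.one_lt_card_iff_nontrivial.1 (by rw [L.card_P]; exact hp.one_lt)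
  obtain ⟨x, hx⟩ := exists_ne (1 : (L.P : Subgroup G))
  have hxp : ∀ f : (L.P : Subgroup G) →* ℂˣ, ((f x : ℂˣ) : ℂ) ^ p = 1 := fun f => by
    rw [← Units.val_pow_eq_pow_val, ← map_pow, show x ^ p = 1 from Subtype.ext (L.pow_p x.2), map_one, Units.val_one]
  have hne : ∀ m : L.Lam, ((m.1 x : ℂˣ) : ℂ) ≠ 1 := fun m h =>
    hx (L.injective_lam m (by rw [map_one]; exact Units.ext h))
  have hprim : IsPrimitiveRoot ((l.1 x : ℂˣ) : ℂ) p :=
    IsPrimitiveRoot.iff_orderOf.2 (orderOf_eq_prime (hxp l.1) (hne l))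
  obtain ⟨j, -, hj⟩ := hprim.eq_pow_of_pow_eq_one (hxp l'.1)
  have hjp : j.Coprime p := by
    refine (hp.coprime_iff_not_dvd.2 fun hd => hne l' ?_).symm
    obtain ⟨i, rfl⟩ := hd
    rw [← hj, pow_mul, hxp, one_pow]
  refine ⟨ZMod.unitOfCoprime j (hjp.pow_right _), Subtype.ext (MonoidHom.ext fun u => ?_)⟩
  obtain ⟨i, hi⟩ := Subgroup.mem_zpowers_iff.1 (mem_zpowers_of_prime_card (p := p) L.card_P hx (g' := u))
  rw [← hi, map_zpow, map_zpow, powLam_apply]
  congr 1
  refine Units.ext ?_
  rw [← hj, map_pow, Units.val_pow_eq_pow_val]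
  refine pow_eq_pow_of_modEq ?_ (hxp l.1)
  have h1 := (expo_mod (ZMod.unitOfCoprime j (hjp.pow_right ((Nat.card G).factorization p)))).1
  rw [ZMod.coe_unitOfCoprime, ZMod.val_natCast] at h1
  have h2 := h1.trans (Nat.mod_modEq _ _)
  exact h2.of_dvd (by rw [L.factorization_card, pow_one])

/-- Values at p-regular elements and the coefficients determine a character. -/
theorem eq_of_cvec_eq {χ χ' : IrrCharacter G} (hc : ∀ a, L.cvec χ a = L.cvec χ' a)
    (hr : ∀ g : G, ¬ p ∣ orderOf g → (χ : G → ℂ) g = (χ' : G → ℂ) g) : χ = χ' := by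
  classical
  letI := Fintype.ofFinite L.PK
  refine Subtype.ext (funext fun g => ?_)
  by_cases hg : p ∣ orderOf g
  · obtain ⟨c, hcg⟩ := L.exists_conj_centralizer hg
    obtain ⟨u, hu, k, hk, he⟩ := L.decomp _ hcg
    have hu1 : u ≠ 1 := (L.dvd_orderOf_iff hu hk).1 (by
      rw [← he]
      have := (MulAut.conj c).orderOf_eq g
      rw [MulAut.conj_apply] at this
      rwa [this])
    have h := L.eq_zero_of_coeff ((χ : G → ℂ) - (χ' : G → ℂ))
      (fun x y => by
        rw [Pi.sub_apply, Pi.sub_apply, isClassFunction_of_isIrr χ.2, isClassFunction_of_isIrr χ'.2])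
      (fun a => by
        rw [show L.res ((χ : G → ℂ) - (χ' : G → ℂ)) = L.res (χ : G → ℂ) - L.res (χ' : G → ℂ) from rfl,
          classInner_sub_left, ← L.cvec_eq, ← L.cvec_eq, hc, sub_self])
      (x := (⟨u, hu⟩, ⟨k, hk⟩)) fun e => hu1 (congrArg Subtype.val e)
    rw [emb_apply, Pi.sub_apply, sub_eq_zero] at h
    simp only [← he] at h
    rwa [isClassFunction_of_isIrr χ.2, isClassFunction_of_isIrr χ'.2] at h
  · exact hr g hg

end Local

end CfsgLib.DefectOne
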