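import Cfsg.Agent.DefectOne.Block
import Cfsg.Agent.DefectOne.PConj

/-!
# The exceptional family of a block of positive defect

Over an orbit with `t` columns there are `e + t` characters: `e` constant rows, fixed by
p-conjugation, and `t` unit rows permuted transitively by it (for `t = 1` any single member).
-/

set_option autoImplicit false
set_option linter.style.haveILetI false
set_option linter.unusedSectionVars false

namespace CfsgLib.DefectOne

open Cfsg CfsgLib.Characters CfsgLib.PConjOrbit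
open scoped ComplexConjugate

universe u

variable {G : Type u} [Group G] {p : ℕ} [Fact p.Prime] [Fintype G]

namespace Local

variable (L : Local p G)

/-- The column of a linear character over an orbit. -/
noncomputable def colLam (O : L.Orb) (l : L.Lam) : L.ColOver O :=
  ⟨L.col (l, (Quotient.out O : IrrCharacter L.K)), by rw [under_col]; exact Quotient.out_eq O⟩

theorem colLam_surjective (O : L.Orb) : Function.Surjective (L.colLam O) := by
  rintro ⟨q, hq⟩
  have h : L.orb (Quotient.out q : L.Pair).2 = L.orb (Quotient.out O : IrrCharacter L.K) := by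
    rw [L.under_out, hq]; exact (Quotient.out_eq O).symm
  obtain ⟨n, hn⟩ := L.orb_eq_iff.1 h
  refine ⟨L.lamBy n (Quotient.out q : L.Pair).1, Subtype.ext ?_⟩
  show L.col (L.lamBy n (Quotient.out q : L.Pair).1, (Quotient.out O : IrrCharacter L.K)) = q
  conv_rhs => rw [← L.col_out q]
  refine (L.col_eq_iff.2 ⟨n, ?_⟩).symm
  rw [hn]; rfl

theorem cint_colLam (O : L.Orb) (χ : IrrCharacter G) (l : L.Lam) :
    (L.cint χ (L.colLam O l).1 : ℂ) = L.cvec χ (l, (Quotient.out O : IrrCharacter L.K)) :=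
  L.cint_col χ _

theorem card_lam : Nat.card L.Lam = p - 1 := by
  classical
  haveI := L.isMulCommutative
  haveI := BlocksFrobenius.finite_dual (A := (L.P : Subgroup G))
  haveI := Fintype.ofFinite ((L.P : Subgroup G) →* ℂˣ)
  rw [Nat.card_eq_fintype_card, Fintype.card_subtype_compl, Fintype.card_subtype_eq,
    ← Nat.card_eq_fintype_card, BlocksFrobenius.card_dual, L.card_P]

theorem card_colOver_mul (O : L.Orb) : Nat.card (L.ColOver O) * L.eO O = p - 1 := by
  classical
  haveI := L.finite_col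
  haveI := L.finite_lam
  haveI := Fintype.ofFinite (L.ColOver O)
  set φ0 : IrrCharacter L.K := Quotient.out O
  have hfib : ∀ q : L.ColOver O, Nat.card {l : L.Lam // L.colLam O l = q} = L.eO O := by
    intro q
    obtain ⟨l0, hl0⟩ := L.colLam_surjective O q
    let S := {n : L.N // L.phiBy n φ0 = φ0}
    let g : S → {l : L.Lam // L.colLam O l = q} := fun n => ⟨L.lamBy n.1 l0, by
      rw [← hl0]
      refine Subtype.ext (L.col_eq_iff.2 ⟨n.1, ?_⟩).symm
      show (L.lamBy n.1 l0, φ0) = L.pairBy n.1 (l0, φ0)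
      rw [pairBy, n.2]⟩
    have hfg : ∀ l, Nat.card {n : S // g n = l} = p * Nat.card L.K := by
      rintro ⟨l, hl⟩
      have hcol : L.col (l, φ0) = L.col (l0, φ0) := congrArg Subtype.val (hl.trans hl0.symm)
      have h1 := L.card_pair_transporter (l, φ0) (l0, φ0)
      rw [if_pos hcol] at h1
      rw [← h1]
      refine Nat.card_congr
        { toFun := fun n => ⟨n.1.1, Prod.ext (congrArg Subtype.val n.2) n.1.2⟩
          invFun := fun n => ⟨⟨n.1, congrArg Prod.snd n.2⟩, Subtype.ext (congrArg Prod.fst n.2)⟩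
          left_inv := fun n => rfl
          right_inv := fun n => rfl }
    haveI := Fintype.ofFinite {l : L.Lam // L.colLam O l = q}
    have h2 := L.stabCard_eq_eO φ0
    rw [show L.orb φ0 = O from Quotient.out_eq O] at h2
    have h3 : L.stabCard φ0 = Nat.card {l : L.Lam // L.colLam O l = q} * (p * Nat.card L.K) := by
      show Nat.card S = _
      rw [← Nat.card_congr (Equiv.sigmaFiberEquiv g), Nat.card_sigma]
      rw [Finset.sum_congr rfl fun l _ => hfg l, Finset.sum_const, Finset.card_univ, smul_eq_mul,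
        Nat.card_eq_fintype_card (α := {l : L.Lam // L.colLam O l = q})]
    exact (Nat.eq_of_mul_eq_mul_right (mul_pos (Fact.out : p.Prime).pos Nat.card_pos) (h2.symm.trans h3)).symm
  rw [← L.card_lam, ← Nat.card_congr (Equiv.sigmaFiberEquiv (L.colLam O)), Nat.card_sigma,
    Finset.sum_congr rfl fun q _ => hfib q, Finset.sum_const, Finset.card_univ, smul_eq_mul,
    Nat.card_eq_fintype_card]

/-- Characters agreeing on an orbit's columns and at p-regular elements are equal. -/
theorem eq_of_rows {O : L.Orb} {χ χ' : IrrCharacter G}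
    (hs : ∃ q : L.ColOver O, L.cint χ q.1 ≠ 0) (hs' : ∃ q : L.ColOver O, L.cint χ' q.1 ≠ 0)
    (hq : ∀ q : L.ColOver O, L.cint χ q.1 = L.cint χ' q.1)
    (hr : ∀ g : G, ¬ p ∣ orderOf g → (χ : G → ℂ) g = (χ' : G → ℂ) g) : χ = χ' := by
  refine L.eq_of_cvec_eq (fun a => ?_) hr
  rw [← L.cint_col, ← L.cint_col]
  by_cases h : L.under (L.col a) = O
  · exact congrArg _ (hq ⟨_, h⟩)
  · have hz : ∀ ψ : IrrCharacter G, (∃ q : L.ColOver O, L.cint ψ q.1 ≠ 0) →
        L.cint ψ (L.col a) = 0 := by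
      rintro ψ ⟨q, hψ⟩
      by_contra h0
      exact h ((L.counting.2.2.2 ψ _ _ h0 hψ).trans q.2)
    rw [hz χ hs, hz χ' hs']

/-- The rows over an orbit. -/
theorem rows (O : L.Orb) [DecidableEq (L.ColOver O)] (χ : IrrCharacter G)
    (hχ : ∃ q : L.ColOver O, L.cint χ q.1 ≠ 0) :
    (∃ a : ℤ, (a = 1 ∨ a = -1) ∧ ∀ q : L.ColOver O, L.cint χ q.1 = a) ∨
      (∃ q₀ : L.ColOver O, ∃ a : ℤ, (a = 1 ∨ a = -1) ∧
        ∀ q : L.ColOver O, L.cint χ q.1 = if q = q₀ then a else 0) := by
  classical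
  haveI := L.finite_col
  haveI := Fintype.ofFinite (L.ColOver O)
  have hcard := L.counting.2.2.1 O
  rw [Nat.card_eq_fintype_card, Fintype.card_subtype,
    Nat.card_eq_fintype_card (α := L.ColOver O)] at hcard
  exact (gram_rows (L.eO O) _ (fun ψ (q : L.ColOver O) => L.cint ψ q.1) (L.gram_over O)
    (fun ψ hψ => (Finset.mem_filter.1 hψ).2) hcard.ge).2 χ (Finset.mem_filter.2 ⟨Finset.mem_univ _, hχ⟩)

/-- A row vanishing somewhere but not everywhere is a unit row. -/
abbrev IsUnitRow (O : L.Orb) (χ : IrrCharacter G) (q₀ : L.ColOver O) : Prop :=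
  L.cint χ q₀.1 ≠ 0 ∧ ∀ q : L.ColOver O, q ≠ q₀ → L.cint χ q.1 = 0

open Classical in
/-- Exactly one unit row at each column, when there are at least two. -/
theorem card_unitRow (O : L.Orb) [Fintype (L.ColOver O)] (ht : 1 < Fintype.card (L.ColOver O))
    (q₀ : L.ColOver O) :
    (Finset.univ.filter fun χ : IrrCharacter G => L.IsUnitRow O χ q₀).card = 1 := by
  obtain ⟨q₁, hne⟩ := Fintype.exists_ne_of_one_lt_card ht q₀
  have h1 := L.gram_cint q₀.1 q₀.1
  have h2 := L.gram_cint q₀.1 q₁.1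
  rw [if_pos rfl, q₀.2, if_pos rfl] at h1
  rw [if_pos (q₀.2.trans q₁.2.symm), q₀.2, if_neg fun e => hne (Subtype.ext e.symm), add_zero] at h2
  have key : ∀ χ : IrrCharacter G, L.cint χ q₀.1 * L.cint χ q₀.1 - (if L.IsUnitRow O χ q₀ then 1 else 0)
      = L.cint χ q₀.1 * L.cint χ q₁.1 := by
    intro χ
    by_cases h0 : L.cint χ q₀.1 = 0
    · rw [if_neg fun h => h.1 h0, h0]; simp
    rcases L.rows O χ ⟨q₀, h0⟩ with ⟨a, ha, hc⟩ | ⟨q', a, ha, hc⟩
    · have ha0 : a ≠ 0 := by rcases ha with h | h <;> rw [h] <;> norm_num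
      rw [if_neg fun h => ha0 (by rw [← hc q₁]; exact h.2 q₁ hne), hc, hc, sub_zero]
    · have hq' : q₀ = q' := by
        by_contra h
        exact h0 (by rw [hc, if_neg h])
      subst hq'
      rw [if_pos ⟨h0, fun q hq => by rw [hc, if_neg hq]⟩, hc, hc, if_pos rfl, if_neg hne]
      rcases ha with h | h <;> rw [h] <;> norm_num
  have h3 := Finset.sum_congr (s₁ := Finset.univ) rfl fun χ (_ : χ ∈ Finset.univ) => key χ
  rw [Finset.sum_sub_distrib, h1, h2, Finset.sum_boole] at h3
  have : (((Finset.univ.filter fun χ : IrrCharacter G => L.IsUnitRow O χ q₀).card : ℕ) : ℤ) = 1 := by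
    linarith
  exact_mod_cast this

theorem cint_conjAt (O : L.Orb) (χ : IrrCharacter G) (c : Units1 p G) (l : L.Lam) :
    L.cint (conjAt χ c) (L.colLam O (L.powLam c l)).1 = L.cint χ (L.colLam O l).1 := by
  apply Int.cast_injective (α := ℂ)
  rw [L.cint_colLam, L.cint_colLam, L.cvec_conjAt]

theorem conjAt_mem (O : L.Orb) (χ : IrrCharacter G) (c : Units1 p G)
    (h : ∃ q : L.ColOver O, L.cint χ q.1 ≠ 0) : ∃ q : L.ColOver O, L.cint (conjAt χ c) q.1 ≠ 0 := by
  obtain ⟨q, hq⟩ := h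
  obtain ⟨l, rfl⟩ := L.colLam_surjective O q
  exact ⟨L.colLam O (L.powLam c l), by rwa [L.cint_conjAt]⟩

/-- Constant rows are fixed. -/
theorem conjAt_of_const (O : L.Orb) (χ : IrrCharacter G) (c : Units1 p G) {a : ℤ}
    (hs : ∃ q : L.ColOver O, L.cint χ q.1 ≠ 0) (h : ∀ q : L.ColOver O, L.cint χ q.1 = a) :
    conjAt χ c = χ := by
  refine L.eq_of_rows (O := O) (L.conjAt_mem O χ c hs) hs (fun q => ?_)
    fun g hg => L.conjAt_regular χ c hg
  obtain ⟨l, rfl⟩ := L.colLam_surjective O q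
  obtain ⟨l', rfl⟩ := L.powLam_surjective c l
  rw [L.cint_conjAt, h, h]

variable {M : Ideal AlgInt} [M.IsPrime]

include L in
/-- The exceptional family. -/
theorem exists_family (hM : Cfsg.IsPModular p M) {B : Set (IrrCharacter G)}
    (hB : Cfsg.IsPBlock M B) (hd : 0 < Cfsg.blockDefect p B) :
    ∃ Y : Set (IrrCharacter G), Y ⊆ B ∧ Y.Nonempty ∧
      (∀ θ ∈ Y, Set.range (fun c : Units1 p G => conjAt θ c) = Y) ∧
      (∀ χ ∈ B, χ ∉ Y → ∀ c : Units1 p G, conjAt χ c = χ) ∧
      Nat.card Y ∣ p - 1 ∧ Nat.card B = Nat.card Y + (p - 1) / Nat.card Y ∧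
      ∃ δ : IrrCharacter G → ℤ, (∀ χ ∈ B, δ χ = 1 ∨ δ χ = -1) ∧
        ∀ x : G, ¬ p ∣ orderOf x → ∀ θ ∈ Y,
          (∑ᶠ χ ∈ B \ Y, (δ χ : ℂ) * (χ : G → ℂ) x) + (δ θ : ℂ) * (θ : G → ℂ) x = 0 := by
  classical
  haveI := L.finite_col
  obtain ⟨O, hO⟩ := L.exists_orb_of_block hM hB hd
  haveI := Fintype.ofFinite (L.ColOver O)
  haveI : Finite L.Lam := L.finite_lam
  set t := Fintype.card (L.ColOver O) with ht
  have hte : t * L.eO O = p - 1 := by rw [ht, ← Nat.card_eq_fintype_card, L.card_colOver_mul]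
  have ht0 : 0 < t := Nat.pos_of_ne_zero fun h => by
    rw [h, zero_mul] at hte
    have := (Fact.out : p.Prime).two_le
    omega
  have hBcard : Nat.card B = L.eO O + t := by
    rw [ht, ← Nat.card_eq_fintype_card, ← L.counting.2.2.1 O]
    exact Nat.card_congr (Equiv.subtypeEquivRight hO)
  -- the sign
  set δ : IrrCharacter G → ℤ := fun χ =>
    if h : ∃ q : L.ColOver O, L.cint χ q.1 ≠ 0 then L.cint χ h.choose.1 else 1
  have hδ : ∀ (χ : IrrCharacter G) (q : L.ColOver O), L.cint χ q.1 ≠ 0 → δ χ = L.cint χ q.1 := by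
    intro χ q hq
    have hex : ∃ q : L.ColOver O, L.cint χ q.1 ≠ 0 := ⟨q, hq⟩
    show dite _ _ _ = _
    rw [dif_pos hex]
    have h1 := hex.choose_spec
    rcases L.rows O χ hex with ⟨a, -, hc⟩ | ⟨q', a, -, hc⟩
    · rw [hc, hc]
    · have e1 : hex.choose = q' := by by_contra h; exact h1 (by rw [hc, if_neg h])
      have e2 : q = q' := by by_contra h; exact hq (by rw [hc, if_neg h])
      rw [e1, e2]
  have hδ1 : ∀ χ ∈ B, δ χ = 1 ∨ δ χ = -1 := by
    intro χ hχ
    obtain ⟨q, hq⟩ := (hO χ).1 hχ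
    rw [hδ χ q hq]
    rcases L.rows O χ ⟨q, hq⟩ with ⟨a, ha, hc⟩ | ⟨q', a, ha, hc⟩
    · rwa [hc]
    · have e2 : q = q' := by by_contra h; exact hq (by rw [hc, if_neg h])
      rwa [hc, if_pos e2]
  have hsum : ∀ (q : L.ColOver O) (x : G), ¬ p ∣ orderOf x →
      ∑ χ ∈ Finset.univ.filter (fun χ : IrrCharacter G => L.cint χ q.1 ≠ 0),
        (δ χ : ℂ) * (χ : G → ℂ) x = 0 := by
    intro q x hx
    rw [← L.sum_cint_mul_regular q.1 hx]
    rw [Finset.sum_filter]
    refine Finset.sum_congr rfl fun χ _ => ?_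
    split_ifs with h
    · rw [hδ χ q h]
    · rw [not_not.1 h, Int.cast_zero, zero_mul]
  -- the family
  by_cases h1 : t = 1
  · obtain ⟨θ₀, hθ₀⟩ := Blocks.isPBlock_nonempty hB
    haveI : Subsingleton (L.ColOver O) := Fintype.card_le_one_iff_subsingleton.1 h1.le
    have hfix : ∀ χ ∈ B, ∀ c : Units1 p G, conjAt χ c = χ := by
      intro χ hχ c
      obtain ⟨q, hq⟩ := (hO χ).1 hχ
      exact L.conjAt_of_const O χ c ⟨q, hq⟩ (a := L.cint χ q.1) fun q' => by rw [Subsingleton.elim q' q]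
    refine ⟨{θ₀}, Set.singleton_subset_iff.2 hθ₀, Set.singleton_nonempty _, ?_,
      fun χ hχ _ => hfix χ hχ, by simp, ?_, δ, hδ1, ?_⟩
    · intro θ hθ
      rw [Set.mem_singleton_iff.1 hθ]
      refine Set.eq_singleton_iff_unique_mem.2 ⟨⟨1, conjAt_one θ₀⟩, ?_⟩
      rintro ψ ⟨c, rfl⟩
      exact hfix θ₀ hθ₀ c
    · rw [h1, one_mul] at hte
      rw [hBcard, h1, hte, show Nat.card ↑({θ₀} : Set (IrrCharacter G)) = 1 by simp, Nat.div_one]
      omega
    · intro x hx θ hθ
      rw [Set.mem_singleton_iff.1 hθ]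
      obtain ⟨q, hq⟩ := (hO θ₀).1 hθ₀
      have hset : (B : Set (IrrCharacter G)) =
          ↑(Finset.univ.filter (fun χ : IrrCharacter G => L.cint χ q.1 ≠ 0)) := by
        ext χ
        rw [hO χ, Finset.coe_filter]
        exact ⟨fun ⟨q', h⟩ => ⟨Finset.mem_univ _, by rwa [Subsingleton.elim q q']⟩, fun h => ⟨q, h.2⟩⟩
      have hmem : θ₀ ∈ Finset.univ.filter (fun χ : IrrCharacter G => L.cint χ q.1 ≠ 0) :=
        Finset.mem_filter.2 ⟨Finset.mem_univ _, hq⟩
      rw [hset, ← Finset.coe_singleton, ← Finset.coe_sdiff, finsum_mem_coe_finset,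
        Finset.sdiff_singleton_eq_erase, Finset.sum_erase_add _ _ hmem]
      exact hsum q x hx
  · have htgt : 1 < t := by omega
    have huniq : ∀ q₀ : L.ColOver O, ∀ θ θ' : IrrCharacter G,
        L.IsUnitRow O θ q₀ → L.IsUnitRow O θ' q₀ → θ = θ' := fun q₀ θ θ' h h' =>
      Finset.card_le_one.1 (L.card_unitRow O htgt q₀).le θ (Finset.mem_filter.2 ⟨Finset.mem_univ _, h⟩) θ'
        (Finset.mem_filter.2 ⟨Finset.mem_univ _, h'⟩)
    have hexr : ∀ q₀ : L.ColOver O, ∃ θ, L.IsUnitRow O θ q₀ := fun q₀ => by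
      obtain ⟨θ, hθ⟩ := Finset.card_pos.1 (show 0 < _ by rw [L.card_unitRow O htgt q₀]; exact one_pos)
      exact ⟨θ, (Finset.mem_filter.1 hθ).2⟩
    choose f hf using hexr
    have hfinj : Function.Injective f := fun q q' h => by
      by_contra hne
      exact (hf q).1 (h ▸ (hf q').2 q hne)
    have hfB : ∀ q, f q ∈ B := fun q => (hO _).2 ⟨q, (hf q).1⟩
    have hconj : ∀ (l : L.Lam) (c : Units1 p G),
        conjAt (f (L.colLam O l)) c = f (L.colLam O (L.powLam c l)) := by
      intro l c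
      refine huniq (L.colLam O (L.powLam c l)) _ _ ⟨?_, fun q hq => ?_⟩ (hf _)
      · rw [L.cint_conjAt]; exact (hf _).1
      · obtain ⟨l', rfl⟩ := L.colLam_surjective O q
        obtain ⟨l'', rfl⟩ := L.powLam_surjective c l'
        rw [L.cint_conjAt]
        refine (hf _).2 _ fun e => hq ?_
        have hv := L.cint_conjAt O (f (L.colLam O l)) c l''
        rw [e] at hv
        by_contra hne
        rcases L.rows O (conjAt (f (L.colLam O l)) c)
          (L.conjAt_mem O _ c ⟨_, (hf (L.colLam O l)).1⟩) with ⟨a, ha, hc⟩ | ⟨q', a, -, hc⟩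
        · -- a constant row would be fixed
          obtain ⟨q₁, hq₁⟩ := Fintype.exists_ne_of_one_lt_card htgt (L.colLam O l)
          obtain ⟨l₁, rfl⟩ := L.colLam_surjective O q₁
          have := L.cint_conjAt O (f (L.colLam O l)) c l₁
          rw [hc, (hf _).2 _ hq₁] at this
          rcases ha with h | h <;> rw [h] at this <;> norm_num at this
        · have h1' : L.cint (conjAt (f (L.colLam O l)) c) (L.colLam O (L.powLam c l'')).1 ≠ 0 := by
            rw [hv]; exact (hf _).1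
          have h2' : L.cint (conjAt (f (L.colLam O l)) c) (L.colLam O (L.powLam c l)).1 ≠ 0 := by
            rw [L.cint_conjAt]; exact (hf _).1
          have e1 : L.colLam O (L.powLam c l'') = q' := by
            by_contra h; exact h1' (by rw [hc, if_neg h])
          have e2 : L.colLam O (L.powLam c l) = q' := by
            by_contra h; exact h2' (by rw [hc, if_neg h])
          exact hne (e1.trans e2.symm)
    refine ⟨Set.range f, ?_, ⟨f (L.colLam O ?_), _, rfl⟩, ?_, ?_, ?_, ?_, δ, hδ1, ?_⟩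
    · rintro _ ⟨q, rfl⟩; exact hfB q
    · exact (L.colLam_surjective O (Classical.choice (Fintype.card_pos_iff.1 (by omega)))).choose
    · rintro _ ⟨q, rfl⟩
      obtain ⟨l, rfl⟩ := L.colLam_surjective O q
      refine Set.Subset.antisymm ?_ ?_
      · rintro _ ⟨c, rfl⟩; exact ⟨_, (hconj l c).symm⟩
      · rintro _ ⟨q', rfl⟩
        obtain ⟨l', rfl⟩ := L.colLam_surjective O q'
        obtain ⟨c, rfl⟩ := L.exists_powLam l l'
        exact ⟨c, hconj l c⟩
    · intro χ hχ hχY c
      obtain ⟨q, hq⟩ := (hO χ).1 hχ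
      rcases L.rows O χ ⟨q, hq⟩ with ⟨a, -, hc⟩ | ⟨q', a, ha, hc⟩
      · exact L.conjAt_of_const O χ c ⟨q, hq⟩ hc
      · refine absurd ⟨q', huniq q' _ _ (hf q') ⟨?_, fun q'' h => by rw [hc, if_neg h]⟩⟩ hχY
        rw [hc, if_pos rfl]
        rcases ha with h | h <;> rw [h] <;> norm_num
    · rw [Nat.card_range_of_injective hfinj, Nat.card_eq_fintype_card, ← ht]
      exact ⟨L.eO O, hte.symm⟩
    · rw [hBcard, Nat.card_range_of_injective hfinj, Nat.card_eq_fintype_card, ← ht, ← hte,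
        Nat.mul_div_cancel_left _ ht0, add_comm]
    · intro x hx θ hθ
      obtain ⟨q, rfl⟩ := hθ
      rw [← hsum q x hx]
      have hset : B \ Set.range f = ↑((Finset.univ.filter (fun χ : IrrCharacter G => L.cint χ q.1 ≠ 0)).erase (f q)) := by
        ext χ
        simp only [Set.mem_sdiff, Finset.coe_erase, Finset.coe_filter, Finset.mem_univ, true_and,
          Set.mem_singleton_iff, Set.mem_setOf_eq, Set.mem_range]
        constructor
        · rintro ⟨hχ, hnot⟩
          refine ⟨?_, fun e => hnot ⟨q, e.symm⟩⟩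
          obtain ⟨q₁, hq₁⟩ := (hO χ).1 hχ
          rcases L.rows O χ ⟨q₁, hq₁⟩ with ⟨a, -, hc⟩ | ⟨q', a, ha, hc⟩
          · rwa [hc, ← hc q₁]
          · exfalso
            refine hnot ⟨q', huniq q' _ _ (hf q') ⟨?_, fun q'' h => by rw [hc, if_neg h]⟩⟩
            rw [hc, if_pos rfl]
            rcases ha with h | h <;> rw [h] <;> norm_num
        · rintro ⟨hq₀, hne⟩
          refine ⟨(hO χ).2 ⟨q, hq₀⟩, ?_⟩
          rintro ⟨q', rfl⟩
          by_cases e : q = q'
          · exact hne (e ▸ rfl)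
          · exact hq₀ ((hf q').2 q e)
      have hmem : f q ∈ Finset.univ.filter (fun χ : IrrCharacter G => L.cint χ q.1 ≠ 0) :=
        Finset.mem_filter.2 ⟨Finset.mem_univ _, (hf q).1⟩
      rw [hset, finsum_mem_coe_finset, Finset.sum_erase_add _ _ hmem]

end Local

end CfsgLib.DefectOne
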