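import Cfsg.Agent.BlocksCyclic.Values
import Cfsg.Agent.BlocksFrobenius.Columns
import Mathlib.GroupTheory.Sylow

/-!
# The local structure at a Sylow subgroup of order `p`

The centralizer of `P` is `P × K` with `K` of order prime to `p`; the normalizer acts on both factors.
-/

set_option autoImplicit false
set_option linter.style.haveILetI false
set_option linter.unusedSectionVars false

namespace CfsgLib.DefectOne

open Cfsg CfsgLib.Blocks

universe u

/-- A Sylow subgroup of order `p` and the complement in its centralizer. -/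
structure Local (p : ℕ) (G : Type u) [Group G] where
  /-- The Sylow subgroup. -/
  P : Sylow p G
  /-- The complement. -/
  K : Subgroup G
  card_P : Nat.card (P : Subgroup G) = p
  le_centralizer : K ≤ Subgroup.centralizer ((P : Subgroup G) : Set G)
  not_dvd : ¬ p ∣ Nat.card K
  mem_K : ∀ g ∈ Subgroup.centralizer ((P : Subgroup G) : Set G), ¬ p ∣ orderOf g → g ∈ K
  decomp : ∀ g ∈ Subgroup.centralizer ((P : Subgroup G) : Set G),
    ∃ u ∈ (P : Subgroup G), ∃ k ∈ K, g = u * k

variable {G : Type u} [Group G] {p : ℕ} [Fact p.Prime]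

theorem card_sylow_of_sq_not_dvd [Finite G] (hdiv : p ∣ Nat.card G) (hsq : ¬ p ^ 2 ∣ Nat.card G)
    (P : Sylow p G) : Nat.card (P : Subgroup G) = p := by
  have hp : p.Prime := Fact.out
  have h1 : 1 ≤ (Nat.card G).factorization p :=
    hp.factorization_pos_of_dvd Nat.card_pos.ne' hdiv
  have h2 : ¬ 2 ≤ (Nat.card G).factorization p := fun h =>
    hsq ((hp.pow_dvd_iff_le_factorization Nat.card_pos.ne').2 h)
  rw [P.card_eq_multiplicity, show (Nat.card G).factorization p = 1 by omega, pow_one]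

theorem exists_local [Finite G] (hdiv : p ∣ Nat.card G) (hsq : ¬ p ^ 2 ∣ Nat.card G)
    (P : Sylow p G) : ∃ L : Local p G, L.P = P := by
  classical
  haveI := Fintype.ofFinite G
  have hP := card_sylow_of_sq_not_dvd hdiv hsq P
  obtain ⟨x, hx, hx1⟩ : ∃ x : G, x ∈ (P : Subgroup G) ∧ x ≠ 1 := by
    haveI : Nontrivial (P : Subgroup G) :=
      Finite.one_lt_card_iff_nontrivial.1 (by rw [hP]; exact (Fact.out : p.Prime).one_lt)
    obtain ⟨x, hx⟩ := exists_ne (1 : (P : Subgroup G))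
    exact ⟨x, x.2, fun e => hx (Subtype.ext e)⟩
  obtain ⟨K, hKn, hK, hKi⟩ := BlocksCyclic.exists_normal_complement_centralizer hP hx hx1
  let C := Subgroup.centralizer ({x} : Set G)
  have hC : C = Subgroup.centralizer ((P : Subgroup G) : Set G) :=
    BlocksCyclic.centralizer_generator hP hx hx1
  refine ⟨⟨P, K.map C.subtype, hP, ?_, ?_, ?_, ?_⟩, rfl⟩
  · rw [← hC]; exact Subgroup.map_subtype_le K
  · rwa [Subgroup.card_map_of_injective C.subtype_injective]
  · intro g hg hreg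
    rw [← hC] at hg
    refine ⟨⟨g, hg⟩, ?_, rfl⟩
    refine BlocksFrobenius.mem_of_regular (p := p) K (k := 1) (by rw [hKi, pow_one]) ?_
    rwa [← Subgroup.orderOf_coe]
  · intro g hg
    rw [← hC] at hg
    let xC : C := ⟨x, Subgroup.mem_centralizer_singleton_iff.2 rfl⟩
    have hxo : orderOf xC = p := by
      rw [← Subgroup.orderOf_coe]; exact BlocksCyclic.orderOf_generator hP hx hx1
    haveI : Finite (C ⧸ K) := inferInstance
    have hgen : ∃ i : ℤ, (xC ^ i)⁻¹ * ⟨g, hg⟩ ∈ K := by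
      have hne : (QuotientGroup.mk xC : C ⧸ K) ≠ 1 := fun h => by
        rw [QuotientGroup.eq_one_iff] at h
        exact hK (hxo ▸ Subgroup.orderOf_dvd_natCard K h)
      haveI : Fact (Nat.card (C ⧸ K)).Prime := ⟨by
        rw [← Subgroup.index_eq_card, hKi]; exact Fact.out⟩
      obtain ⟨i, hi⟩ := Subgroup.mem_zpowers_iff.1
        (mem_zpowers_of_prime_card (p := Nat.card (C ⧸ K)) rfl hne
          (g' := (QuotientGroup.mk ⟨g, hg⟩ : C ⧸ K)))
      refine ⟨i, ?_⟩
      rw [← QuotientGroup.eq, QuotientGroup.mk_zpow]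
      exact hi
    obtain ⟨i, hi⟩ := hgen
    refine ⟨x ^ i, (P : Subgroup G).zpow_mem hx i, _, ⟨_, hi, rfl⟩, ?_⟩
    simp [xC, mul_assoc]

namespace Local

variable (L : Local p G)

/-- The normalizer. -/
abbrev N : Subgroup G := Subgroup.normalizer ((L.P : Subgroup G) : Set G)

theorem commute {u k : G} (hu : u ∈ (L.P : Subgroup G)) (hk : k ∈ L.K) : Commute u k :=
  Subgroup.mem_centralizer_iff.1 (L.le_centralizer hk) u hu

variable [Finite G]

theorem not_dvd_orderOf {k : G} (hk : k ∈ L.K) : ¬ p ∣ orderOf k := fun h =>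
  L.not_dvd (h.trans (Subgroup.orderOf_dvd_natCard L.K hk))

theorem orderOf_of_mem {u : G} (hu : u ∈ (L.P : Subgroup G)) (h1 : u ≠ 1) : orderOf u = p :=
  haveI := Fintype.ofFinite G
  BlocksCyclic.orderOf_generator L.card_P hu h1

theorem pow_p {u : G} (hu : u ∈ (L.P : Subgroup G)) : u ^ p = 1 :=
  orderOf_dvd_iff_pow_eq_one.1 (by
    have := Subgroup.orderOf_dvd_natCard _ hu
    rwa [L.card_P] at this)

theorem isMulCommutative : IsMulCommutative (L.P : Subgroup G) :=
  haveI : IsCyclic (L.P : Subgroup G) := isCyclic_of_prime_card L.card_P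
  IsCyclic.isMulCommutative

theorem centralizer_singleton {u : G} (hu : u ∈ (L.P : Subgroup G)) (h1 : u ≠ 1) :
    Subgroup.centralizer ({u} : Set G) = Subgroup.centralizer ((L.P : Subgroup G) : Set G) :=
  haveI := Fintype.ofFinite G
  BlocksCyclic.centralizer_generator L.card_P hu h1

theorem P_le_centralizer :
    (L.P : Subgroup G) ≤ Subgroup.centralizer ((L.P : Subgroup G) : Set G) := fun u hu =>
  Subgroup.mem_centralizer_iff.2 fun w hw => by
    haveI := L.isMulCommutative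
    exact congrArg Subtype.val (mul_comm' (⟨w, hw⟩ : (L.P : Subgroup G)) ⟨u, hu⟩)

/-- An exponent separating the factors. -/
theorem exists_exponent : ∃ a : ℕ, a ≡ 1 [MOD p] ∧ Nat.card L.K ∣ a := by
  obtain ⟨a, h1, h2⟩ := Nat.chineseRemainder
    ((Fact.out : p.Prime).coprime_iff_not_dvd.2 L.not_dvd) 1 0
  exact ⟨a, h1, Nat.modEq_zero_iff_dvd.1 h2⟩

theorem pow_exponent {a : ℕ} (ha : a ≡ 1 [MOD p]) (ha' : Nat.card L.K ∣ a) {u k : G}
    (hu : u ∈ (L.P : Subgroup G)) (hk : k ∈ L.K) : (u * k) ^ a = u := by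
  rw [(L.commute hu hk).mul_pow, orderOf_dvd_iff_pow_eq_one.1
    ((Subgroup.orderOf_dvd_natCard L.K hk).trans ha'), mul_one]
  conv_rhs => rw [← pow_one u]
  rw [pow_eq_pow_iff_modEq]
  exact ha.of_dvd (by simpa [L.card_P] using Subgroup.orderOf_dvd_natCard _ hu)

theorem dvd_orderOf_iff {u k : G} (hu : u ∈ (L.P : Subgroup G)) (hk : k ∈ L.K) :
    p ∣ orderOf (u * k) ↔ u ≠ 1 := by
  refine ⟨fun h h1 => L.not_dvd_orderOf hk (by rwa [h1, one_mul] at h), fun h1 => ?_⟩
  rw [(L.commute hu hk).orderOf_mul_eq_mul_orderOf_of_coprime, L.orderOf_of_mem hu h1]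
  · exact dvd_mul_right _ _
  · rw [L.orderOf_of_mem hu h1]
    exact (Fact.out : p.Prime).coprime_iff_not_dvd.2 (L.not_dvd_orderOf hk)

theorem ext_mul {u u' k k' : G} (hu : u ∈ (L.P : Subgroup G)) (hk : k ∈ L.K)
    (hu' : u' ∈ (L.P : Subgroup G)) (hk' : k' ∈ L.K) (h : u * k = u' * k') : u = u' ∧ k = k' := by
  obtain ⟨a, ha, ha'⟩ := L.exists_exponent
  have h1 := congrArg (· ^ a) h
  simp only [L.pow_exponent ha ha' hu hk, L.pow_exponent ha ha' hu' hk'] at h1
  subst h1
  exact ⟨rfl, mul_left_cancel h⟩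

/-- Elements carrying an element of `P` other than `1` into `P` normalize `P`. -/
theorem mem_N_of_conj {u g : G} (hu : u ∈ (L.P : Subgroup G)) (h1 : u ≠ 1)
    (h : g * u * g⁻¹ ∈ (L.P : Subgroup G)) : g ∈ L.N := by
  have h' := BlocksCyclic.mem_normalizer_of_fix_coset L.card_P hu h1 (g := g⁻¹) (by rwa [inv_inv])
  have h2 := Subgroup.inv_mem _ h'
  rwa [inv_inv] at h2

theorem conj_mem_P {n u : G} (hn : n ∈ L.N) (hu : u ∈ (L.P : Subgroup G)) :
    n * u * n⁻¹ ∈ (L.P : Subgroup G) := (Subgroup.mem_normalizer_iff.1 hn u).1 hu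

theorem conj_mem_centralizer {n g : G} (hn : n ∈ L.N)
    (hg : g ∈ Subgroup.centralizer ((L.P : Subgroup G) : Set G)) :
    n * g * n⁻¹ ∈ Subgroup.centralizer ((L.P : Subgroup G) : Set G) := by
  refine Subgroup.mem_centralizer_iff.2 fun w hw => ?_
  have h1 : n⁻¹ * w * n ∈ (L.P : Subgroup G) :=
    (Subgroup.mem_normalizer_iff.1 hn _).2 (by
      rw [show n * (n⁻¹ * w * n) * n⁻¹ = w by group]; exact hw)
  have h2 := Subgroup.mem_centralizer_iff.1 hg _ h1
  calc w * (n * g * n⁻¹) = n * (n⁻¹ * w * n * g) * n⁻¹ := by group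
    _ = n * g * n⁻¹ * w := by rw [h2]; group

theorem conj_mem_K {n k : G} (hn : n ∈ L.N) (hk : k ∈ L.K) : n * k * n⁻¹ ∈ L.K :=
  L.mem_K _ (L.conj_mem_centralizer hn (L.le_centralizer hk)) (by
    have := (MulAut.conj n).orderOf_eq k
    rw [MulAut.conj_apply] at this
    rw [this]; exact L.not_dvd_orderOf hk)

theorem mem_normalizer_K {n : G} (hn : n ∈ L.N) : n ∈ Subgroup.normalizer (L.K : Set G) :=
  Subgroup.mem_normalizer_iff.2 fun k => ⟨L.conj_mem_K hn, fun h => by
    have := L.conj_mem_K (Subgroup.inv_mem _ hn) h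
    simpa [mul_assoc] using this⟩

/-- Conjugation on `P`. -/
def autP (n : L.N) : (L.P : Subgroup G) ≃* (L.P : Subgroup G) where
  toFun u := ⟨(n : G) * u * (n : G)⁻¹, L.conj_mem_P n.2 u.2⟩
  invFun u := ⟨(n : G)⁻¹ * u * n, (Subgroup.mem_normalizer_iff.1 n.2 _).2 (by
    simp [mul_assoc])⟩
  left_inv u := Subtype.ext (by simp [mul_assoc])
  right_inv u := Subtype.ext (by simp [mul_assoc])
  map_mul' u v := Subtype.ext (by simp [mul_assoc])

/-- Conjugation on `K`. -/
def autK (n : L.N) : L.K ≃* L.K where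
  toFun k := ⟨(n : G) * k * (n : G)⁻¹, L.conj_mem_K n.2 k.2⟩
  invFun k := ⟨(n : G)⁻¹ * k * n, by
    simpa using L.conj_mem_K (Subgroup.inv_mem _ n.2) k.2⟩
  left_inv k := Subtype.ext (by simp [mul_assoc])
  right_inv k := Subtype.ext (by simp [mul_assoc])
  map_mul' k l := Subtype.ext (by simp [mul_assoc])

@[simp] theorem coe_autP (n : L.N) (u : (L.P : Subgroup G)) :
    ((L.autP n u : (L.P : Subgroup G)) : G) = (n : G) * u * (n : G)⁻¹ := rfl

@[simp] theorem coe_autK (n : L.N) (k : L.K) :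
    ((L.autK n k : L.K) : G) = (n : G) * k * (n : G)⁻¹ := rfl

/-- The embedding of `P × K`. -/
def emb : ↥(L.P : Subgroup G) × L.K →* G where
  toFun x := (x.1 : G) * x.2
  map_one' := by simp
  map_mul' x y := by
    show (x.1 : G) * y.1 * ((x.2 : G) * y.2) = x.1 * x.2 * (y.1 * y.2)
    rw [mul_assoc, ← mul_assoc (y.1 : G), (L.commute y.1.2 x.2.2).eq]
    group

theorem emb_apply (x : ↥(L.P : Subgroup G) × L.K) : L.emb x = (x.1 : G) * x.2 := rfl

theorem emb_injective : Function.Injective L.emb := fun x y h => by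
  obtain ⟨h1, h2⟩ := L.ext_mul x.1.2 x.2.2 y.1.2 y.2.2 h
  exact Prod.ext (Subtype.ext h1) (Subtype.ext h2)

theorem card_centralizer :
    Nat.card (Subgroup.centralizer ((L.P : Subgroup G) : Set G)) = p * Nat.card L.K := by
  conv_rhs => arg 1; rw [← L.card_P]
  rw [← Nat.card_prod]
  refine (Nat.card_eq_of_bijective
    (fun x : ↥(L.P : Subgroup G) × L.K => (⟨L.emb x,
      Subgroup.mul_mem _ (L.P_le_centralizer x.1.2) (L.le_centralizer x.2.2)⟩ :
        Subgroup.centralizer ((L.P : Subgroup G) : Set G)))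
    ⟨fun x y h => L.emb_injective (congrArg Subtype.val h), fun g => ?_⟩).symm
  obtain ⟨u, hu, k, hk, he⟩ := L.decomp g g.2
  exact ⟨(⟨u, hu⟩, ⟨k, hk⟩), Subtype.ext he.symm⟩

/-- The conjugate of an element of `P × K` with nontrivial first coordinate stays in `P × K` only
under the normalizer. -/
theorem mem_N_of_conj_emb {g : G} {x y : ↥(L.P : Subgroup G) × L.K} (hx : x.1 ≠ 1)
    (h : g * L.emb x * g⁻¹ = L.emb y) : g ∈ L.N := by
  obtain ⟨a, ha, ha'⟩ := L.exists_exponent
  have h1 := congrArg (· ^ a) h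
  simp only [emb_apply, conj_pow, L.pow_exponent ha ha' x.1.2 x.2.2,
    L.pow_exponent ha ha' y.1.2 y.2.2] at h1
  refine L.mem_N_of_conj x.1.2 (fun e => hx (Subtype.ext e)) ?_
  rw [h1]; exact y.1.2

theorem conj_emb (n : L.N) (x : ↥(L.P : Subgroup G) × L.K) :
    (n : G) * L.emb x * (n : G)⁻¹ = L.emb (L.autP n x.1, L.autK n x.2) := by
  simp [emb_apply, mul_assoc]

/-- A singular element of the normalizer centralizes `P`. -/
theorem mem_centralizer_of_mem_N {g : G} (hg : g ∈ L.N) (hd : p ∣ orderOf g) :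
    g ∈ Subgroup.centralizer ((L.P : Subgroup G) : Set G) := by
  have hp : p.Prime := Fact.out
  set y := g ^ (orderOf g / p) with hy
  have hyo : orderOf y = p := by
    rw [hy, orderOf_pow_of_dvd ((Nat.div_pos (Nat.le_of_dvd (orderOf_pos g) hd) hp.pos).ne')
      (Nat.div_dvd_of_dvd hd), Nat.div_div_self hd (orderOf_pos g).ne']
  have hy1 : y ≠ 1 := fun h => hp.one_lt.ne' (by rw [← hyo, h, orderOf_one])
  have hpg : IsPGroup p (Subgroup.zpowers y) :=
    IsPGroup.of_card (n := 1) (by rw [Nat.card_zpowers, hyo, pow_one])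
  have hyP : y ∈ (L.P : Subgroup G) := by
    have hle : Subgroup.zpowers y ≤ Subgroup.normalizer ((L.P : Subgroup G) : Set G) :=
      Subgroup.zpowers_le.2 (Subgroup.pow_mem _ hg _)
    have hsup : IsPGroup p (Subgroup.zpowers y ⊔ (L.P : Subgroup G) : Subgroup G) :=
      hpg.to_sup_of_normal_right' L.P.2 hle
    rw [← L.P.3 hsup le_sup_right]
    exact le_sup_left (a := Subgroup.zpowers y) (Subgroup.mem_zpowers y)
  rw [← L.centralizer_singleton hyP hy1]
  exact Subgroup.mem_centralizer_singleton_iff.2 ((Commute.refl g).pow_right _).eq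

/-- Fusion in `K` is controlled by the normalizer. -/
theorem fusion {g k : G} (hk : k ∈ L.K) (hk' : g * k * g⁻¹ ∈ L.K) :
    ∃ n ∈ L.N, n * k * n⁻¹ = g * k * g⁻¹ := by
  have h1 : (g⁻¹)⁻¹ * k * g⁻¹ ∈ Subgroup.centralizer ((L.P : Subgroup G) : Set G) := by
    rw [inv_inv]; exact L.le_centralizer hk'
  obtain ⟨n, hn, he⟩ := L.P.conj_eq_normalizer_conj_of_mem_centralizer k g⁻¹
    (L.le_centralizer hk) h1
  refine ⟨n⁻¹, Subgroup.inv_mem _ hn, ?_⟩
  rw [inv_inv] at he ⊢
  exact he.symm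

theorem exists_conj_centralizer {g : G} (hd : p ∣ orderOf g) :
    ∃ c : G, c * g * c⁻¹ ∈ Subgroup.centralizer ((L.P : Subgroup G) : Set G) := by
  have hp : p.Prime := Fact.out
  set y := g ^ (orderOf g / p) with hy
  have hyo : orderOf y = p := by
    rw [hy, orderOf_pow_of_dvd ((Nat.div_pos (Nat.le_of_dvd (orderOf_pos g) hd) hp.pos).ne')
      (Nat.div_dvd_of_dvd hd), Nat.div_div_self hd (orderOf_pos g).ne']
  have hpg : IsPGroup p (Subgroup.zpowers y) :=
    IsPGroup.of_card (n := 1) (by rw [Nat.card_zpowers, hyo, pow_one])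
  obtain ⟨Q, hQ⟩ := hpg.exists_le_sylow
  obtain ⟨c, hc⟩ := MulAction.exists_smul_eq G Q L.P
  have hyP : c * y * c⁻¹ ∈ (L.P : Subgroup G) := by
    rw [← hc, Sylow.coe_subgroup_smul, Subgroup.mem_pointwise_smul_iff_inv_smul_mem]
    simpa [MulAut.smul_def, mul_assoc] using hQ (Subgroup.mem_zpowers y)
  refine ⟨c, ?_⟩
  rw [← L.centralizer_singleton hyP (fun h => hp.one_lt.ne' (by
    rw [← hyo, show y = 1 by simpa using h, orderOf_one]))]
  refine Subgroup.mem_centralizer_singleton_iff.2 ?_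
  exact (((Commute.refl g).pow_right _).map (MulAut.conj c).toMonoidHom).eq

end Local

end CfsgLib.DefectOne
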