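import Cfsg.Agent.DefectOne.Local
import Cfsg.Agent.BlocksFrobenius.Dual
import Cfsg.Agent.Characters.Orthogonality
import Cfsg.Agent.Characters.Linear
import Cfsg.Agent.CharactersDeep.ExtensionCriteria

/-!
# The coefficient vectors of the characters on `P × K`

For a nontrivial character `λ` of `P` and an irreducible `φ` of `K` the integer
`⟨χ, (1 - λ) φ⟩` of a character `χ` depends only on the orbit of `(λ, φ)` under the normalizer; as
functions of the orbit their Gram matrix over all irreducible characters is `e J + 1` on each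
orbit of `φ` and zero between different orbits.
-/

set_option autoImplicit false
set_option linter.style.haveILetI false
set_option linter.unusedSectionVars false

namespace CfsgLib.DefectOne

open Cfsg CfsgLib.Characters
open scoped ComplexConjugate

universe u

variable {G : Type u} [Group G] {p : ℕ}

namespace Local

/-- The product of the factors of the centralizer. -/
abbrev PK (L : Local p G) : Type u := ↥(L.P : Subgroup G) × ↥L.K

/-- Nontrivial linear characters of `P`. -/
abbrev Lam (L : Local p G) : Type u := {l : ↥(L.P : Subgroup G) →* ℂˣ // l ≠ 1}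

/-- The indices of the columns before dividing by the normalizer. -/
abbrev Pair (L : Local p G) : Type u := L.Lam × IrrCharacter L.K

variable [Fact p.Prime] [Finite G] (L : Local p G)

theorem finite_lam : Finite L.Lam :=
  haveI := L.isMulCommutative
  haveI := BlocksFrobenius.finite_dual (A := (L.P : Subgroup G))
  inferInstance

theorem finite_pair : Finite L.Pair :=
  haveI := L.finite_lam
  inferInstance

/-- Composition with conjugation on `P`. -/
def lamBy (n : L.N) (l : L.Lam) : L.Lam :=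
  ⟨l.1.comp (L.autP n).toMonoidHom, fun h => l.2 (MonoidHom.ext fun u => by
    have := DFunLike.congr_fun h ((L.autP n).symm u)
    simpa using this)⟩

/-- Composition with conjugation on `K`. -/
def phiBy (n : L.N) (φ : IrrCharacter L.K) : IrrCharacter L.K :=
  ⟨fun k => (φ : L.K → ℂ) (L.autK n k),
    isIrr_comp (L.autK n).toMonoidHom (L.autK n).surjective φ.2⟩

/-- The action on pairs. -/
def pairBy (n : L.N) (a : L.Pair) : L.Pair := (L.lamBy n a.1, L.phiBy n a.2)

theorem lamBy_apply (n : L.N) (l : L.Lam) (u : (L.P : Subgroup G)) :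
    (L.lamBy n l).1 u = l.1 (L.autP n u) := rfl

theorem phiBy_apply (n : L.N) (φ : IrrCharacter L.K) (k : L.K) :
    (L.phiBy n φ : L.K → ℂ) k = (φ : L.K → ℂ) (L.autK n k) := rfl

theorem autP_one (u : (L.P : Subgroup G)) : L.autP 1 u = u := Subtype.ext (by simp)
theorem autK_one (k : L.K) : L.autK 1 k = k := Subtype.ext (by simp)
theorem autP_mul (n m : L.N) (u : (L.P : Subgroup G)) :
    L.autP (n * m) u = L.autP n (L.autP m u) := Subtype.ext (by simp [mul_assoc])
theorem autK_mul (n m : L.N) (k : L.K) :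
    L.autK (n * m) k = L.autK n (L.autK m k) := Subtype.ext (by simp [mul_assoc])

theorem lamBy_one (l : L.Lam) : L.lamBy 1 l = l :=
  Subtype.ext (MonoidHom.ext fun u => congrArg l.1 (L.autP_one u))

theorem lamBy_mul (n m : L.N) (l : L.Lam) : L.lamBy (n * m) l = L.lamBy m (L.lamBy n l) :=
  Subtype.ext (MonoidHom.ext fun u => congrArg l.1 (L.autP_mul n m u))

theorem phiBy_one (φ : IrrCharacter L.K) : L.phiBy 1 φ = φ :=
  Subtype.ext (funext fun k => congrArg (φ : L.K → ℂ) (L.autK_one k))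

theorem phiBy_mul (n m : L.N) (φ : IrrCharacter L.K) :
    L.phiBy (n * m) φ = L.phiBy m (L.phiBy n φ) :=
  Subtype.ext (funext fun k => congrArg (φ : L.K → ℂ) (L.autK_mul n m k))

theorem pairBy_one (a : L.Pair) : L.pairBy 1 a = a :=
  Prod.ext (L.lamBy_one _) (L.phiBy_one _)

theorem pairBy_mul (n m : L.N) (a : L.Pair) : L.pairBy (n * m) a = L.pairBy m (L.pairBy n a) :=
  Prod.ext (L.lamBy_mul _ _ _) (L.phiBy_mul _ _ _)

/-- Orbits on pairs. -/
def pairSetoid : Setoid L.Pair where
  r a b := ∃ n : L.N, b = L.pairBy n a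
  iseqv :=
    { refl := fun a => ⟨1, (L.pairBy_one a).symm⟩
      symm := fun {a b} ⟨n, hn⟩ => ⟨n⁻¹, by
        rw [hn, ← L.pairBy_mul, mul_inv_cancel, L.pairBy_one]⟩
      trans := fun {a b c} ⟨n, hn⟩ ⟨m, hm⟩ => ⟨n * m, by rw [hm, hn, L.pairBy_mul]⟩ }

/-- Orbits on characters of `K`. -/
def phiSetoid : Setoid (IrrCharacter L.K) where
  r a b := ∃ n : L.N, b = L.phiBy n a
  iseqv :=
    { refl := fun a => ⟨1, (L.phiBy_one a).symm⟩
      symm := fun {a b} ⟨n, hn⟩ => ⟨n⁻¹, by
        rw [hn, ← L.phiBy_mul, mul_inv_cancel, L.phiBy_one]⟩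
      trans := fun {a b c} ⟨n, hn⟩ ⟨m, hm⟩ => ⟨n * m, by rw [hm, hn, L.phiBy_mul]⟩ }

/-- The columns. -/
def Col : Type u := Quotient L.pairSetoid

/-- The orbits of the characters of `K`. -/
def Orb : Type u := Quotient L.phiSetoid

/-- The column of a pair. -/
def col (a : L.Pair) : L.Col := Quotient.mk _ a

/-- The orbit of a character of `K`. -/
def orb (φ : IrrCharacter L.K) : L.Orb := Quotient.mk _ φ

theorem orb_eq_iff {φ φ' : IrrCharacter L.K} :
    L.orb φ = L.orb φ' ↔ ∃ n : L.N, φ' = L.phiBy n φ :=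
  ⟨fun h => Quotient.exact h, fun h => Quotient.sound h⟩

theorem col_eq_iff {a b : L.Pair} : L.col a = L.col b ↔ ∃ n : L.N, b = L.pairBy n a :=
  ⟨fun h => Quotient.exact h, fun h => Quotient.sound h⟩

theorem finite_col : Finite L.Col := by
  haveI := L.finite_pair
  exact Finite.of_surjective L.col (fun q => Quotient.exists_rep q)

theorem finite_orb : Finite L.Orb :=
  Finite.of_surjective L.orb (fun q => Quotient.exists_rep q)

/-- The orbit below a column. -/
def under : L.Col → L.Orb :=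
  Quotient.lift (fun a => L.orb a.2) fun _ _ ⟨n, hn⟩ =>
    L.orb_eq_iff.2 ⟨n, congrArg Prod.snd hn⟩

theorem under_col (a : L.Pair) : L.under (L.col a) = L.orb a.2 := rfl

/-! ### The functions and their products -/

/-- The function `(1 - λ) φ`. -/
noncomputable def psi (a : L.Pair) (x : L.PK) : ℂ :=
  (1 - (a.1.1 x.1 : ℂ)) * (a.2 : L.K → ℂ) x.2

theorem psi_eq_zero {a : L.Pair} {x : L.PK} (h : x.1 = 1) : L.psi a x = 0 := by
  simp [psi, h]

theorem psi_pairBy (n : L.N) (a : L.Pair) (x : L.PK) :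
    L.psi (L.pairBy n a) x = L.psi a (L.autP n x.1, L.autK n x.2) := rfl

variable [Fintype G]

theorem card_PK : Nat.card L.PK = p * Nat.card L.K := by rw [Nat.card_prod, L.card_P]

theorem sum_PK [Fintype L.PK] [Fintype ↥(L.P : Subgroup G)] [Fintype L.K] (f : L.PK → ℂ) :
    ∑ x : L.PK, f x = ∑ u, ∑ k, f (u, k) :=
  by
  rw [← Fintype.sum_prod_type]
  exact Finset.sum_congr (by ext; simp) fun _ _ => rfl

open Classical in
theorem classInner_psi [Fintype L.PK] (a b : L.Pair) :
    Cfsg.classInner (L.psi a) (L.psi b) =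
      if a.2 = b.2 then (1 + if a.1 = b.1 then 1 else 0) else 0 := by
  haveI := Fintype.ofFinite (L.P : Subgroup G)
  haveI := Fintype.ofFinite L.K
  have h1 : ∀ (A : ↥(L.P : Subgroup G) → ℂ) (B : L.K → ℂ) (C : ↥(L.P : Subgroup G) → ℂ)
      (D : L.K → ℂ), Cfsg.classInner (fun x : L.PK => A x.1 * B x.2) (fun x => C x.1 * D x.2) =
        Cfsg.classInner A C * Cfsg.classInner B D := by
    intro A B C D
    simp only [Cfsg.classInner]
    rw [mul_mul_mul_comm, Finset.sum_mul_sum, L.sum_PK, Nat.card_prod, Nat.cast_mul,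
      mul_inv]
    congr 1
    refine Finset.sum_congr rfl fun u _ => Finset.sum_congr rfl fun k _ => ?_
    rw [map_mul]; ring
  have h2 : Cfsg.classInner (L.psi a) (L.psi b) =
      Cfsg.classInner (fun u => 1 - (a.1.1 u : ℂ)) (fun u => 1 - (b.1.1 u : ℂ)) *
        Cfsg.classInner (a.2 : L.K → ℂ) (b.2 : L.K → ℂ) :=
    h1 (fun u => 1 - (a.1.1 u : ℂ)) (a.2 : L.K → ℂ) (fun u => 1 - (b.1.1 u : ℂ)) (b.2 : L.K → ℂ)
  have hl : ∀ f g : ↥(L.P : Subgroup G) →* ℂˣ,
      Cfsg.classInner (fun u => (f u : ℂ)) (fun u => (g u : ℂ)) = if f = g then 1 else 0 := by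
    intro f g
    split_ifs with h
    · subst h; exact classInner_isIrr_self (isIrr_linChar f)
    · exact classInner_isIrr_ne (isIrr_linChar f) (isIrr_linChar g) fun he => h (MonoidHom.ext fun u =>
        Units.ext (congrFun he u))
  have h3 : Cfsg.classInner (fun u => 1 - (a.1.1 u : ℂ)) (fun u => 1 - (b.1.1 u : ℂ)) =
      1 + if a.1 = b.1 then 1 else 0 := by
    have he : ∀ f : ↥(L.P : Subgroup G) →* ℂˣ, (fun u => 1 - (f u : ℂ)) =
        (fun u => ((1 : ↥(L.P : Subgroup G) →* ℂˣ) u : ℂ)) - fun u => (f u : ℂ) :=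
      fun f => funext fun u => by simp
    rw [he, he, classInner_sub_left, classInner_sub_right, classInner_sub_right, hl, hl, hl, hl,
      if_pos rfl, if_neg (Ne.symm b.1.2), if_neg a.1.2]
    simp only [sub_zero, zero_sub, sub_neg_eq_add, add_right_inj, Subtype.ext_iff]
  rw [h2, h3, classInner_irr]
  split_ifs <;> simp

/-- The restriction to `P × K`. -/
def res (f : G → ℂ) (x : L.PK) : ℂ := f (L.emb x)

open Classical in
/-- The coefficient of a character at a pair. -/
noncomputable def cvec (χ : IrrCharacter G) (a : L.Pair) : ℂ :=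
  letI := Fintype.ofFinite L.PK
  Cfsg.classInner (L.res (χ : G → ℂ)) (L.psi a)

theorem cvec_eq [Fintype L.PK] (χ : IrrCharacter G) (a : L.Pair) :
    L.cvec χ a = Cfsg.classInner (L.res (χ : G → ℂ)) (L.psi a) :=
  by unfold cvec; rw [Subsingleton.elim (Fintype.ofFinite L.PK) ‹Fintype L.PK›]

theorem isCharacter_res (χ : IrrCharacter G) : Cfsg.IsCharacter L.PK (L.res (χ : G → ℂ)) := by
  obtain ⟨d, ρ, -, hρ⟩ := χ.2
  exact ⟨d, ρ.comp L.emb, funext fun x => congrFun hρ (L.emb x)⟩

theorem isIrr_tensor (l : ↥(L.P : Subgroup G) →* ℂˣ) (φ : IrrCharacter L.K) :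
    Cfsg.IsIrrCharacter L.PK (fun x => (l x.1 : ℂ) * (φ : L.K → ℂ) x.2) := by
  have h := isIrr_comp (MonoidHom.snd (L.P : Subgroup G) L.K)
    (fun k => ⟨(1, k), rfl⟩) φ.2
  obtain ⟨d, hd⟩ : ∃ d : ℕ, (φ : L.K → ℂ) 1 = d := exists_degree (isCharacter_of_isIrr φ.2)
  exact (CharactersDeep.ExtensionCriteria.twist h (d := d) hd (l.comp (MonoidHom.fst _ _))).1

theorem exists_int_cvec (χ : IrrCharacter G) (a : L.Pair) :
    ∃ z : ℤ, L.cvec χ a = z := by
  letI := Fintype.ofFinite L.PK
  obtain ⟨m, hm⟩ := classInner_character_irr (L.isCharacter_res χ) (L.isIrr_tensor 1 a.2)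
  obtain ⟨n, hn⟩ := classInner_character_irr (L.isCharacter_res χ) (L.isIrr_tensor a.1.1 a.2)
  refine ⟨(m : ℤ) - n, ?_⟩
  rw [L.cvec_eq, show L.psi a = (fun x => (((1 : ↥(L.P : Subgroup G) →* ℂˣ) x.1 : ℂˣ) : ℂ) *
      (a.2 : L.K → ℂ) x.2) - (fun x => (a.1.1 x.1 : ℂ) * (a.2 : L.K → ℂ) x.2) from
    funext fun x => by simp [psi, sub_mul], classInner_sub_right, hm, hn]
  push_cast
  rfl

theorem conj_cvec (χ : IrrCharacter G) (a : L.Pair) : conj (L.cvec χ a) = L.cvec χ a := by
  obtain ⟨z, hz⟩ := L.exists_int_cvec χ a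
  rw [hz, map_intCast]

theorem cvec_pairBy (χ : IrrCharacter G) (n : L.N) (a : L.Pair) :
    L.cvec χ (L.pairBy n a) = L.cvec χ a := by
  letI := Fintype.ofFinite L.PK
  rw [L.cvec_eq, L.cvec_eq, Cfsg.classInner, Cfsg.classInner]
  congr 1
  refine Fintype.sum_equiv ((L.autP n).toEquiv.prodCongr (L.autK n).toEquiv) _ _ fun x => ?_
  show L.res (χ : G → ℂ) x * conj (L.psi (L.pairBy n a) x) =
    L.res (χ : G → ℂ) (L.autP n x.1, L.autK n x.2) * conj (L.psi a (L.autP n x.1, L.autK n x.2))
  rw [psi_pairBy, res, res, ← L.conj_emb, isClassFunction_of_isIrr χ.2]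

/-- Elements of the normalizer fixing a pair are in the centralizer, and conversely. -/
theorem phiBy_of_centralizer {n : L.N} (φ : IrrCharacter L.K)
    (hn : (n : G) ∈ Subgroup.centralizer ((L.P : Subgroup G) : Set G)) : L.phiBy n φ = φ := by
  obtain ⟨u, hu, c, hc, he⟩ := L.decomp _ hn
  refine Subtype.ext (funext fun k => ?_)
  rw [phiBy_apply]
  refine (congrArg (φ : L.K → ℂ) (Subtype.ext ?_)).trans
    (isClassFunction_of_isIrr φ.2 k ⟨c, hc⟩)
  simp only [coe_autK, he, Subgroup.coe_mul, InvMemClass.coe_inv]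
  have h1 := (L.commute hu (L.K.mul_mem (L.K.mul_mem hc k.2) (L.K.inv_mem hc))).eq
  calc u * c * (k : G) * (u * c)⁻¹ = u * (c * k * c⁻¹) * u⁻¹ := by group
    _ = c * k * c⁻¹ := by rw [h1, mul_inv_cancel_right]

theorem lamBy_eq_self_iff (n : L.N) (l : L.Lam) :
    L.lamBy n l = l ↔ (n : G) ∈ Subgroup.centralizer ((L.P : Subgroup G) : Set G) := by
  constructor
  · intro h
    refine Subgroup.mem_centralizer_iff.2 fun w hw => ?_
    have hinj : Function.Injective l.1 := by
      rw [← MonoidHom.ker_eq_bot_iff]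
      haveI : Fact (Nat.card (L.P : Subgroup G)).Prime := ⟨by rw [L.card_P]; exact Fact.out⟩
      rcases l.1.ker.eq_bot_or_eq_top_of_prime_card with hb | ht
      · exact hb
      · exact absurd (MonoidHom.ext fun x => (MonoidHom.mem_ker.1 (ht ▸ Subgroup.mem_top x))) l.2
    have h1 : l.1 (L.autP n ⟨w, hw⟩) = l.1 ⟨w, hw⟩ :=
      DFunLike.congr_fun (congrArg Subtype.val h) ⟨w, hw⟩
    have h2 := congrArg Subtype.val (hinj h1)
    simp only [coe_autP] at h2
    exact (mul_inv_eq_iff_eq_mul.1 h2).symm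
  · intro h
    refine Subtype.ext (MonoidHom.ext fun u => congrArg l.1 (Subtype.ext ?_))
    show (n : G) * u * (n : G)⁻¹ = u
    rw [← Subgroup.mem_centralizer_iff.1 h u u.2, mul_inv_cancel_right]

/-- The stabilizer of a character of `K` in the normalizer. -/
noncomputable def stabCard (φ : IrrCharacter L.K) : ℕ :=
  Nat.card {n : L.N // L.phiBy n φ = φ}

theorem card_pair_transporter (a b : L.Pair) [Decidable (L.col a = L.col b)] :
    Nat.card {n : L.N // L.pairBy n b = a} =
      if L.col a = L.col b then p * Nat.card L.K else 0 := by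
  split_ifs with h
  · obtain ⟨m, hm⟩ := L.col_eq_iff.1 h.symm
    rw [← L.card_centralizer]
    refine Nat.card_congr
      { toFun := fun n => ⟨((m⁻¹ * n.1 : L.N) : G), ?_⟩
        invFun := fun c => ⟨m * ⟨c.1, Subgroup.centralizer_le_normalizer _ c.2⟩, ?_⟩
        left_inv := fun n => Subtype.ext (mul_inv_cancel_left m n.1)
        right_inv := fun c => Subtype.ext (by simp) }
    · rw [← L.lamBy_eq_self_iff _ a.1, L.lamBy_mul]
      have h2 : L.pairBy m⁻¹ a = b := by
        rw [hm, ← L.pairBy_mul, mul_inv_cancel, L.pairBy_one]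
      rw [show L.lamBy m⁻¹ a.1 = b.1 from congrArg Prod.fst h2]
      exact congrArg Prod.fst n.2
    · rw [L.pairBy_mul, ← hm]
      exact Prod.ext ((L.lamBy_eq_self_iff _ a.1).2 c.2) (L.phiBy_of_centralizer a.2 c.2)
  · haveI : IsEmpty {n : L.N // L.pairBy n b = a} :=
      ⟨fun n => h (L.col_eq_iff.2 ⟨n.1, n.2.symm⟩).symm⟩
    exact Nat.card_of_isEmpty

theorem card_phi_transporter (φ φ' : IrrCharacter L.K) [Decidable (L.orb φ = L.orb φ')] :
    Nat.card {n : L.N // L.phiBy n φ' = φ} = if L.orb φ = L.orb φ' then L.stabCard φ else 0 := by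
  split_ifs with h
  · obtain ⟨m, hm⟩ := L.orb_eq_iff.1 h.symm
    refine Nat.card_congr
      { toFun := fun n => ⟨m⁻¹ * n.1, ?_⟩
        invFun := fun c => ⟨m * c.1, ?_⟩
        left_inv := fun n => Subtype.ext (mul_inv_cancel_left m n.1)
        right_inv := fun c => Subtype.ext (inv_mul_cancel_left m c.1) }
    · rw [L.phiBy_mul, show L.phiBy m⁻¹ φ = φ' by rw [hm, ← L.phiBy_mul, mul_inv_cancel, L.phiBy_one]]
      exact n.2
    · rw [L.phiBy_mul, ← hm]; exact c.2
  · haveI : IsEmpty {n : L.N // L.phiBy n φ' = φ} :=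
      ⟨fun n => h (L.orb_eq_iff.2 ⟨n.1, n.2.symm⟩).symm⟩
    exact Nat.card_of_isEmpty

open Classical in
/-- The Gram matrix. -/
theorem gram_cvec (a b : L.Pair) :
    ∑ χ : IrrCharacter G, L.cvec χ a * L.cvec χ b =
      (if L.orb a.2 = L.orb b.2 then (L.stabCard a.2 : ℂ) / (p * Nat.card L.K : ℕ) else 0) +
        if L.col a = L.col b then 1 else 0 := by
  letI := Fintype.ofFinite L.PK
  haveI := Fintype.ofFinite L.N
  set c : ℂ := (Nat.card L.PK : ℂ)⁻¹ with hc
  have key : ∀ x : L.PK, ∑ y : L.PK, conj (L.psi a x) * L.psi b y *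
      (Nat.card {g : G // g * L.emb x * g⁻¹ = L.emb y} : ℂ) =
      ∑ n : L.N, conj (L.psi a x) * L.psi (L.pairBy n b) x := by
    intro x
    by_cases hx : x.1 = 1
    · simp [L.psi_eq_zero hx]
    have hcard : ∀ y, (Nat.card {g : G // g * L.emb x * g⁻¹ = L.emb y} : ℂ) =
        ∑ n : L.N, if (L.autP n x.1, L.autK n x.2) = y then 1 else 0 := by
      intro y
      rw [Finset.sum_boole, ← Fintype.card_subtype, ← Nat.card_eq_fintype_card]
      congr 1
      refine Nat.card_congr
        { toFun := fun g => ⟨⟨g.1, L.mem_N_of_conj_emb hx g.2⟩, L.emb_injective ?_⟩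
          invFun := fun n => ⟨n.1, by rw [L.conj_emb, n.2]⟩
          left_inv := fun g => rfl
          right_inv := fun n => rfl }
      rw [← L.conj_emb]; exact g.2
    simp only [hcard, Finset.mul_sum]
    rw [Finset.sum_comm]
    refine Finset.sum_congr rfl fun n _ => ?_
    rw [Finset.sum_eq_single (L.autP n x.1, L.autK n x.2)
      (fun y _ hy => by rw [if_neg (Ne.symm hy), mul_zero]) (by simp), if_pos rfl, mul_one,
      psi_pairBy]
  have step : ∑ χ : IrrCharacter G, L.cvec χ a * L.cvec χ b =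
      c * ∑ n : L.N, Cfsg.classInner (L.psi (L.pairBy n b)) (L.psi a) := by
    calc ∑ χ : IrrCharacter G, L.cvec χ a * L.cvec χ b
        = ∑ χ : IrrCharacter G, L.cvec χ a * conj (L.cvec χ b) := by simp only [L.conj_cvec]
      _ = ∑ χ : IrrCharacter G, ∑ x : L.PK, ∑ y : L.PK,
          c * c * (conj (L.psi a x) * L.psi b y * ((χ : G → ℂ) (L.emb x) * conj ((χ : G → ℂ) (L.emb y)))) := by
          refine Finset.sum_congr rfl fun χ _ => ?_
          rw [L.cvec_eq, L.cvec_eq, Cfsg.classInner, Cfsg.classInner]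
          simp only [map_mul, map_sum, map_inv₀, Complex.conj_natCast, Complex.conj_conj, res]
          rw [mul_mul_mul_comm, ← hc, Finset.sum_mul_sum, Finset.mul_sum]
          refine Finset.sum_congr rfl fun x _ => ?_
          rw [Finset.mul_sum]
          exact Finset.sum_congr rfl fun y _ => by ring
      _ = c * c * ∑ x : L.PK, ∑ y : L.PK, conj (L.psi a x) * L.psi b y *
            (Nat.card {g : G // g * L.emb x * g⁻¹ = L.emb y} : ℂ) := by
          rw [Finset.sum_comm, Finset.mul_sum]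
          refine Finset.sum_congr rfl fun x _ => ?_
          rw [Finset.sum_comm, Finset.mul_sum]
          refine Finset.sum_congr rfl fun y _ => ?_
          rw [← sum_irr_mul_conj, Finset.mul_sum, Finset.mul_sum]
      _ = _ := by
          rw [Finset.sum_congr rfl fun x _ => key x, Finset.sum_comm, mul_assoc]
          congr 1
          rw [Finset.mul_sum]
          refine Finset.sum_congr rfl fun n _ => ?_
          rw [Cfsg.classInner, ← hc]
          congr 1
          exact Finset.sum_congr rfl fun x _ => mul_comm _ _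
  rw [step]
  simp only [L.classInner_psi]
  have hsum : ∑ n : L.N, (if (L.pairBy n b).2 = a.2 then
      (1 + if (L.pairBy n b).1 = a.1 then (1 : ℂ) else 0) else 0) =
      (Nat.card {n : L.N // L.phiBy n b.2 = a.2} : ℂ) + Nat.card {n : L.N // L.pairBy n b = a} := by
    rw [Nat.card_eq_fintype_card, Nat.card_eq_fintype_card, Fintype.card_subtype, Fintype.card_subtype,
      ← Finset.sum_boole, ← Finset.sum_boole, ← Finset.sum_add_distrib]
    refine Finset.sum_congr rfl fun n _ => ?_
    show (if L.phiBy n b.2 = a.2 then (1 + if L.lamBy n b.1 = a.1 then (1 : ℂ) else 0) else 0) = _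
    by_cases h2 : L.phiBy n b.2 = a.2
    · rw [if_pos h2, if_pos h2]
      congr 1
      by_cases h1 : L.lamBy n b.1 = a.1
      · rw [if_pos h1, if_pos (Prod.ext h1 h2 : L.pairBy n b = a)]
      · rw [if_neg h1, if_neg fun e : L.pairBy n b = a => h1 (congrArg Prod.fst e)]
    · rw [if_neg h2, if_neg h2, if_neg fun e : L.pairBy n b = a => h2 (congrArg Prod.snd e),
        add_zero]
  rw [hsum, L.card_phi_transporter, L.card_pair_transporter, hc, L.card_PK]
  have hne : ((p * Nat.card L.K : ℕ) : ℂ) ≠ 0 :=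
    Nat.cast_ne_zero.2 (mul_ne_zero (Fact.out : p.Prime).ne_zero Nat.card_pos.ne')
  split_ifs <;> field_simp [hne] <;> push_cast <;> ring

open Classical in
/-- A class function with all coefficients zero vanishes on the singular part. -/
theorem eq_zero_of_coeff [Fintype L.PK] (f : G → ℂ) (hf : Cfsg.IsClassFunction G f)
    (h : ∀ a, Cfsg.classInner (L.res f) (L.psi a) = 0) {x : L.PK}
    (hx : x.1 ≠ 1) : f (L.emb x) = 0 := by
  haveI := L.isMulCommutative
  haveI := Fintype.ofFinite (L.P : Subgroup G)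
  haveI := Fintype.ofFinite L.K
  haveI : Finite (↥(L.P : Subgroup G) →* ℂˣ) := BlocksFrobenius.finite_dual
  haveI := Fintype.ofFinite (↥(L.P : Subgroup G) →* ℂˣ)
  -- the functions `u ↦ ⟨χ (u ·), φ⟩`
  set g : IrrCharacter L.K → ↥(L.P : Subgroup G) → ℂ := fun φ u =>
    Cfsg.classInner (fun k : L.K => f (L.emb (u, k))) (φ : L.K → ℂ) with hg
  have hzero : ∀ φ u, u ≠ 1 → g φ u = 0 := by
    intro φ u hu
    have hcoef : ∀ l : ↥(L.P : Subgroup G) →* ℂˣ,
        ∑ v, g φ v * (1 - conj (l v : ℂ)) = 0 := by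
      intro l
      by_cases hl : l = 1
      · simp [hl]
      have h1 := h (⟨l, hl⟩, φ)
      rw [Cfsg.classInner, mul_eq_zero, inv_eq_zero,
        or_iff_right (Nat.cast_ne_zero.2 Nat.card_pos.ne')] at h1
      simp only [hg, Cfsg.classInner, Finset.mul_sum, Finset.sum_mul]
      rw [L.sum_PK] at h1
      have h2 := congrArg (fun z : ℂ => (Nat.card L.K : ℂ)⁻¹ * z) h1
      simp only [mul_zero, Finset.mul_sum] at h2
      refine Eq.trans ?_ h2
      refine Finset.sum_congr rfl fun v _ => Finset.sum_congr rfl fun k _ => ?_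
      simp only [psi, res, map_mul, map_sub, map_one]
      ring
    have h3 : ∑ l : ↥(L.P : Subgroup G) →* ℂˣ, (∑ v, g φ v * (1 - conj (l v : ℂ))) * (l u : ℂ) = 0 :=
      Finset.sum_eq_zero fun l _ => by rw [hcoef, zero_mul]
    have h4 : ∀ v, ∑ l : ↥(L.P : Subgroup G) →* ℂˣ, (1 - conj (l v : ℂ)) * (l u : ℂ) =
        if v = u then -(p : ℂ) else 0 := by
      intro v
      have h5 : ∀ l : ↥(L.P : Subgroup G) →* ℂˣ, (1 - conj (l v : ℂ)) * (l u : ℂ) =
          (l u : ℂ) - (l (v⁻¹ * u) : ℂ) := fun l => by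
        rw [sub_mul, one_mul, BlocksFrobenius.conj_apply, map_mul, map_inv, Units.val_mul,
          MonoidHom.inv_apply]
      simp only [h5, Finset.sum_sub_distrib, BlocksFrobenius.sum_dual_apply, if_neg hu, L.card_P,
        inv_mul_eq_one]
      split_ifs <;> simp
    simp only [Finset.sum_mul, mul_assoc] at h3
    rw [Finset.sum_comm] at h3
    simp only [← Finset.mul_sum, h4, mul_ite, mul_zero, Finset.sum_ite_eq', Finset.mem_univ,
      if_true, mul_neg, neg_eq_zero, mul_eq_zero] at h3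
    exact h3.resolve_right (Nat.cast_ne_zero.2 (Fact.out : p.Prime).ne_zero)
  have hcl : Cfsg.IsClassFunction L.K (fun k : L.K => f (L.emb (x.1, k))) := by
    intro k l
    have : L.emb (x.1, l * k * l⁻¹) = (l : G) * L.emb (x.1, k) * (l : G)⁻¹ := by
      simp only [emb_apply, Subgroup.coe_mul, InvMemClass.coe_inv]
      rw [← mul_assoc (l : G) (x.1 : G), ← (L.commute x.1.2 l.2).eq]
      group
    show f (L.emb (x.1, l * k * l⁻¹)) = _
    rw [this, hf]
  have := congrFun (classFunction_expansion hcl) x.2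
  rw [Finset.sum_apply, Finset.sum_eq_zero fun φ _ => by
    show (Cfsg.classInner _ _ • (φ : L.K → ℂ)) x.2 = 0
    rw [Pi.smul_apply, show Cfsg.classInner (fun k : L.K => f (L.emb (x.1, k)))
      (φ : L.K → ℂ) = 0 from hzero φ x.1 hx, zero_smul]] at this
  exact this

/-- A character not vanishing somewhere on the singular part has a nonzero coefficient. -/
theorem apply_emb_eq_zero (χ : IrrCharacter G) (h : ∀ a, L.cvec χ a = 0) {x : L.PK}
    (hx : x.1 ≠ 1) : (χ : G → ℂ) (L.emb x) = 0 := by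
  letI := Fintype.ofFinite L.PK
  exact L.eq_zero_of_coeff _ (isClassFunction_of_isIrr χ.2)
    (fun a => (L.cvec_eq χ a).symm.trans (h a)) hx

/-- Degrees prime to `p` give nonzero coefficients. -/
theorem exists_cvec_ne_zero (χ : IrrCharacter G) (hχ : ¬ p ∣ Cfsg.charDegree (χ : G → ℂ)) :
    ∃ a, L.cvec χ a ≠ 0 := by
  classical
  by_contra hno
  push Not at hno
  apply hχ
  haveI := Fintype.ofFinite (L.P : Subgroup G)
  obtain ⟨m, hm⟩ := classInner_character_irr
    (isCharacter_restrict (L.P : Subgroup G) (isCharacter_of_isIrr χ.2))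
    (isIrr_one (G := (L.P : Subgroup G)))
  have hv : ∀ u : (L.P : Subgroup G), u ≠ 1 → (χ : G → ℂ) u = 0 := fun u hu => by
    have := L.apply_emb_eq_zero χ hno (x := (u, 1)) hu
    simpa [emb_apply] using this
  rw [Cfsg.classInner, Finset.sum_eq_single 1 (fun u _ hu => by simp [hv u hu]) (by simp),
    L.card_P, map_one, mul_one, OneMemClass.coe_one, ← Blocks.charDegree_cast, inv_mul_eq_iff_eq_mul₀
      (Nat.cast_ne_zero.2 (Fact.out : p.Prime).ne_zero)] at hm
  exact ⟨m, by exact_mod_cast hm⟩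

end Local

end CfsgLib.DefectOne
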